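import Cfsg.Agent.Lib.CharTheory.RelDegreeShape
import Cfsg.Agent.Lib.CharTheory.ExtCriteria
import Cfsg.Agent.Lib.CharTheory.AbelianInertia

/-!
Counting irreducible characters over a character: basic language for the relative McKay count of
`p`-solvable groups.
-/

set_option autoImplicit false

namespace CfsgLib.RelMcKay

open Cfsg CfsgLib.CharTheory
open scoped ComplexConjugate

universe u v w

variable {K : Type u} {H : Type v} [Group K] [Group H]

/-- `θ` occurs in the restriction of `χ` along `ι`. -/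
def Lies (ι : K →* H) (θ : K → ℂ) (χ : H → ℂ) : Prop := ∑ᶠ k : K, χ (ι k) * conj (θ k) ≠ 0

/-- The number of irreducible characters over `θ` whose degree satisfies `P`. -/
noncomputable def cnt (ι : K →* H) (θ : K → ℂ) (P : ℕ → Prop) : ℕ :=
  Nat.card {χ : IrrCharacter H // P (charDegree (χ : H → ℂ)) ∧ Lies ι θ (χ : H → ℂ)}

/-- `θ` extends along `ι`. -/
def ExtTo (ι : K →* H) (θ : K → ℂ) : Prop :=
  ∃ χ : H → ℂ, IsIrrCharacter H χ ∧ ∀ k, χ (ι k) = θ k

theorem lies_iff [Fintype K] (ι : K →* H) (θ : K → ℂ) (χ : H → ℂ) :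
    Lies ι θ χ ↔ classInner (fun k => χ (ι k)) θ ≠ 0 := by
  unfold Lies classInner
  rw [finsum_eq_sum_of_fintype, mul_ne_zero_iff]
  exact ⟨fun h => ⟨inv_ne_zero (Nat.cast_ne_zero.mpr Nat.card_pos.ne'), h⟩, fun h => h.2⟩

theorem lies_congr {K' : Type w} {H' : Type w} [Group K'] [Group H'] {ι : K →* H} {ι' : K' →* H'}
    (eK : K ≃* K') (eH : H ≃* H') (hι : ∀ k, eH (ι k) = ι' (eK k)) (θ : K' → ℂ) (χ : H' → ℂ) :
    Lies ι (fun k => θ (eK k)) (fun h => χ (eH h)) ↔ Lies ι' θ χ := by
  unfold Lies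
  rw [show (∑ᶠ k : K, χ (eH (ι k)) * conj (θ (eK k))) = ∑ᶠ k : K', χ (ι' k) * conj (θ k) from
    (finsum_eq_of_bijective eK eK.bijective fun k => by rw [hι])]

theorem charDegree_comp_equiv {H' : Type w} [Group H'] (e : H ≃* H') (χ : H' → ℂ) :
    charDegree (fun h => χ (e h)) = charDegree χ := by
  unfold charDegree
  simp only [map_one]

/-- Irreducible characters of isomorphic groups. -/
noncomputable def irrEquiv {H' : Type w} [Group H'] (e : H ≃* H') : IrrCharacter H' ≃ IrrCharacter H where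
  toFun χ := ⟨fun h => (χ : H' → ℂ) (e h), isIrrCharacter_comp_surjective χ.2 e.toMonoidHom e.surjective⟩
  invFun χ := ⟨fun h => (χ : H → ℂ) (e.symm h),
    isIrrCharacter_comp_surjective χ.2 e.symm.toMonoidHom e.symm.surjective⟩
  left_inv χ := Subtype.ext (funext fun h => congrArg (χ : H' → ℂ) (e.apply_symm_apply h))
  right_inv χ := Subtype.ext (funext fun h => congrArg (χ : H → ℂ) (e.symm_apply_apply h))

theorem cnt_congr {K' : Type w} {H' : Type w} [Group K'] [Group H'] {ι : K →* H} {ι' : K' →* H'}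
    (eK : K ≃* K') (eH : H ≃* H') (hι : ∀ k, eH (ι k) = ι' (eK k)) {θ : K → ℂ} {θ' : K' → ℂ}
    (hθ : ∀ k, θ k = θ' (eK k)) (P : ℕ → Prop) : cnt ι θ P = cnt ι' θ' P := by
  obtain rfl : θ = fun k => θ' (eK k) := funext hθ
  refine (Nat.card_congr (Equiv.subtypeEquiv (irrEquiv eH) fun χ => ?_)).symm
  exact and_congr (Iff.of_eq (congrArg P (charDegree_comp_equiv eH _).symm))
    (lies_congr eK eH hι θ' χ).symm

theorem extTo_congr {K' : Type w} {H' : Type w} [Group K'] [Group H'] {ι : K →* H} {ι' : K' →* H'}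
    (eK : K ≃* K') (eH : H ≃* H') (hι : ∀ k, eH (ι k) = ι' (eK k)) {θ : K → ℂ} {θ' : K' → ℂ}
    (hθ : ∀ k, θ k = θ' (eK k)) : ExtTo ι θ ↔ ExtTo ι' θ' := by
  constructor
  · rintro ⟨χ, hχ, h⟩
    refine ⟨fun x => χ (eH.symm x),
      isIrrCharacter_comp_surjective hχ eH.symm.toMonoidHom eH.symm.surjective, fun k => ?_⟩
    obtain ⟨k, rfl⟩ := eK.surjective k
    show χ (eH.symm (ι' (eK k))) = _
    rw [← hι, MulEquiv.symm_apply_apply, h, hθ]
  · rintro ⟨χ, hχ, h⟩
    refine ⟨fun x => χ (eH x), isIrrCharacter_comp_surjective hχ eH.toMonoidHom eH.surjective, fun k => ?_⟩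
    show χ (eH (ι k)) = _
    rw [hι, h, hθ]

theorem extTo_le {G : Type u} [Group G] {K H₁ H₂ : Subgroup G} (h : H₁ = H₂) (hK₁ : K ≤ H₁)
    {θ : K → ℂ} : ExtTo (Subgroup.inclusion hK₁) θ ↔ ExtTo (Subgroup.inclusion (h ▸ hK₁ : K ≤ H₂)) θ := by
  subst h
  rfl

theorem charDegree_pos [Finite H] {χ : H → ℂ} (hχ : IsIrrCharacter H χ) : 0 < charDegree χ :=
  (charDegree_spec' hχ).2

theorem apply_one [Finite H] {χ : H → ℂ} (hχ : IsIrrCharacter H χ) : χ 1 = (charDegree χ : ℂ) :=
  (charDegree_spec' hχ).1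

/-- A constituent of the restriction. -/
theorem exists_lies [Finite H] [Finite K] (ι : K →* H) {χ : H → ℂ} (hχ : IsIrrCharacter H χ) :
    ∃ θ : IrrCharacter K, Lies ι (θ : K → ℂ) χ := by
  have := Fintype.ofFinite K
  have := Fintype.ofFinite H
  obtain ⟨θ, hθ, hc⟩ := exists_constituent (isCharacter_comp (isCharacter_of_irr hχ) ι)
    fun e => irr_ne_zero hχ (by have := congrFun e 1; rwa [map_one, Pi.zero_apply] at this)
  exact ⟨⟨θ, hθ⟩, (lies_iff ι θ χ).mpr hc⟩

theorem lies_of_ext [Finite K] {ι : K →* H} {θ : K → ℂ} (hθ : IsIrrCharacter K θ) {χ : H → ℂ}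
    (h : ∀ k, χ (ι k) = θ k) : Lies ι θ χ := by
  have := Fintype.ofFinite K
  rw [lies_iff, show (fun k => χ (ι k)) = θ from funext h, classInner_irr_self hθ]
  exact one_ne_zero

section Normal

variable {G : Type u} [Group G]

/-- Invariance of a function on a normal subgroup. -/
def Invariant (N : Subgroup G) [N.Normal] (θ : N → ℂ) : Prop := ∀ g : G, conjNormFun N g θ = θ

theorem invariant_iff (N : Subgroup G) [hN : N.Normal] (θ : N → ℂ) : Invariant N θ ↔
    ∀ (g : G) (x : N), θ ⟨g * x * g⁻¹, hN.conj_mem (x : G) x.2 g⟩ = θ x :=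
  ⟨fun h g x => congrFun (h g) x, fun h g => funext fun x => h g x⟩

/-- The restriction to a normal subgroup with invariant constituent. -/
theorem res_eq [Finite G] (N : Subgroup G) [N.Normal] {θ : N → ℂ} (hθ : IsIrrCharacter N θ)
    (hinv : Invariant N θ) {χ : G → ℂ} (hχ : IsIrrCharacter G χ) (h : Lies N.subtype θ χ) :
    ∃ e : ℕ, 0 < e ∧ charDegree χ = e * charDegree θ ∧ e ∣ N.index ∧
      ∀ n : N, χ n = (e : ℂ) * θ n := by
  have := Fintype.ofFinite G
  have := Fintype.ofFinite N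
  rw [lies_iff] at h
  have hc : classInner (fun n : N => χ n) θ ≠ 0 := h
  obtain ⟨e, he, hdvd⟩ := degree_ratio_dvd_of_invariant hχ hθ hc hinv
  obtain ⟨m, hm⟩ := classInner_char_nat (isCharacter_restrict (isCharacter_of_irr hχ) N)
    (isCharacter_of_irr hθ)
  have hr := clifford_invariant N hχ hθ hc hinv
  rw [hm] at hr
  have hme : (m : ℂ) = e := by
    have h1 := congrFun hr 1
    simp only [Pi.smul_apply, smul_eq_mul] at h1
    rw [show χ ((1 : N) : G) = χ 1 from rfl, he] at h1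
    exact (mul_right_cancel₀ (irr_ne_zero hθ) h1).symm
  rw [apply_one hχ, apply_one hθ, ← Nat.cast_mul, Nat.cast_inj] at he
  refine ⟨e, Nat.pos_of_ne_zero fun e0 => ?_, he, hdvd, fun n => ?_⟩
  · have := charDegree_pos hχ
    rw [he, e0, zero_mul] at this
    exact lt_irrefl 0 this
  · have := congrFun hr n
    simp only [Pi.smul_apply, smul_eq_mul] at this
    rw [← hme]
    exact this

theorem dvd_degree [Finite G] (N : Subgroup G) [N.Normal] {θ : N → ℂ} (hθ : IsIrrCharacter N θ)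
    {χ : G → ℂ} (hχ : IsIrrCharacter G χ) (h : Lies N.subtype θ χ) :
    (inertia N θ).index * charDegree θ ∣ charDegree χ := by
  have := Fintype.ofFinite G
  have := Fintype.ofFinite N
  rw [lies_iff] at h
  exact index_mul_degree_dvd N hχ hθ h

/-- With cyclic factor group every character over an invariant character extends it. -/
theorem ext_of_cyclic [Finite G] (N : Subgroup G) [N.Normal] {θ : N → ℂ} (hθ : IsIrrCharacter N θ)
    (hinv : Invariant N θ) (hcyc : IsCyclic (G ⧸ N)) {χ : G → ℂ} (hχ : IsIrrCharacter G χ)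
    (h : Lies N.subtype θ χ) : ∀ n : N, χ n = θ n := by
  have := Fintype.ofFinite G
  have := Fintype.ofFinite N
  rw [lies_iff] at h
  obtain ⟨η, hη, hres⟩ := exists_extension_of_cyclic hθ ((invariant_iff N θ).mp hinv) hcyc
  have hresirr : IsIrrCharacter N (fun n : N => η n) := (funext hres : _ = θ) ▸ hθ
  obtain ⟨β, hβ, hk, e⟩ := (gallagher N (isCharacter_of_irr hη) hresirr).2.2 χ hχ (by
    rw [show (fun n : N => η n) = θ from funext hres]; exact h)
  have hβ1 : β 1 = 1 := by
    refine irr_degree_one_of_kernel_commutator N (fun a b => ?_) hβ hk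
    obtain ⟨g, hg⟩ := hcyc.exists_generator
    rw [← QuotientGroup.eq_one_iff]
    obtain ⟨i, hi⟩ := hg (a : G ⧸ N)
    obtain ⟨j, hj⟩ := hg (b : G ⧸ N)
    simp only [QuotientGroup.mk_mul, QuotientGroup.mk_inv]
    rw [← hi, ← hj]
    simp only
    group
  intro n
  rw [e, Pi.mul_apply, hk n n.2, hβ1, one_mul, hres]

end Normal

section Central

variable {G : Type u} [Group G]

theorem irr_linear (lam : G →* ℂˣ) : IsIrrCharacter G (fun g => (lam g : ℂ)) := isIrrCharacter_linear lam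

theorem charDegree_linear (lam : G →* ℂˣ) : charDegree (fun g => (lam g : ℂ)) = 1 := by
  simp [charDegree]

theorem invariant_central (Z : Subgroup G) [Z.Normal] (hZ : Z ≤ Subgroup.center G) (θ : Z → ℂ) :
    Invariant Z θ := (invariant_iff Z θ).mpr fun g x => congrArg θ (Subtype.ext (by
      show g * (x : G) * g⁻¹ = x
      rw [Subgroup.mem_center_iff.mp (hZ x.2) g, mul_inv_cancel_right]))

theorem lies_central [Finite G] (Z : Subgroup G) [Z.Normal] (hZ : Z ≤ Subgroup.center G)
    (lam : Z →* ℂˣ) {χ : G → ℂ} (hχ : IsIrrCharacter G χ) :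
    Lies Z.subtype (fun z => (lam z : ℂ)) χ ↔ ∀ z : Z, χ z = χ 1 * (lam z : ℂ) := by
  constructor
  · intro h
    obtain ⟨e, -, hd, -, hz⟩ := res_eq Z (irr_linear lam) (invariant_central Z hZ _) hχ h
    intro z
    rw [hz, apply_one hχ, hd, charDegree_linear, mul_one]
  · intro h
    have := Fintype.ofFinite Z
    rw [lies_iff, show (fun z : Z => χ (Z.subtype z)) = χ 1 • fun z => (lam z : ℂ) from funext h,
      classInner_smul_left, classInner_irr_self (irr_linear lam), mul_one]
    have := Fintype.ofFinite G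
    exact irr_ne_zero hχ

end Central

end CfsgLib.RelMcKay
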