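import Cfsg.Agent.Lib.RelMcKay.Triple

/-!
The number of irreducible characters over an invariant character as a count of commuting pairs.
-/

set_option autoImplicit false
set_option linter.style.haveILetI false

namespace CfsgLib.RelMcKay

open Cfsg CfsgLib.CharTheory
open scoped ComplexConjugate

universe u

/-- A central subgroup acts by a linear character. -/
theorem exists_central_char {D : Type u} [Group D] [Finite D] (Z : Subgroup D) [Z.Normal]
    (hZ : Z ≤ Subgroup.center D) {χ : D → ℂ} (hχ : IsIrrCharacter D χ) :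
    ∃ μ : Z →* ℂˣ, ∀ (z : Z) (g : D), χ ((z : D) * g) = (μ z : ℂ) * χ g := by
  obtain ⟨n, ρ, hρ, rfl⟩ := id hχ
  haveI : Nontrivial (Fin n → ℂ) := by
    by_contra hsub
    rw [not_nontrivial_iff_subsingleton] at hsub
    exact bot_ne_top (α := Subrepresentation ρ) (Subrepresentation.toSubmodule_injective (Subsingleton.elim _ _))
  have hs : ∀ z : Z, ∃ c : ℂˣ, repUnits ρ z = scalarUnit (Fin n → ℂ) c := by
    intro z
    have h := eq_smul_id_of_commute ρ (ρ z) fun g => by
      rw [← map_mul, ← map_mul, Subgroup.mem_center_iff.mp (hZ z.2) g]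
    set c := LinearMap.trace ℂ _ (ρ z) / (Module.finrank ℂ (Fin n → ℂ) : ℂ)
    have hc : c ≠ 0 := fun e => by
      rw [e, zero_smul] at h
      exact (repUnits ρ z).ne_zero h
    exact ⟨Units.mk0 c hc, Units.ext (h.trans (coe_scalarUnit (V := Fin n → ℂ) (Units.mk0 c hc)).symm)⟩
  choose c hc using hs
  refine ⟨{ toFun := c, map_one' := ?_, map_mul' := fun a b => ?_ }, fun z g => ?_⟩
  · exact scalarUnit_injective (V := Fin n → ℂ) (by rw [← hc, map_one]; exact map_one _)
  · exact scalarUnit_injective (V := Fin n → ℂ) (by rw [← hc, map_mul, ← hc, ← hc]; exact map_mul _ _ _)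
  · show LinearMap.trace ℂ _ (ρ ((z : D) * g)) = _
    rw [map_mul, ← coe_repUnits ρ (z : D), hc, coe_scalarUnit, smul_mul_assoc, one_mul, map_smul,
      smul_eq_mul]
    rfl

theorem sum_conj_hom {A : Type u} [Group A] [Fintype A] (μ ν : A →* ℂˣ) [Decidable (μ = ν)] :
    ∑ a : A, (μ a : ℂ) * conj (ν a : ℂ) = if μ = ν then (Nat.card A : ℂ) else 0 := by
  have hA : (Nat.card A : ℂ) ≠ 0 := Nat.cast_ne_zero.mpr Nat.card_pos.ne'
  by_cases h : μ = ν
  · rw [if_pos h, h]
    have := classInner_irr_self (irr_linear ν)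
    unfold classInner at this
    rwa [inv_mul_eq_one₀ hA, eq_comm] at this
  · rw [if_neg h]
    have := classInner_irr_ne (irr_linear μ) (irr_linear ν) fun e =>
      h (MonoidHom.ext fun a => Units.ext (congrFun e a))
    unfold classInner at this
    exact (mul_eq_zero.mp this).resolve_left (inv_ne_zero hA)

variable {D : Type u} [Group D]

/-- `γ` is good for `lam`. -/
def Good (Z : Subgroup D) (lam : Z →* ℂˣ) (γ : D) : Prop :=
  ∀ (h : D) (hz : h * γ * h⁻¹ * γ⁻¹ ∈ Z), lam ⟨_, hz⟩ = 1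

/-- The count of the irreducible characters over a linear character of a central subgroup. -/
theorem card_mul_cnt_central [Finite D] (Z : Subgroup D) [Z.Normal] (hZ : Z ≤ Subgroup.center D)
    (lam : Z →* ℂˣ) :
    Nat.card D * cnt Z.subtype (fun z => (lam z : ℂ)) (fun _ => True) * Nat.card Z =
      Nat.card {γh : D × D // γh.2 * γh.1 * γh.2⁻¹ * γh.1⁻¹ ∈ Z ∧ Good Z lam γh.1} := by
  classical
  haveI := Fintype.ofFinite D
  haveI := Fintype.ofFinite Z
  choose μ hμ using fun χ : IrrCharacter D => exists_central_char Z hZ χ.2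
  have hlies : ∀ χ : IrrCharacter D, Lies Z.subtype (fun z => (lam z : ℂ)) (χ : D → ℂ) ↔ μ χ = lam := by
    intro χ
    rw [lies_central Z hZ lam χ.2]
    have h1 : ∀ z : Z, (χ : D → ℂ) z = (χ : D → ℂ) 1 * (μ χ z : ℂ) := fun z => by
      conv_lhs => rw [← mul_one (z : D)]
      rw [hμ, mul_comm]
    constructor
    · intro h
      exact MonoidHom.ext fun z => Units.ext (mul_left_cancel₀ (irr_ne_zero χ.2) ((h1 z).symm.trans (h z)))
    · intro h z
      rw [h1, h]
  set n := cnt Z.subtype (fun z => (lam z : ℂ)) (fun _ => True) with hn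
  have hn' : (n : ℂ) = ∑ χ : IrrCharacter D, if μ χ = lam then (1 : ℂ) else 0 := by
    rw [hn, cnt, Nat.card_congr (Equiv.subtypeEquivRight fun χ => by rw [true_and, hlies]),
      Nat.card_eq_fintype_card, Fintype.card_subtype, Finset.sum_boole]
  -- one element
  have hone : ∀ γ : D, (Nat.card Z : ℂ) * ∑ χ : IrrCharacter D,
      (if μ χ = lam then (χ : D → ℂ) γ * conj ((χ : D → ℂ) γ) else 0) =
      (Nat.card {h : D // h * γ * h⁻¹ * γ⁻¹ ∈ Z ∧ Good Z lam γ} : ℂ) := by
    intro γ
    have h1 : (Nat.card Z : ℂ) * ∑ χ : IrrCharacter D,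
        (if μ χ = lam then (χ : D → ℂ) γ * conj ((χ : D → ℂ) γ) else 0) =
        ∑ z : Z, conj (lam z : ℂ) * ∑ χ : IrrCharacter D, (χ : D → ℂ) ((z : D) * γ) * conj ((χ : D → ℂ) γ) := by
      simp only [Finset.mul_sum, hμ]
      rw [Finset.sum_comm]
      refine Finset.sum_congr rfl fun χ _ => ?_
      rw [show (∑ z : Z, conj (lam z : ℂ) * ((μ χ z : ℂ) * (χ : D → ℂ) γ * conj ((χ : D → ℂ) γ))) =
        (∑ z : Z, (μ χ z : ℂ) * conj (lam z : ℂ)) * ((χ : D → ℂ) γ * conj ((χ : D → ℂ) γ)) by
          rw [Finset.sum_mul]; exact Finset.sum_congr rfl fun z _ => by ring,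
        sum_conj_hom]
      by_cases e : μ χ = lam <;> simp [e]
    rw [h1]
    -- the subgroup of elements moving `γ` inside `γ Z`
    let Hγ : Subgroup D :=
      { carrier := {h | h * γ * h⁻¹ * γ⁻¹ ∈ Z}
        one_mem' := by simpa using Z.one_mem
        mul_mem' := fun {a b} ha hb => by
          show a * b * γ * (a * b)⁻¹ * γ⁻¹ ∈ Z
          rw [show a * b * γ * (a * b)⁻¹ * γ⁻¹ = a * (b * γ * b⁻¹ * γ⁻¹) * a⁻¹ * (a * γ * a⁻¹ * γ⁻¹) by group]
          exact Z.mul_mem ((inferInstance : Z.Normal).conj_mem _ hb a) ha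
        inv_mem' := fun {a} ha => by
          show a⁻¹ * γ * a⁻¹⁻¹ * γ⁻¹ ∈ Z
          rw [show a⁻¹ * γ * a⁻¹⁻¹ * γ⁻¹ = a⁻¹ * (a * γ * a⁻¹ * γ⁻¹)⁻¹ * a⁻¹⁻¹ by group]
          exact (inferInstance : Z.Normal).conj_mem _ (Z.inv_mem ha) a⁻¹ }
    let c : Hγ →* Z :=
      { toFun := fun h => ⟨_, h.2⟩
        map_one' := Subtype.ext (by simp)
        map_mul' := fun a b => Subtype.ext (by
          show (a : D) * b * γ * ((a : D) * b)⁻¹ * γ⁻¹ = (a * γ * (a : D)⁻¹ * γ⁻¹) * (b * γ * (b : D)⁻¹ * γ⁻¹)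
          rw [show (a : D) * b * γ * ((a : D) * b)⁻¹ * γ⁻¹ =
            a * (b * γ * (b : D)⁻¹ * γ⁻¹) * (a : D)⁻¹ * (a * γ * (a : D)⁻¹ * γ⁻¹) by group,
            Subgroup.mem_center_iff.mp (hZ b.2) (a : D), mul_inv_cancel_right,
            ← Subgroup.mem_center_iff.mp (hZ b.2) _]) }
    have h2 : ∀ z : Z, (∑ χ : IrrCharacter D, (χ : D → ℂ) ((z : D) * γ) * conj ((χ : D → ℂ) γ)) =
        ∑ h : Hγ, if c h = z then (1 : ℂ) else 0 := by
      intro z
      rw [sum_irr_mul_conj, Finset.sum_boole]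
      split_ifs with hc
      · rw [Nat.cast_inj, isConj_comm, isConj_iff] at *
        obtain ⟨h₀, hh₀⟩ := hc
        have hh₀' : h₀ * γ * h₀⁻¹ * γ⁻¹ = (z : D) := by rw [hh₀, mul_inv_cancel_right]
        rw [← Fintype.card_subtype, ← Nat.card_eq_fintype_card]
        have hcen : ∀ g, g ∈ Subgroup.centralizer ({(z : D) * γ} : Set D) ↔ g * γ = γ * g := fun g => by
          rw [Subgroup.mem_centralizer_singleton_iff, ← mul_assoc, Subgroup.mem_center_iff.mp (hZ z.2) g,
            mul_assoc, mul_assoc, mul_right_inj]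
        refine Nat.card_congr
          { toFun := fun g => ⟨⟨h₀ * g, ?_⟩, Subtype.ext ?_⟩
            invFun := fun h => ⟨h₀⁻¹ * (h.1 : D), ?_⟩
            left_inv := fun g => Subtype.ext (inv_mul_cancel_left _ _)
            right_inv := fun h => Subtype.ext (Subtype.ext (mul_inv_cancel_left _ _)) }
        · show h₀ * (g : D) * γ * (h₀ * (g : D))⁻¹ * γ⁻¹ ∈ Z
          rw [mul_assoc h₀ (g : D) γ, (hcen g).mp g.2, show h₀ * (γ * (g : D)) * (h₀ * (g : D))⁻¹ * γ⁻¹ =
            h₀ * γ * h₀⁻¹ * γ⁻¹ by group, hh₀']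
          exact z.2
        · show h₀ * (g : D) * γ * (h₀ * (g : D))⁻¹ * γ⁻¹ = z
          rw [mul_assoc h₀ (g : D) γ, (hcen g).mp g.2, show h₀ * (γ * (g : D)) * (h₀ * (g : D))⁻¹ * γ⁻¹ =
            h₀ * γ * h₀⁻¹ * γ⁻¹ by group, hh₀']
        · rw [hcen]
          have h3 : (h.1 : D) * γ * (h.1 : D)⁻¹ * γ⁻¹ = h₀ * γ * h₀⁻¹ * γ⁻¹ :=
            (congrArg Subtype.val h.2).trans hh₀'.symm
          have h4 := mul_right_cancel h3
          rw [mul_inv_eq_iff_eq_mul] at h4
          rw [mul_assoc, h4]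
          group
      · rw [Finset.filter_false_of_mem, Finset.card_empty, Nat.cast_zero]
        intro h _ e
        refine hc (IsConj.symm (isConj_iff.mpr ⟨(h : D), ?_⟩))
        rw [← e]
        show _ = (h : D) * γ * (h : D)⁻¹ * γ⁻¹ * γ
        rw [inv_mul_cancel_right]
    simp only [h2, Finset.mul_sum, mul_ite, mul_one, mul_zero]
    rw [Finset.sum_comm]
    simp only [Finset.sum_ite_eq, Finset.mem_univ, if_true]
    have h3 : (∑ h : Hγ, conj (lam (c h) : ℂ)) = if (1 : Hγ →* ℂˣ) = lam.comp c then (Nat.card Hγ : ℂ) else 0 := by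
      rw [← sum_conj_hom]
      exact Finset.sum_congr rfl fun h _ => by simp
    rw [h3]
    by_cases hg : Good Z lam γ
    · rw [if_pos (show (1 : Hγ →* ℂˣ) = lam.comp c from MonoidHom.ext fun h => (hg h h.2).symm)]
      congr 1
      exact Nat.card_congr (Equiv.subtypeEquivRight fun h => ⟨fun hh => ⟨hh, hg⟩, fun hh => hh.1⟩)
    · rw [if_neg fun e => hg fun h hz => (DFunLike.congr_fun e ⟨h, hz⟩).symm]
      haveI : IsEmpty {h : D // h * γ * h⁻¹ * γ⁻¹ ∈ Z ∧ Good Z lam γ} := ⟨fun h => hg h.2.2⟩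
      rw [Nat.card_of_isEmpty, Nat.cast_zero]
  -- the sum over all elements
  have hsum : ∑ γ : D, ∑ χ : IrrCharacter D,
      (if μ χ = lam then (χ : D → ℂ) γ * conj ((χ : D → ℂ) γ) else 0) = (Nat.card D : ℂ) * n := by
    rw [Finset.sum_comm, hn', Finset.mul_sum]
    refine Finset.sum_congr rfl fun χ _ => ?_
    by_cases e : μ χ = lam
    · simp only [e, if_true, mul_one]
      exact sum_mul_conj_irr χ.2
    · simp [e]
  have htot : ((Nat.card D * n * Nat.card Z : ℕ) : ℂ) =
      ((∑ γ : D, Nat.card {h : D // h * γ * h⁻¹ * γ⁻¹ ∈ Z ∧ Good Z lam γ} : ℕ) : ℂ) := by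
    push_cast
    rw [← hsum, Finset.sum_mul]
    exact Finset.sum_congr rfl fun γ _ => by rw [← hone, mul_comm]
  rw [Nat.cast_inj.mp htot, ← Nat.card_sigma]
  exact Nat.card_congr
    { toFun := fun x => ⟨(x.1, x.2.1), x.2.2⟩
      invFun := fun x => ⟨x.1.1, ⟨x.1.2, x.2⟩⟩
      left_inv := fun x => rfl
      right_inv := fun x => rfl }

variable {G : Type u} [Group G]

/-- The subgroup over a pair of cosets. -/
def pairGrp (N : Subgroup G) [N.Normal] (x y : G ⧸ N) : Subgroup G :=
  (Subgroup.closure {x, y}).comap (QuotientGroup.mk' N)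

theorem le_pairGrp (N : Subgroup G) [N.Normal] (x y : G ⧸ N) : N ≤ pairGrp N x y := fun n hn => by
  rw [pairGrp, Subgroup.mem_comap, QuotientGroup.mk'_apply, (QuotientGroup.eq_one_iff n).mpr hn]
  exact one_mem _

theorem pairGrp_mk (N : Subgroup G) [N.Normal] (a b : G) :
    pairGrp N (a : G ⧸ N) (b : G ⧸ N) = N ⊔ Subgroup.closure {a, b} := by
  rw [pairGrp, show ({(a : G ⧸ N), (b : G ⧸ N)} : Set (G ⧸ N)) = QuotientGroup.mk' N '' {a, b} from
    (Set.image_pair _ _ _).symm, ← MonoidHom.map_closure, Subgroup.comap_map_eq, QuotientGroup.ker_mk',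
    sup_comm]

/-- A coset is good when `θ` extends over it and each coset commuting with it. -/
def GoodCoset (N : Subgroup G) [N.Normal] (θ : N → ℂ) (x : G ⧸ N) : Prop :=
  ∀ y : G ⧸ N, Commute x y → ExtTo (Subgroup.inclusion (le_pairGrp N x y)) θ

/-- Counting the characters over an invariant character. -/
theorem card_mul_cnt [Finite G] (N : Subgroup G) [N.Normal] {θ : N → ℂ} (hθ : IsIrrCharacter N θ)
    (hinv : Invariant N θ) :
    Nat.card (G ⧸ N) * cnt N.subtype θ (fun _ => True) =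
      Nat.card {xy : (G ⧸ N) × (G ⧸ N) // Commute xy.1 xy.2 ∧ GoodCoset N θ xy.1} := by
  classical
  haveI := Fintype.ofFinite G
  haveI := Fintype.ofFinite N
  obtain ⟨Δ, iG, iF, q, lam, hq, hcen, hcnt⟩ := exists_triple N hθ hinv
  have hker : ∀ (H : Subgroup G) (hNH : N ≤ H) (P : ℕ → Prop),
      cnt (Subgroup.inclusion hNH) θ P =
        cnt (Subgroup.inclusion (MonoidHom.ker_le_comap q (H.map (QuotientGroup.mk' N))))
          (fun z => (lam z : ℂ)) (fun d => P (charDegree θ * d)) := fun H hNH P => by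
    rw [← hcnt H (fun k => θ ⟨((k : H) : G), Subgroup.mem_subgroupOf.mp k.2⟩)
      (isIrr_subgroupOf N hNH hθ) (fun k => rfl) P]
    exact cnt_congr (ι := Subgroup.inclusion hNH) (ι' := (N.subgroupOf H).subtype) (θ := θ)
      (θ' := fun k => θ ⟨((k : H) : G), Subgroup.mem_subgroupOf.mp k.2⟩)
      (Subgroup.subgroupOfEquivOfLe hNH).symm (MulEquiv.refl H) (fun k => rfl) (fun k => rfl) P
  have hcntG : cnt N.subtype θ (fun _ => True) = cnt q.ker.subtype (fun z => (lam z : ℂ)) (fun _ => True) := by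
    rw [cnt_congr (ι := N.subtype) (ι' := Subgroup.inclusion (le_top : N ≤ ⊤)) (θ := θ) (θ' := θ) (MulEquiv.refl N)
      Subgroup.topEquiv.symm (fun k => rfl) (fun k => rfl) (fun _ => True), hker ⊤ le_top]
    have htop : ((⊤ : Subgroup G).map (QuotientGroup.mk' N)).comap q = ⊤ := by
      rw [Subgroup.map_top_of_surjective _ (QuotientGroup.mk'_surjective N), Subgroup.comap_top]
    exact cnt_congr (MulEquiv.refl _) ((MulEquiv.subgroupCongr htop).trans Subgroup.topEquiv)
      (fun k => rfl) (fun k => rfl) _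
  -- good elements
  have hgood : ∀ γ : Δ, Good q.ker lam γ ↔ GoodCoset N θ (q γ) := by
    intro γ
    have hpair : ∀ h : Δ, ∀ hz : h * γ * h⁻¹ * γ⁻¹ ∈ q.ker,
        ExtTo (Subgroup.inclusion (le_pairGrp N (q γ) (q h))) θ ↔ lam ⟨_, hz⟩ = 1 := by
      intro h hz
      set E := (pairGrp N (q γ) (q h)).map (QuotientGroup.mk' N) with hE
      have hE' : E = Subgroup.closure {q γ, q h} :=
        Subgroup.map_comap_eq_self_of_surjective (QuotientGroup.mk'_surjective N) _
      set Dp := E.comap q with hDp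
      have hγ : γ ∈ Dp := by rw [hDp, Subgroup.mem_comap, hE']; exact Subgroup.subset_closure (Or.inl rfl)
      have hh : h ∈ Dp := by rw [hDp, Subgroup.mem_comap, hE']; exact Subgroup.subset_closure (Or.inr rfl)
      have hkD : q.ker ≤ Dp := MonoidHom.ker_le_comap q E
      haveI := Fintype.ofFinite Dp
      haveI := Fintype.ofFinite q.ker
      constructor
      · rintro ⟨χ, hχ, hres⟩
        have hne : cnt (Subgroup.inclusion (le_pairGrp N (q γ) (q h))) θ (fun d => d = charDegree θ) ≠ 0 := by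
          refine Nat.card_ne_zero.mpr ⟨⟨⟨⟨χ, hχ⟩, ?_, lies_of_ext hθ hres⟩⟩, inferInstance⟩
          show charDegree χ = charDegree θ
          have := hres 1
          rw [map_one] at this
          unfold charDegree
          rw [this]
        rw [hker _ (le_pairGrp N (q γ) (q h))] at hne
        obtain ⟨⟨⟨β, hβ⟩, hd, hl⟩⟩ := (Nat.card_ne_zero.mp hne).1
        have hd1 : charDegree β = 1 := by
          have : charDegree θ * charDegree β = charDegree θ := hd
          exact (mul_eq_left₀ (charDegree_pos hθ).ne').mp this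
        obtain ⟨Λ, rfl⟩ := exists_hom_of_degree_one (isCharacter_of_irr hβ) (by rw [apply_one hβ, hd1, Nat.cast_one])
        have e1 : Λ.comp (Subgroup.inclusion hkD) = lam := by
          by_contra hne'
          rw [lies_iff] at hl
          exact hl (classInner_irr_ne (irr_linear (Λ.comp (Subgroup.inclusion hkD))) (irr_linear lam)
            fun e => hne' (MonoidHom.ext fun z => Units.ext (congrFun e z)))
        rw [← e1]
        show Λ (⟨h, hh⟩ * ⟨γ, hγ⟩ * ⟨h, hh⟩⁻¹ * ⟨γ, hγ⟩⁻¹) = 1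
        rw [map_mul, map_mul, map_mul, map_inv, map_inv, mul_inv_cancel_comm, mul_inv_cancel]
      · intro hl
        set Z' := q.ker.subgroupOf Dp
        let eZ : q.ker ≃* Z' := (Subgroup.subgroupOfEquivOfLe hkD).symm
        haveI := Fintype.ofFinite Z'
        let lam' : Z' →* ℂˣ := lam.comp eZ.symm.toMonoidHom
        obtain ⟨β, hβ, hc⟩ := exists_irr_above (irr_linear lam')
        have hZc : Z' ≤ Subgroup.center Dp := fun z hz' => Subgroup.mem_center_iff.mpr fun y =>
          Subtype.ext (Subgroup.mem_center_iff.mp (hcen (Subgroup.mem_subgroupOf.mp hz')) y)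
        have hl' : Lies Z'.subtype (fun z => (lam' z : ℂ)) β := by rw [lies_iff]; exact hc
        have hval := (lies_central Z' hZc lam' hβ).mp hl'
        obtain ⟨d, ρ, hρ, rfl⟩ := id hβ
        let ψ := repUnits ρ
        have hzc : ∀ z : Dp, z ∈ Z' → ∀ y, Commute (ψ z) (ψ y) := fun z hz' y =>
          ((show Commute z y from (Subgroup.mem_center_iff.mp (hZc hz') y).symm).map ψ)
        have hgh : Commute (ψ ⟨γ, hγ⟩) (ψ ⟨h, hh⟩) := by
          have h1 := hval ⟨⟨_, hkD hz⟩, Subgroup.mem_subgroupOf.mpr hz⟩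
          have h2 : lam' ⟨⟨_, hkD hz⟩, Subgroup.mem_subgroupOf.mpr hz⟩ = 1 := hl
          rw [h2, Units.val_one, mul_one] at h1
          have h3 : ψ (⟨h, hh⟩ * ⟨γ, hγ⟩ * ⟨h, hh⟩⁻¹ * ⟨γ, hγ⟩⁻¹) = 1 := Units.ext (rep_apply_eq_one_of_char_eq ρ h1)
          rw [map_mul, map_mul, map_mul, map_inv, map_inv, mul_inv_eq_one, mul_inv_eq_iff_eq_mul] at h3
          exact h3.symm
        let S : Set Dp := {z | z ∈ Z' ∨ z = ⟨γ, hγ⟩ ∨ z = ⟨h, hh⟩}
        have hS : Subgroup.closure S = ⊤ := by
          refine Subgroup.map_injective Dp.subtype_injective ?_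
          rw [MonoidHom.map_closure, ← MonoidHom.range_eq_map, Subgroup.range_subtype]
          refine le_antisymm ?_ ?_
          · rw [Subgroup.closure_le]
            rintro _ ⟨x, -, rfl⟩
            exact x.2
          · intro x hx
            have hx' : q x ∈ Subgroup.closure {q γ, q h} := hE' ▸ hx
            rw [show ({q γ, q h} : Set (G ⧸ N)) = q '' {γ, h} from (Set.image_pair _ _ _).symm,
              ← MonoidHom.map_closure, ← Subgroup.mem_comap, Subgroup.comap_map_eq] at hx'
            refine (sup_le (Subgroup.closure_mono ?_) ?_) hx'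
            · rintro y (rfl | rfl)
              · exact ⟨⟨_, hγ⟩, Or.inr (Or.inl rfl), rfl⟩
              · exact ⟨⟨_, hh⟩, Or.inr (Or.inr rfl), rfl⟩
            · exact fun y hy => Subgroup.subset_closure ⟨⟨y, hkD hy⟩, Or.inl (Subgroup.mem_subgroupOf.mpr hy), rfl⟩
        have hSS : ∀ a ∈ S, ∀ b ∈ S, Commute (ψ a) (ψ b) := by
          intro a ha b hb
          rcases ha with ha | rfl | rfl
          · exact hzc a ha b
          all_goals rcases hb with hb | rfl | rfl
          all_goals first | exact (hzc b hb _).symm | exact Commute.refl _ | exact hgh | exact hgh.symm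
        have hall : ∀ a b : Dp, Commute (ψ a) (ψ b) := by
          have h1 : ∀ a ∈ S, ∀ b : Dp, Commute (ψ a) (ψ b) := by
            intro a ha b
            have : Subgroup.closure S ≤ (Subgroup.centralizer ({ψ a} : Set _)).comap ψ :=
              (Subgroup.closure_le _).mpr fun b hb => Subgroup.mem_centralizer_singleton_iff.mpr (hSS a ha b hb).symm.eq
            exact (Subgroup.mem_centralizer_singleton_iff.mp (this (hS ▸ Subgroup.mem_top b))).symm
          intro a b
          have : Subgroup.closure S ≤ (Subgroup.centralizer ({ψ b} : Set _)).comap ψ :=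
            (Subgroup.closure_le _).mpr fun a ha => Subgroup.mem_centralizer_singleton_iff.mpr (h1 a ha b).eq
          exact Subgroup.mem_centralizer_singleton_iff.mp (this (hS ▸ Subgroup.mem_top a))
        have hdeg : ρ.character 1 = 1 := by
          refine irr_degree_one_of_kernel_commutator ψ.ker (fun a b => ?_) hβ (fun n hn => ?_)
          · rw [MonoidHom.mem_ker, map_mul, map_mul, map_mul, map_inv, map_inv, (hall a b).eq,
              mul_inv_cancel_right, mul_inv_cancel]
          · have h1 : ρ n = 1 := congrArg Units.val (MonoidHom.mem_ker.mp hn)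
            show LinearMap.trace ℂ _ (ρ n) = LinearMap.trace ℂ _ (ρ 1)
            exact congrArg _ (h1.trans (map_one ρ).symm)
        have hne : cnt (Subgroup.inclusion (le_pairGrp N (q γ) (q h))) θ (fun d => d = charDegree θ) ≠ 0 := by
          rw [hker _ (le_pairGrp N (q γ) (q h))]
          refine Nat.card_ne_zero.mpr ⟨⟨⟨⟨_, hβ⟩, ?_, ?_⟩⟩, inferInstance⟩
          · show charDegree θ * charDegree ρ.character = charDegree θ
            rw [apply_one hβ, Nat.cast_eq_one] at hdeg
            rw [hdeg, mul_one]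
          · have e := lies_congr (ι := Subgroup.inclusion hkD) (ι' := Z'.subtype) eZ (MulEquiv.refl Dp)
              (fun z => rfl) (fun z => (lam' z : ℂ)) ρ.character
            exact e.mpr hl'
        obtain ⟨⟨⟨χ, hχ⟩, hd, hlχ⟩⟩ := (Nat.card_ne_zero.mp hne).1
        refine ⟨χ, hχ, ?_⟩
        let H := pairGrp N (q γ) (q h)
        let K := N.subgroupOf H
        let eK : N ≃* K := (Subgroup.subgroupOfEquivOfLe (le_pairGrp N (q γ) (q h))).symm
        have hinvK : Invariant K (fun k => θ (eK.symm k)) := (invariant_iff _ _).mpr fun g k =>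
          congrFun (hinv (g : G)) (eK.symm k)
        have hlK : Lies K.subtype (fun k => θ (eK.symm k)) χ :=
          (lies_congr (ι := Subgroup.inclusion (le_pairGrp N (q γ) (q h))) (ι' := K.subtype) eK
            (MulEquiv.refl H) (fun k => rfl) (fun k => θ (eK.symm k)) χ).mp (by
            convert hlχ using 2 with k
            · exact congrArg θ (eK.symm_apply_apply k)
            · rfl)
        have hθK : IsIrrCharacter K (fun k => θ (eK.symm k)) :=
          isIrrCharacter_comp_surjective hθ eK.symm.toMonoidHom eK.symm.surjective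
        obtain ⟨e, -, hde, -, hr⟩ := res_eq K hθK hinvK hχ hlK
        rw [charDegree_comp_equiv eK.symm θ, show charDegree χ = charDegree θ from hd] at hde
        have he : e = 1 := (mul_eq_right₀ (charDegree_pos hθ).ne').mp hde.symm
        intro k
        have := hr (eK k)
        rw [he, Nat.cast_one, one_mul, MulEquiv.symm_apply_apply] at this
        exact this
    constructor
    · intro hg y hy
      obtain ⟨h, rfl⟩ := hq y
      have hz : h * γ * h⁻¹ * γ⁻¹ ∈ q.ker := by
        rw [MonoidHom.mem_ker, map_mul, map_mul, map_mul, map_inv, map_inv, ← hy.eq, mul_inv_cancel_right,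
          mul_inv_cancel]
      exact (hpair h hz).mpr (hg h hz)
    · intro hg h hz
      refine (hpair h hz).mp (hg (q h) ?_)
      have h1 := MonoidHom.mem_ker.mp hz
      rw [map_mul, map_mul, map_mul, map_inv, map_inv, mul_inv_eq_one, mul_inv_eq_iff_eq_mul] at h1
      exact h1.symm
  -- compare the pairs
  have hX : Nat.card Δ = Nat.card (G ⧸ N) * Nat.card q.ker := by
    rw [← Nat.card_congr (QuotientGroup.quotientKerEquivOfSurjective q hq).toEquiv]
    exact Subgroup.card_eq_card_quotient_mul_card_subgroup q.ker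
  have hmain := card_mul_cnt_central q.ker hcen lam
  let T := {γh : Δ × Δ // γh.2 * γh.1 * γh.2⁻¹ * γh.1⁻¹ ∈ q.ker ∧ Good q.ker lam γh.1}
  let U := {xy : (G ⧸ N) × (G ⧸ N) // Commute xy.1 xy.2 ∧ GoodCoset N θ xy.1}
  have hTU : Nat.card T = Nat.card U * (Nat.card q.ker * Nat.card q.ker) := by
    rw [← Nat.card_prod (q.ker) (q.ker), ← Nat.card_prod U]
    choose s hs using hq
    have hcomm : ∀ a b : Δ, b * a * b⁻¹ * a⁻¹ ∈ q.ker ↔ Commute (q a) (q b) := fun a b => by
      rw [MonoidHom.mem_ker, map_mul, map_mul, map_mul, map_inv, map_inv, mul_inv_eq_one, mul_inv_eq_iff_eq_mul]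
      exact ⟨fun e => e.symm, fun e => e.eq.symm⟩
    refine Nat.card_congr
      { toFun := fun t => (⟨(q t.1.1, q t.1.2), (hcomm _ _).mp t.2.1, (hgood _).mp t.2.2⟩,
          (⟨t.1.1 * (s (q t.1.1))⁻¹, by rw [MonoidHom.mem_ker, map_mul, map_inv, hs, mul_inv_cancel]⟩,
            ⟨t.1.2 * (s (q t.1.2))⁻¹, by rw [MonoidHom.mem_ker, map_mul, map_inv, hs, mul_inv_cancel]⟩))
        invFun := fun u => ⟨((u.2.1 : Δ) * s u.1.1.1, (u.2.2 : Δ) * s u.1.1.2), ?_⟩
        left_inv := fun t => Subtype.ext (Prod.ext (inv_mul_cancel_right _ _) (inv_mul_cancel_right _ _))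
        right_inv := fun u => ?_ }
    · have e1 : q ((u.2.1 : Δ) * s u.1.1.1) = u.1.1.1 := by
        rw [map_mul, hs, MonoidHom.mem_ker.mp u.2.1.2, one_mul]
      have e2 : q ((u.2.2 : Δ) * s u.1.1.2) = u.1.1.2 := by
        rw [map_mul, hs, MonoidHom.mem_ker.mp u.2.2.2, one_mul]
      refine ⟨(hcomm _ _).mpr ?_, (hgood _).mpr ?_⟩
      · rw [e1, e2]; exact u.1.2.1
      · rw [e1]; exact u.1.2.2
    · have e1 : q ((u.2.1 : Δ) * s u.1.1.1) = u.1.1.1 := by
        rw [map_mul, hs, MonoidHom.mem_ker.mp u.2.1.2, one_mul]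
      have e2 : q ((u.2.2 : Δ) * s u.1.1.2) = u.1.1.2 := by
        rw [map_mul, hs, MonoidHom.mem_ker.mp u.2.2.2, one_mul]
      refine Prod.ext (Subtype.ext (Prod.ext e1 e2)) (Prod.ext (Subtype.ext ?_) (Subtype.ext ?_))
      · show (u.2.1 : Δ) * s u.1.1.1 * (s (q ((u.2.1 : Δ) * s u.1.1.1)))⁻¹ = _
        rw [e1, mul_inv_cancel_right]
      · show (u.2.2 : Δ) * s u.1.1.2 * (s (q ((u.2.2 : Δ) * s u.1.1.2)))⁻¹ = _
        rw [e2, mul_inv_cancel_right]
  rw [← hcntG, hX] at hmain
  rw [hmain.trans hTU |> fun h => Nat.eq_of_mul_eq_mul_right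
    (Nat.mul_pos (Nat.card_pos (α := q.ker)) (Nat.card_pos (α := q.ker)))
    (show Nat.card (G ⧸ N) * cnt N.subtype θ (fun _ => True) * (Nat.card q.ker * Nat.card q.ker) =
      Nat.card U * (Nat.card q.ker * Nat.card q.ker) by rw [← h]; ring)]

end CfsgLib.RelMcKay
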