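import Cfsg.Agent.Lib.RelMcKay.ExtIff
import Cfsg.Agent.Lib.RelMcKay.Central
import Cfsg.Agent.Lib.CharTheory.More

/-!
Counting over Glauberman correspondents in `p'`-groups.
-/

set_option autoImplicit false
set_option linter.style.haveILetI false
set_option linter.unusedSectionVars false

namespace CfsgLib.RelMcKay

open Cfsg CfsgLib.CharTheory CfsgLib.Glauberman CfsgLib.Glauberman.NormalSylow

universe u v

/-- In a group of order prime to `p` all degrees are prime to `p`. -/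
theorem cnt_of_not_dvd {A : Type u} {B : Type v} [Group A] [Group B] [Finite B] {p : ℕ} (h : ¬ p ∣ Nat.card B)
    (ι : A →* B) (θ : A → ℂ) : cnt ι θ (fun d => ¬ p ∣ d) = cnt ι θ (fun _ => True) :=
  Nat.card_congr (Equiv.subtypeEquivRight fun χ => and_congr_left fun _ =>
    iff_true_intro fun hd => h ((hd.trans (charDegree_dvd_index_kernel χ.2)).trans (Subgroup.index_dvd_card _)))

variable {Γ : Type u} [Group Γ] [Finite Γ]

theorem extTo_pair {K H : Subgroup Γ} (hKH : K ≤ H) [hn : (K.subgroupOf H).Normal] (θ : K → ℂ) (a b : H) :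
    ExtTo (Subgroup.inclusion (le_pairGrp (K.subgroupOf H) (a : H ⧸ K.subgroupOf H) (b : H ⧸ K.subgroupOf H)))
        (down H θ) ↔
      ExtTo (Subgroup.inclusion (le_sup_left : K ≤ K ⊔ Subgroup.closure {(a : Γ), (b : Γ)})) θ := by
  let P := pairGrp (K.subgroupOf H) (a : H ⧸ K.subgroupOf H) (b : H ⧸ K.subgroupOf H)
  have hP : P.map H.subtype = K ⊔ Subgroup.closure {(a : Γ), (b : Γ)} := by
    rw [show P = _ from pairGrp_mk (K.subgroupOf H) a b, Subgroup.map_sup, MonoidHom.map_closure,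
      Set.image_pair, Subgroup.map_subgroupOf_eq_of_le hKH]
    rfl
  exact extTo_congr (ι := Subgroup.inclusion (le_pairGrp (K.subgroupOf H) _ _))
    (ι' := Subgroup.inclusion (le_sup_left : K ≤ K ⊔ Subgroup.closure {(a : Γ), (b : Γ)}))
    (Subgroup.subgroupOfEquivOfLe hKH)
    ((Subgroup.equivMapOfInjective P H.subtype H.subtype_injective).trans (MulEquiv.subgroupCongr hP))
    (fun k => rfl) (fun k => rfl)

theorem cnt_inclusion_down {K H : Subgroup Γ} (hKH : K ≤ H) (θ : K → ℂ) (P : ℕ → Prop) :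
    cnt (Subgroup.inclusion hKH) θ P = cnt (K.subgroupOf H).subtype (down H θ) P :=
  cnt_congr (ι := Subgroup.inclusion hKH) (ι' := (K.subgroupOf H).subtype) (θ := θ) (θ' := down H θ)
    (Subgroup.subgroupOfEquivOfLe hKH).symm (MulEquiv.refl H) (fun k => rfl) (fun k => rfl) P

variable {p : ℕ} [Fact p.Prime] {S K C R : Subgroup Γ}

/-- The two counts over Glauberman correspondents agree. -/
theorem cnt_glauberman (h : Op p S K C) {θ : IrrCharacter K} {φ : IrrCharacter C} (hg : Gl p S K C θ φ)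
    (hCR : C ≤ R) (hRS : R ≤ Subgroup.normalizer (S : Set Γ)) (hRθ : R ≤ stab K (θ : K → ℂ))
    (hRp : ¬ p ∣ Nat.card R) :
    cnt (Subgroup.inclusion (le_sup_left : K ≤ K ⊔ R)) (θ : K → ℂ) (fun d => ¬ p ∣ d) =
      cnt (Subgroup.inclusion hCR) (φ : C → ℂ) (fun d => ¬ p ∣ d) := by
  set H := K ⊔ R with hH
  have hKH : K ≤ H := le_sup_left
  have hRK : R ≤ Subgroup.normalizer (K : Set Γ) := fun r hr => (hRθ hr).1
  have hHn : H ≤ Subgroup.normalizer (K : Set Γ) := sup_le Subgroup.le_normalizer hRK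
  have hRφ : R ≤ stab C (φ : C → ℂ) := fun r hr => (h.stab_eq hg (hRK hr) (hRS hr)).1 (hRθ hr)
  have hCn : R ≤ Subgroup.normalizer (C : Set Γ) := fun r hr => (hRφ hr).1
  haveI hnK := normal_of_le hKH hHn
  haveI hnC := normal_of_le hCR hCn
  set K' := K.subgroupOf H with hK'
  set C' := C.subgroupOf R with hC'
  -- fixed points
  have hint : ∀ r ∈ R, r ∈ K → r ∈ C := by
    intro r hr hrK
    rw [h.fixed]
    refine ⟨hrK, Subgroup.mem_centralizer_iff.2 fun s hs => ?_⟩
    have h1 : r * s * r⁻¹ * s⁻¹ ∈ K := by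
      rw [show r * s * r⁻¹ * s⁻¹ = r * (s * r⁻¹ * s⁻¹) by group]
      exact mul_mem hrK (norm_conj (h.norm hs) (inv_mem hrK))
    have h2 : r * s * r⁻¹ * s⁻¹ ∈ S := mul_mem (norm_conj (hRS hr) hs) (inv_mem hs)
    have h3 := Subgroup.disjoint_def.1 (Subgroup.disjoint_of_coprime_natCard h.cop) h1 h2
    rw [mul_inv_eq_one, mul_inv_eq_iff_eq_mul] at h3
    exact h3.symm
  -- the isomorphism of the factor groups
  let j : R →* H ⧸ K' := (QuotientGroup.mk' K').comp (Subgroup.inclusion le_sup_right)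
  have hjk : j.ker = C' := by
    ext r
    rw [MonoidHom.mem_ker, hC', Subgroup.mem_subgroupOf]
    show QuotientGroup.mk' K' (Subgroup.inclusion le_sup_right r) = 1 ↔ _
    rw [QuotientGroup.mk'_apply, QuotientGroup.eq_one_iff, hK', Subgroup.mem_subgroupOf]
    exact ⟨hint r r.2, fun hr => h.le hr⟩
  have hjs : Function.Surjective j := by
    intro z
    obtain ⟨⟨g, hg'⟩, rfl⟩ := QuotientGroup.mk'_surjective K' z
    obtain ⟨k, hk, r, hr, rfl⟩ := mem_sup_of_le_normalizer hRK hg'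
    refine ⟨⟨r, hr⟩, ?_⟩
    refine QuotientGroup.eq.mpr (Subgroup.mem_subgroupOf.2 ?_)
    show r⁻¹ * (k * r) ∈ K
    rw [← mul_assoc]
    exact norm_conj' (hRK hr) hk
  let e : R ⧸ C' ≃* H ⧸ K' :=
    (QuotientGroup.quotientMulEquivOfEq hjk.symm).trans (QuotientGroup.quotientKerEquivOfSurjective j hjs)
  have he : ∀ r : R, e (r : R ⧸ C') = ((Subgroup.inclusion le_sup_right r : H) : H ⧸ K') := fun r => rfl
  have hcard : Nat.card (H ⧸ K') = Nat.card (R ⧸ C') := (Nat.card_congr e.toEquiv).symm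
  have hHp : ¬ p ∣ Nat.card H := by
    rw [Subgroup.card_eq_card_quotient_mul_card_subgroup K', hcard]
    intro hd
    rcases (Nat.Prime.dvd_mul Fact.out).1 hd with h1 | h1
    · exact hRp (h1.trans (Subgroup.card_quotient_dvd_card C'))
    · exact h.coprime (by rwa [Nat.card_congr (Subgroup.subgroupOfEquivOfLe hKH).toEquiv] at h1)
  -- good cosets
  have hpair : ∀ a b : R, Commute (a : R ⧸ C') (b : R ⧸ C') →
      (ExtTo (Subgroup.inclusion (le_pairGrp K' (e a) (e b))) (down H (θ : K → ℂ)) ↔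
        ExtTo (Subgroup.inclusion (le_pairGrp C' (a : R ⧸ C') (b : R ⧸ C'))) (down R (φ : C → ℂ))) := by
    intro a b hab
    have hcomm : (a : Γ) * b * (a : Γ)⁻¹ * (b : Γ)⁻¹ ∈ C := by
      have h1 : ((a * b * a⁻¹ * b⁻¹ : R) : R ⧸ C') = 1 := by
        simp only [QuotientGroup.mk_mul, QuotientGroup.mk_inv]
        rw [hab.eq, mul_inv_cancel_right, mul_inv_cancel]
      exact Subgroup.mem_subgroupOf.1 ((QuotientGroup.eq_one_iff _).1 h1)
    rw [he, he, extTo_pair hKH (θ : K → ℂ) (Subgroup.inclusion le_sup_right a) (Subgroup.inclusion le_sup_right b),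
      extTo_pair hCR (φ : C → ℂ) a b]
    refine ext_iff h hg (hRθ a.2) (hRθ b.2) (hRS a.2) (hRS b.2) hcomm fun hd => hHp (hd.trans
      (Subgroup.card_dvd_of_le (sup_le hKH ((Subgroup.closure_le _).2 (Set.insert_subset_iff.2
        ⟨Subgroup.mem_sup_right a.2, Set.singleton_subset_iff.2 (Subgroup.mem_sup_right b.2)⟩)))))
  have hgood : ∀ x : R ⧸ C', GoodCoset K' (down H (θ : K → ℂ)) (e x) ↔ GoodCoset C' (down R (φ : C → ℂ)) x := by
    intro x
    obtain ⟨a, rfl⟩ := QuotientGroup.mk_surjective x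
    constructor
    · intro hG y hy
      obtain ⟨b, rfl⟩ := QuotientGroup.mk_surjective y
      exact (hpair a b hy).1 (hG _ (hy.map e))
    · intro hG y hy
      obtain ⟨y, rfl⟩ := e.surjective y
      obtain ⟨b, rfl⟩ := QuotientGroup.mk_surjective y
      have hy' : Commute (a : R ⧸ C') (b : R ⧸ C') := by
        have := hy.map e.symm.toMonoidHom
        simpa using this
      exact (hpair a b hy').2 (hG _ hy')
  have hL := card_mul_cnt K' (isIrr_down' hKH θ.2)
    (invariant_down hKH hHn _ (sup_le (le_stab θ) hRθ))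
  have hR := card_mul_cnt C' (isIrr_down' hCR φ.2) (invariant_down hCR hCn _ hRφ)
  have hcongr : Nat.card {xy : (H ⧸ K') × (H ⧸ K') // Commute xy.1 xy.2 ∧ GoodCoset K' (down H (θ : K → ℂ)) xy.1} =
      Nat.card {xy : (R ⧸ C') × (R ⧸ C') // Commute xy.1 xy.2 ∧ GoodCoset C' (down R (φ : C → ℂ)) xy.1} := by
    refine (Nat.card_congr (Equiv.subtypeEquiv (e.toEquiv.prodCongr e.toEquiv) fun xy => and_congr ?_ ?_)).symm
    · refine ⟨fun h1 => h1.map e, fun h1 => ?_⟩
      have := h1.map e.symm.toMonoidHom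
      simpa using this
    · exact (hgood xy.1).symm
  rw [cnt_of_not_dvd hHp, cnt_of_not_dvd hRp, cnt_inclusion_down hKH, cnt_inclusion_down hCR]
  apply Nat.eq_of_mul_eq_mul_left (Nat.card_pos (α := H ⧸ K'))
  rw [hL, hcongr, ← hR, hcard]

end CfsgLib.RelMcKay
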