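import Cfsg.Agent.Lib.RelMcKay.Transfer
import Cfsg.Agent.Lib.RelMcKay.Count

/-!
The critical case: a normal `p'`-subgroup `K` with `K ⊔ S` normal.
-/

set_option autoImplicit false
set_option linter.style.haveILetI false
set_option linter.unusedSectionVars false

namespace CfsgLib.RelMcKay

open Cfsg CfsgLib.CharTheory CfsgLib.Glauberman CfsgLib.Glauberman.NormalSylow

universe u

variable {G : Type u} [Group G] [Finite G] {p : ℕ} [Fact p.Prime]

theorem Op.inter {S K C : Subgroup G} (h : Op p S K C) {k : G} (hk : k ∈ K)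
    (hkS : k ∈ Subgroup.normalizer (S : Set G)) : k ∈ C := by
  rw [h.fixed]
  refine ⟨hk, Subgroup.mem_centralizer_iff.2 fun s hs => ?_⟩
  have h1 : k * s * k⁻¹ * s⁻¹ ∈ K := by
    rw [show k * s * k⁻¹ * s⁻¹ = k * (s * k⁻¹ * s⁻¹) by group]
    exact K.mul_mem hk (norm_conj (h.norm hs) (K.inv_mem hk))
  have h3 := Subgroup.disjoint_def.1 (Subgroup.disjoint_of_coprime_natCard h.cop) h1
    (S.mul_mem (norm_conj hkS hs) (S.inv_mem hs))
  rw [mul_inv_eq_one, mul_inv_eq_iff_eq_mul] at h3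
  exact h3.symm

/-- A commuting product of elements of coprime orders generates both. -/
theorem mem_of_commute_mul {A B R : Subgroup G} (hcop : (Nat.card A).Coprime (Nat.card B)) {a b : G}
    (ha : a ∈ A) (hb : b ∈ B) (h : Commute a b) (hr : a * b ∈ R) : a ∈ R := by
  obtain ⟨n, hn1, hn2⟩ := Nat.chineseRemainder hcop 1 0
  have han : a ^ n = a := by
    have : a ^ n = a ^ 1 := pow_eq_pow_iff_modEq.2 (hn1.of_dvd (by
      rw [← Subgroup.orderOf_mk a ha]; exact orderOf_dvd_natCard _))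
    rwa [pow_one] at this
  have hbn : b ^ n = 1 := orderOf_dvd_iff_pow_eq_one.1 ((by
    rw [← Subgroup.orderOf_mk b hb]; exact orderOf_dvd_natCard _ : orderOf b ∣ Nat.card B).trans
      (Nat.modEq_zero_iff_dvd.1 hn2))
  have h1 := R.pow_mem hr n
  rwa [h.mul_pow, han, hbn, mul_one] at h1

namespace Crit

variable (S : Sylow p G) {K C J J' : Subgroup G} (X : Crit p (S : Subgroup G) K C J J')

include X

theorem le_normalizer : J' ≤ Subgroup.normalizer ((S : Subgroup G) : Set G) := by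
  rw [X.eq']
  refine sup_le (le_norm_of fun c hc s hs => ?_) Subgroup.le_normalizer
  rw [← Subgroup.mem_centralizer_iff.1 (X.op.cent hc) s hs, mul_inv_cancel_right]
  exact hs

theorem inter_le : J ⊓ Subgroup.normalizer ((S : Subgroup G) : Set G) ≤ J' := by
  rintro g ⟨hg, hgn⟩
  obtain ⟨k, hk, s, hs, rfl⟩ := mem_sup_of_le_normalizer X.op.norm (show g ∈ K ⊔ (S : Subgroup G) from X.eq ▸ hg)
  rw [X.eq']
  refine mul_mem (Subgroup.mem_sup_left (X.op.inter hk ?_)) (Subgroup.mem_sup_right hs)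
  have := (Subgroup.normalizer ((S : Subgroup G) : Set G)).mul_mem hgn
    ((Subgroup.normalizer ((S : Subgroup G) : Set G)).inv_mem (Subgroup.le_normalizer hs))
  rwa [mul_inv_cancel_right] at this

variable [hJn : J.Normal] [hKn : K.Normal]

theorem sup_normalizer : Subgroup.normalizer ((S : Subgroup G) : Set G) ⊔ J = ⊤ := by
  have h := Sylow.normalizer_sup_eq_top (S.subtype X.semi.leS)
  rwa [Sylow.coe_subtype, Subgroup.map_subgroupOf_eq_of_le X.semi.leS] at h

/-- One pair of corresponding characters. -/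
theorem cnt_pair {ψ : IrrCharacter J} {ψ' : IrrCharacter J'} (h : X.Pr ψ ψ') :
    cnt J.subtype (ψ : J → ℂ) (fun d => ¬ p ∣ d) =
      cnt (Subgroup.inclusion (X.le_normalizer S)) (ψ' : J' → ℂ) (fun d => ¬ p ∣ d) := by
  set N := Subgroup.normalizer ((S : Subgroup G) : Set G) with hN
  have htopn : ∀ (A : Subgroup G) [A.Normal] (g : G), g ∈ Subgroup.normalizer (A : Set G) := fun A _ g => by
    rw [Subgroup.normalizer_eq_top]; trivial
  have hJ'n : N ≤ Subgroup.normalizer (J' : Set G) := fun g hg => (X.norms (htopn K g) hg).2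
  have hSJ : (S : Subgroup G) ≤ J := X.semi.leS
  have hSJ' : (S : Subgroup G) ≤ J' := X.semi'.leS
  rw [← cnt_top, cnt_clifford' (le_top : J ≤ ⊤) (fun g _ => htopn J g) ψ,
    cnt_clifford' (X.le_normalizer S) hJ'n ψ']
  set T := ⊤ ⊓ stab J (ψ : J → ℂ) with hT
  set TN := N ⊓ stab J' (ψ' : J' → ℂ) with hTN
  have hST : (S : Subgroup G) ≤ T := le_inf le_top (hSJ.trans (le_stab ψ))
  have hSTN : (S : Subgroup G) ≤ TN := le_inf Subgroup.le_normalizer (hSJ'.trans (le_stab ψ'))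
  have hi1 : ¬ p ∣ T.relIndex ⊤ := fun hd => S.not_dvd_index (hd.trans (by
    rw [Subgroup.relIndex_top_right]; exact Subgroup.index_dvd_of_le hST))
  have hi2 : ¬ p ∣ TN.relIndex N := fun hd => S.not_dvd_index (hd.trans (by
    refine (Subgroup.relIndex_dvd_of_le_left N hSTN).trans ?_
    rw [← Subgroup.relIndex_mul_index (Subgroup.le_normalizer : (S : Subgroup G) ≤ N)]
    exact Dvd.intro _ rfl))
  have hP : ∀ {i : ℕ}, ¬ p ∣ i → (fun d => ¬ p ∣ i * d) = fun d => ¬ p ∣ d := fun {i} hi => funext fun d => by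
    rw [Nat.Prime.dvd_mul Fact.out, or_iff_right hi]
  rw [hP hi1, hP hi2]
  -- a complement of the Sylow subgroup in the inner stabiliser
  haveI hS3 : ((S : Subgroup G).subgroupOf TN).Normal :=
    (Subgroup.normal_subgroupOf_iff_le_normalizer hSTN).2 inf_le_left
  have hidx : ¬ p ∣ ((S : Subgroup G).subgroupOf TN).index := fun hd => S.not_dvd_index (hd.trans (by
    rw [← Subgroup.relIndex_mul_index hSTN]
    exact Dvd.intro _ rfl))
  obtain ⟨R3, hR3⟩ := Subgroup.exists_right_complement'_of_coprime (N := (S : Subgroup G).subgroupOf TN) (by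
    obtain ⟨n, hn⟩ := IsPGroup.iff_card.1 S.2
    rw [Nat.card_congr (Subgroup.subgroupOfEquivOfLe hSTN).toEquiv, hn]
    exact ((Fact.out : p.Prime).coprime_iff_not_dvd.2 hidx).pow_left n)
  set R := R3.map TN.subtype with hR
  have hRTN : R ≤ TN := Subgroup.map_subtype_le _
  have hRp : ¬ p ∣ Nat.card R := by
    rwa [hR, Subgroup.card_map_of_injective TN.subtype_injective, ← hR3.symm.index_eq_card]
  have hRcop : (Nat.card R).Coprime (Nat.card (S : Subgroup G)) := by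
    obtain ⟨n, hn⟩ := IsPGroup.iff_card.1 S.2
    rw [hn]
    exact (((Fact.out : p.Prime).coprime_iff_not_dvd.2 hRp).symm).pow_right n
  have hdec : ∀ g ∈ TN, ∃ s ∈ (S : Subgroup G), ∃ r ∈ R, s * r = g := by
    intro g hg
    have h1 : (⟨g, hg⟩ : TN) ∈ (Set.univ : Set TN) := trivial
    rw [← hR3.mul_eq] at h1
    obtain ⟨s, hs, r, hr, e⟩ := Set.mem_mul.1 h1
    exact ⟨s, hs, r, ⟨r, hr, rfl⟩, congrArg Subtype.val e⟩
  have hJ'TN : J' ≤ TN := le_inf (X.le_normalizer S) (le_stab ψ')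
  have hcomm : ∀ c ∈ C, ∀ s ∈ (S : Subgroup G), Commute c s := fun c hc s hs =>
    (Subgroup.mem_centralizer_iff.1 (X.op.cent hc) s hs).symm
  have hCR : C ≤ R := by
    intro c hc
    obtain ⟨s, hs, r, hr, e⟩ := hdec c (hJ'TN (X.semi'.leK hc))
    have hr' : c * s⁻¹ = r := by
      rw [(hcomm c hc _ (inv_mem hs)).eq, ← e, inv_mul_cancel_left]
    exact mem_of_commute_mul X.semi'.cop hc (inv_mem hs) (hcomm c hc _ (inv_mem hs)) (hr' ▸ hr)
  have hRN : R ≤ N := hRTN.trans inf_le_left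
  have hRJ : ∀ r ∈ R, r ∈ J → r ∈ C := by
    intro r hr hrJ
    have h1 : r ∈ C ⊔ (S : Subgroup G) := X.eq' ▸ X.inter_le S (Subgroup.mem_inf.2 ⟨hrJ, hRN hr⟩)
    obtain ⟨c, hc, s, hs, e⟩ := mem_sup_of_le_normalizer (le_norm_of_cent X.op.cent) h1
    have hsR : s ∈ R := by
      rw [show s = c⁻¹ * r by rw [← e, inv_mul_cancel_left]]
      exact mul_mem (inv_mem (hCR hc)) hr
    rw [← e, Subgroup.disjoint_def.1 (Subgroup.disjoint_of_coprime_natCard hRcop) hsR hs, mul_one]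
    exact hc
  have hRst : R ≤ stab J (ψ : J → ℂ) := fun r hr =>
    (X.stab_iff (htopn K r) (hRN hr) h).2 (hRTN hr).2
  obtain ⟨θ, φ, a1, a2, a3, a4⟩ := h
  have hRθ : R ≤ stab K (θ : K → ℂ) := fun r hr => ⟨htopn K r, fun k k' e => by
    rw [← a1, ← a1]
    exact (hRst hr).2 _ _ e⟩
  -- both sides reduce to the subgroups of order prime to `p`
  have hHT : K ⊔ R ≤ T := sup_le (le_inf le_top (X.semi.leK.trans (le_stab ψ))) (le_inf le_top hRst)
  rw [cnt_triple (le_inf le_top (le_stab ψ)) X.semi.leK (le_sup_left : K ≤ K ⊔ R) hHT ψ inf_le_right θ a1 ?_ ?_,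
    cnt_triple hJ'TN X.semi'.leK hCR hRTN ψ' inf_le_right φ a2 ?_ ?_,
    cnt_glauberman X.op a3 hCR hRN hRθ hRp]
  · rintro g ⟨hgR, hgJ⟩
    refine hRJ g hgR ?_
    rw [X.eq'] at hgJ
    exact X.eq ▸ sup_le_sup_right X.op.le _ hgJ
  · rintro g hg
    obtain ⟨s, hs, r, hr, rfl⟩ := hdec g hg
    exact mul_mem (Subgroup.mem_sup_left (hSJ' hs)) (Subgroup.mem_sup_right hr)
  · rintro g ⟨hgH, hgJ⟩
    obtain ⟨k, hk, r, hr, rfl⟩ := mem_sup_of_le_normalizer (fun r _ => htopn K r) hgH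
    refine K.mul_mem hk (X.op.le (hRJ r hr ?_))
    have := J.mul_mem (J.inv_mem (X.semi.leK hk)) hgJ
    rwa [inv_mul_cancel_left] at this
  · intro t ht
    have ht' : t ∈ J ⊔ N := by rw [sup_comm, X.sup_normalizer]; trivial
    obtain ⟨j, hj, n, hn, rfl⟩ := mem_sup_of_le_normalizer (fun g _ => htopn J g) ht'
    have hnst : n ∈ stab J (ψ : J → ℂ) := by
      have := mul_mem (inv_mem (le_stab ψ hj)) (Subgroup.mem_inf.1 ht).2
      rwa [inv_mul_cancel_left] at this
    have hnTN : n ∈ TN := Subgroup.mem_inf.2 ⟨hn, (X.stab_iff (htopn K n) hn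
      ⟨θ, φ, a1, a2, a3, a4⟩).1 hnst⟩
    obtain ⟨s, hs, r, hr, rfl⟩ := hdec n hnTN
    exact mul_mem (Subgroup.mem_sup_left hj) (mul_mem (Subgroup.mem_sup_left (hSJ hs))
      (Subgroup.mem_sup_right (Subgroup.mem_sup_right hr)))

/-- The count in the critical case. -/
theorem cnt_eq {Z : Subgroup G} (hc : Z ≤ Subgroup.center G) (hZJ : Z ≤ J)
    (hZN : Z ≤ Subgroup.normalizer ((S : Subgroup G) : Set G)) (lam : Z →* ℂˣ) :
    cnt Z.subtype (fun z => (lam z : ℂ)) (fun d => ¬ p ∣ d) =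
      cnt (Subgroup.inclusion hZN) (fun z => (lam z : ℂ)) (fun d => ¬ p ∣ d) := by
  classical
  set N := Subgroup.normalizer ((S : Subgroup G) : Set G) with hN
  have hZJ' : Z ≤ J' := (le_inf hZJ hZN).trans (X.inter_le S)
  have hJN : J' ≤ N := X.le_normalizer S
  have hKnorm : ∀ g : G, g ∈ Subgroup.normalizer (K : Set G) := fun g => by
    rw [Subgroup.normalizer_eq_top]; trivial
  haveI hJ''n : (J'.subgroupOf N).Normal :=
    normal_of_le hJN fun g hg => (X.norms (hKnorm g) hg).2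
  have hc' : Z.subgroupOf N ≤ Subgroup.center N := fun x hx => Subgroup.mem_center_iff.2 fun y =>
    Subtype.ext (Subgroup.mem_center_iff.1 (hc (Subgroup.mem_subgroupOf.1 hx)) y)
  let eZ : Z ≃* Z.subgroupOf N := (Subgroup.subgroupOfEquivOfLe hZN).symm
  let lam' : Z.subgroupOf N →* ℂˣ := lam.comp eZ.symm.toMonoidHom
  have hZ'' : Z.subgroupOf N ≤ J'.subgroupOf N := fun x hx =>
    Subgroup.mem_subgroupOf.2 (hZJ' (Subgroup.mem_subgroupOf.1 hx))
  let SN : Sylow p N := S.subtype Subgroup.le_normalizer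
  letI : Fintype (Orb J (S : Subgroup G) (Over p hZJ lam)) := Fintype.ofFinite _
  letI : Fintype (Orb (J'.subgroupOf N) (SN : Subgroup N) (Over p hZ'' lam')) := Fintype.ofFinite _
  -- left
  have hL : cnt Z.subtype (fun z => (lam z : ℂ)) (fun d => ¬ p ∣ d) =
      ∑ c : Orb J (S : Subgroup G) (Over p hZJ lam),
        cnt J.subtype ((c.out.1 : IrrCharacter J) : J → ℂ) (fun d => ¬ p ∣ d) := by
    rw [← cnt_top, show cnt (Subgroup.inclusion (le_top : Z ≤ ⊤)) (fun z => (lam z : ℂ)) (fun d => ¬ p ∣ d) = _ from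
      cnt_eq_sum S hc hZJ (le_top : J ≤ ⊤) le_top le_top lam]
    exact Finset.sum_congr rfl fun c _ => cnt_top J _ _
  -- right
  have hR : cnt (Subgroup.inclusion hZN) (fun z => (lam z : ℂ)) (fun d => ¬ p ∣ d) =
      ∑ c : Orb (J'.subgroupOf N) (SN : Subgroup N) (Over p hZ'' lam'),
        cnt (J'.subgroupOf N).subtype ((c.out.1 : IrrCharacter (J'.subgroupOf N)) : J'.subgroupOf N → ℂ)
          (fun d => ¬ p ∣ d) := by
    rw [cnt_congr (ι := Subgroup.inclusion hZN) (ι' := (Z.subgroupOf N).subtype) (θ := fun z => (lam z : ℂ))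
      (θ' := fun z => (lam' z : ℂ)) eZ (MulEquiv.refl N) (fun z => rfl) (fun z => by
        show (lam z : ℂ) = (lam (eZ.symm (eZ z)) : ℂ)
        rw [MulEquiv.symm_apply_apply]) _, ← cnt_top,
      show cnt (Subgroup.inclusion (le_top : Z.subgroupOf N ≤ ⊤)) (fun z => (lam' z : ℂ)) (fun d => ¬ p ∣ d) = _ from
      cnt_eq_sum SN hc' hZ'' (le_top : J'.subgroupOf N ≤ ⊤) le_top le_top lam']
    exact Finset.sum_congr rfl fun c _ => cnt_top _ _ _
  rw [hL, hR]
  -- transport to the subgroup of the normalizer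
  let e : J'.subgroupOf N ≃* J' := Subgroup.subgroupOfEquivOfLe hJN
  let t : IrrCharacter J' ≃ IrrCharacter (J'.subgroupOf N) := irrEquiv e
  have hrelN : ∀ (n : N) (a b : IrrCharacter J'),
      conjNormFun (J'.subgroupOf N) n (t a : J'.subgroupOf N → ℂ) = t b ↔ Rel (n : G) J' (b : J' → ℂ) (a : J' → ℂ) := by
    intro n a b
    rw [conjNormFun_eq_iff]
    constructor
    · intro h k k' e'
      exact h (e.symm k) (e.symm k') (Subtype.ext e')
    · intro h k k' e'
      exact h (e k) (e k') (congrArg Subtype.val e')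
  have hQ : ∀ (ψ : IrrCharacter J) (ψ' : IrrCharacter J'), X.Pr ψ ψ' →
      (Over p hZJ lam ψ ↔ Over p hZ'' lam' (t ψ')) := by
    intro ψ ψ' h
    unfold Over
    rw [X.lies_central_iff hc hZJ hZJ' h lam]
    have h1 := lies_congr (ι := Subgroup.inclusion hZJ') (ι' := Subgroup.inclusion hZ'') eZ e.symm (fun z => rfl)
      (fun z => (lam' z : ℂ)) ((t ψ' : J'.subgroupOf N → ℂ))
    rw [show (fun z => ((lam' (eZ z) : ℂˣ) : ℂ)) = fun z => (lam z : ℂ) from funext fun z => by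
        show (lam (eZ.symm (eZ z)) : ℂ) = _; rw [MulEquiv.symm_apply_apply],
      show (fun x => (t ψ' : J'.subgroupOf N → ℂ) (e.symm x)) = (ψ' : J' → ℂ) from funext fun x => by
        show (ψ' : J' → ℂ) (e (e.symm x)) = _; rw [MulEquiv.apply_symm_apply]] at h1
    rw [h1]
    refine and_congr_left fun _ => ⟨fun _ => ?_, fun _ => (X.deg h).1⟩
    rw [show charDegree (t ψ' : J'.subgroupOf N → ℂ) = charDegree (ψ' : J' → ℂ) from charDegree_comp_equiv e _]
    exact (X.deg h).2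
  choose Φ hΦ using fun c : Orb J (S : Subgroup G) (Over p hZJ lam) => X.exists_right c.out.1 c.out.2.2.1
  have hstab : ∀ ψ' : IrrCharacter J', (SN : Subgroup N) ≤ inertia (J'.subgroupOf N) (t ψ' : J'.subgroupOf N → ℂ) :=
    fun ψ' => le_trans (fun x hx => Subgroup.mem_subgroupOf.2 (X.semi'.leS (by
      rw [Sylow.coe_subtype] at hx
      exact Subgroup.mem_subgroupOf.1 hx))) (le_inertia _ (isClassFunction_irr (t ψ').2))
  let F : Orb J (S : Subgroup G) (Over p hZJ lam) → Orb (J'.subgroupOf N) (SN : Subgroup N) (Over p hZ'' lam') :=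
    fun c => ⟦⟨t (Φ c), hstab _, (hQ _ _ (hΦ c)).1 c.out.2.2⟩⟧
  have hSinertia : ∀ ψ : IrrCharacter J, (S : Subgroup G) ≤ inertia J (ψ : J → ℂ) := fun ψ =>
    X.semi.leS.trans (le_inertia J (isClassFunction_irr ψ.2))
  refine Fintype.sum_bijective F ⟨fun a b hab => ?_, fun d => ?_⟩ _ _ fun c => ?_
  · obtain ⟨n, hn⟩ := Quotient.exact hab
    have r' := (hrelN n _ _).1 hn
    obtain ⟨ψ₂, r⟩ := exists_rel (X.norms (hKnorm n) n.2).1 b.out.1
    have := X.left_unique (X.pr_rel (hKnorm n) n.2 r r' (hΦ b)) (hΦ a)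
    subst this
    rw [← Quotient.out_eq a, ← Quotient.out_eq b]
    exact Quotient.sound ⟨(n : G), (conjNormFun_eq_iff J _ _ _).2 r⟩
  · obtain ⟨ψ', hψ'⟩ := t.surjective d.out.1
    have hdQ : Over p hZ'' lam' (t ψ') := hψ' ▸ d.out.2.2
    obtain ⟨ψ, hψ⟩ := X.exists_left ψ' (by
      rw [← charDegree_comp_equiv e (ψ' : J' → ℂ)]
      exact hdQ.1)
    let x : {θ : IrrCharacter J // (S : Subgroup G) ≤ inertia J (θ : J → ℂ) ∧ Over p hZJ lam θ} :=
      ⟨ψ, hSinertia ψ, (hQ ψ ψ' hψ).2 hdQ⟩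
    set c : Orb J (S : Subgroup G) (Over p hZJ lam) := ⟦x⟧ with hcdef
    refine ⟨c, ?_⟩
    obtain ⟨n, hn, hne⟩ := fusion J S (hSinertia ψ) (hSinertia c.out.1)
      ((conjTo_equiv J).symm (Quotient.mk_out (s := stableSetoid J (S : Subgroup G) (Over p hZJ lam)) x))
    have r := (conjNormFun_eq_iff J _ _ _).1 hne
    obtain ⟨ψ₂, r'⟩ := exists_rel (X.norms (hKnorm n) hn).2 (Φ c)
    have := X.right_unique (X.pr_rel (hKnorm n) hn r r' (hΦ c)) hψ
    subst this
    have h1 := (hrelN ⟨n, hn⟩ ψ₂ (Φ c)).2 r'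
    rw [← Quotient.out_eq d]
    exact (Quotient.sound (s := stableSetoid (J'.subgroupOf N) (SN : Subgroup N) (Over p hZ'' lam'))
      (show ConjTo (J'.subgroupOf N) d.out.1 (t (Φ c)) from ⟨⟨n, hn⟩, by rw [← hψ']; exact h1⟩)).symm
  · obtain ⟨n, hn⟩ := (conjTo_equiv (J'.subgroupOf N)).symm
      (Quotient.mk_out (s := stableSetoid (J'.subgroupOf N) (SN : Subgroup N) (Over p hZ'' lam'))
        (⟨t (Φ c), hstab _, (hQ _ _ (hΦ c)).1 c.out.2.2⟩ :
          {θ : IrrCharacter (J'.subgroupOf N) //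
            (SN : Subgroup N) ≤ inertia (J'.subgroupOf N) (θ : J'.subgroupOf N → ℂ) ∧ Over p hZ'' lam' θ}))
    rw [X.cnt_pair S (hΦ c), show (((F c).out.1 : IrrCharacter (J'.subgroupOf N)) : J'.subgroupOf N → ℂ) = _ from hn.symm,
      cnt_conj]
    exact cnt_congr (ι := Subgroup.inclusion hJN) (ι' := (J'.subgroupOf N).subtype)
      (θ := (Φ c : J' → ℂ)) (θ' := (t (Φ c) : J'.subgroupOf N → ℂ)) e.symm (MulEquiv.refl N) (fun _ => rfl)
      (fun k => by show _ = (Φ c : J' → ℂ) (e (e.symm k)); rw [MulEquiv.apply_symm_apply]) _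

end Crit

end CfsgLib.RelMcKay
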