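import Cfsg.Agent.Lib.RelMcKay.Basic

/-!
Clifford counting and decomposition of the characters of `p'`-degree along stable constituents.
-/

set_option autoImplicit false
set_option linter.style.haveILetI false

namespace CfsgLib.RelMcKay

open Cfsg CfsgLib.CharTheory

universe u

variable {G : Type u} [Group G]

/-- The function on the subgroup `K.subgroupOf H`. -/
def down {K : Subgroup G} (H : Subgroup G) (θ : K → ℂ) : K.subgroupOf H → ℂ :=
  fun x => θ ⟨((x : H) : G), Subgroup.mem_subgroupOf.mp x.2⟩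

theorem lies_down {K H : Subgroup G} (hK : K ≤ H) (θ : K → ℂ) (χ : H → ℂ) :
    Lies (Subgroup.inclusion hK) θ χ ↔ Lies (K.subgroupOf H).subtype (down H θ) χ := by
  have h := lies_congr (ι := Subgroup.inclusion hK) (ι' := (K.subgroupOf H).subtype)
    (Subgroup.subgroupOfEquivOfLe hK).symm (MulEquiv.refl H) (fun k => rfl) (down H θ) χ
  exact h

theorem isIrr_down {K H : Subgroup G} [K.Normal] (hK : K ≤ H) {θ : K → ℂ} (hθ : IsIrrCharacter K θ) :
    IsIrrCharacter (K.subgroupOf H) (down H θ) :=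
  isIrrCharacter_comp_surjective hθ (Subgroup.subgroupOfEquivOfLe hK).toMonoidHom
    (Subgroup.subgroupOfEquivOfLe hK).surjective

theorem charDegree_down {K H : Subgroup G} (θ : K → ℂ) : charDegree (down H θ) = charDegree θ := rfl

variable (K : Subgroup G) [K.Normal]

theorem mem_inertia_down {H : Subgroup G} (hK : K ≤ H) (θ : K → ℂ) (h : H) :
    h ∈ inertia (K.subgroupOf H) (down H θ) ↔ (h : G) ∈ inertia K θ := by
  rw [mem_inertia, mem_inertia]
  constructor
  · intro e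
    funext x
    exact congrFun e ⟨⟨x, hK x.2⟩, Subgroup.mem_subgroupOf.mpr x.2⟩
  · intro e
    funext x
    exact congrFun e ⟨((x : H) : G), Subgroup.mem_subgroupOf.mp x.2⟩

theorem inertia_down_eq {H : Subgroup G} (hK : K ≤ H) (θ : K → ℂ) :
    inertia (K.subgroupOf H) (down H θ) = (H ⊓ inertia K θ).subgroupOf H := by
  ext h
  rw [mem_inertia_down K hK, Subgroup.mem_subgroupOf]
  exact ⟨fun e => ⟨h.2, e⟩, fun e => e.2⟩

theorem charDegree_indFun {A : Type u} [Group A] [Fintype A] {T : Subgroup A} {ψ : T → ℂ}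
    (hψ : IsIrrCharacter T ψ) (hind : IsIrrCharacter A (indFun T ψ)) :
    charDegree (indFun T ψ) = T.index * charDegree ψ := by
  have h := indFun_apply_one T ψ
  rw [apply_one hind, apply_one hψ, ← Nat.cast_mul, Nat.cast_inj] at h
  exact h

theorem cnt_clifford_aux {A : Type u} [Group A] [Fintype A] (N T : Subgroup A) [N.Normal] [Fintype N] [Fintype T]
    (hNT : N ≤ T) {θ : N → ℂ} (hθ : IsIrrCharacter N θ) (hT : T = inertia N θ) (P : ℕ → Prop) :
    cnt (Subgroup.inclusion hNT) θ (fun d => P (T.index * d)) = cnt N.subtype θ P := by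
  have hl : ∀ ψ : T → ℂ, Lies (Subgroup.inclusion hNT) θ ψ →
      classInner (fun n : N => ψ ⟨n, hNT n.2⟩) θ ≠ 0 := fun ψ h =>
    (lies_iff (Subgroup.inclusion hNT) θ ψ).mp h
  have hfwd : ∀ ψ : T → ℂ, IsIrrCharacter T ψ → Lies (Subgroup.inclusion hNT) θ ψ →
      IsIrrCharacter A (indFun T ψ) ∧ Lies N.subtype θ (indFun T ψ) := fun ψ hψ h => by
    obtain ⟨hi, hm⟩ := clifford_correspondence N hθ hNT hT hψ (hl ψ h)
    exact ⟨hi, (lies_iff N.subtype θ (indFun T ψ)).mpr (hm.trans_ne (hl ψ h))⟩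
  let F : {ψ : IrrCharacter T // P (T.index * charDegree (ψ : T → ℂ)) ∧
        Lies (Subgroup.inclusion hNT) θ (ψ : T → ℂ)} →
      {χ : IrrCharacter A // P (charDegree (χ : A → ℂ)) ∧ Lies N.subtype θ (χ : A → ℂ)} := fun ψ =>
    ⟨⟨indFun T (ψ.1 : T → ℂ), (hfwd _ ψ.1.2 ψ.2.2).1⟩, by
      show P (charDegree (indFun T (ψ.1 : T → ℂ)))
      rw [charDegree_indFun ψ.1.2 (hfwd _ ψ.1.2 ψ.2.2).1]; exact ψ.2.1, (hfwd _ ψ.1.2 ψ.2.2).2⟩
  refine Nat.card_eq_of_bijective F ⟨fun a b hab => ?_, fun χ => ?_⟩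
  · have e : indFun T (a.1 : T → ℂ) = indFun T (b.1 : T → ℂ) :=
      congrArg (fun c => (c.1.1 : A → ℂ)) hab
    exact Subtype.ext (Subtype.ext
      (clifford_correspondence_inj N hθ hNT hT a.1.2 b.1.2 (hl _ a.2.2) (hl _ b.2.2) e))
  · obtain ⟨⟨χ, hχ⟩, hP, hlχ⟩ := χ
    obtain ⟨ψ, hψ, hc, e⟩ := exists_clifford_pre N hθ hNT hT hχ ((lies_iff N.subtype θ χ).mp hlχ)
    refine ⟨⟨⟨ψ, hψ⟩, ?_, (lies_iff (Subgroup.inclusion hNT) θ ψ).mpr hc⟩, Subtype.ext (Subtype.ext e)⟩
    show P (T.index * charDegree ψ)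
    rw [← charDegree_indFun hψ (e ▸ hχ), e]
    exact hP

/-- Clifford's correspondence as a count. -/
theorem cnt_clifford [Finite G] {H : Subgroup G} (hK : K ≤ H) {θ : K → ℂ} (hθ : IsIrrCharacter K θ)
    (P : ℕ → Prop) :
    cnt (Subgroup.inclusion hK) θ P =
      cnt (Subgroup.inclusion (le_inf hK (le_inertia K (isClassFunction_irr hθ)))) θ
        (fun d => P ((H ⊓ inertia K θ).relIndex H * d)) := by
  have hKT : K ≤ H ⊓ inertia K θ := le_inf hK (le_inertia K (isClassFunction_irr hθ))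
  let eK : K ≃* K.subgroupOf H := (Subgroup.subgroupOfEquivOfLe hK).symm
  let eT : ↥(H ⊓ inertia K θ) ≃* (H ⊓ inertia K θ).subgroupOf H :=
    (Subgroup.subgroupOfEquivOfLe inf_le_left).symm
  have hKT' : K.subgroupOf H ≤ (H ⊓ inertia K θ).subgroupOf H := fun x hx =>
    Subgroup.mem_subgroupOf.mpr (hKT (Subgroup.mem_subgroupOf.mp hx))
  have := Fintype.ofFinite H
  have := Fintype.ofFinite (K.subgroupOf H)
  have := Fintype.ofFinite ((H ⊓ inertia K θ).subgroupOf H)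
  have h := cnt_clifford_aux (K.subgroupOf H) ((H ⊓ inertia K θ).subgroupOf H) hKT' (isIrr_down hK hθ)
    (inertia_down_eq K hK θ).symm P
  rw [cnt_congr (ι := Subgroup.inclusion hK) (ι' := (K.subgroupOf H).subtype) (θ := θ) (θ' := down H θ)
      eK (MulEquiv.refl H) (fun k => rfl) (fun k => rfl) P, ← h]
  exact (cnt_congr (ι := Subgroup.inclusion hKT) (ι' := Subgroup.inclusion hKT') (θ := θ) (θ' := down H θ) eK eT
      (fun k => rfl) (fun k => rfl) _).symm

/-- Conjugacy of characters of a normal subgroup. -/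
def ConjTo (θ θ' : IrrCharacter K) : Prop := ∃ g : G, conjNormFun K g (θ : K → ℂ) = θ'

theorem conjTo_equiv : Equivalence (ConjTo K) where
  refl θ := ⟨1, conjNormFun_one K _⟩
  symm := fun {θ θ'} ⟨g, hg⟩ => ⟨g⁻¹, by rw [← hg, ← conjNormFun_mul, mul_inv_cancel, conjNormFun_one]⟩
  trans := fun {θ θ' θ''} ⟨g, hg⟩ ⟨g', hg'⟩ => ⟨g * g', by rw [conjNormFun_mul, hg, hg']⟩

/-- The classes of stable characters with property `Q`. -/
def stableSetoid (S : Subgroup G) (Q : IrrCharacter K → Prop) :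
    Setoid {θ : IrrCharacter K // S ≤ inertia K (θ : K → ℂ) ∧ Q θ} where
  r a b := ConjTo K a.1 b.1
  iseqv := ⟨fun a => (conjTo_equiv K).refl a.1, (conjTo_equiv K).symm, (conjTo_equiv K).trans⟩

/-- The type of classes of stable characters. -/
abbrev Orb (S : Subgroup G) (Q : IrrCharacter K → Prop) := Quotient (stableSetoid K S Q)

variable {p : ℕ} [Fact p.Prime] [Finite G]

/-- A subgroup of index prime to `p` contains a conjugate of a Sylow subgroup. -/
theorem exists_conj_sylow_le {A : Type u} [Group A] [Finite A] (S : Sylow p A) (T : Subgroup A)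
    (hT : ¬ p ∣ T.index) : ∃ a : A, ∀ s ∈ (S : Subgroup A), a * s * a⁻¹ ∈ T := by
  obtain ⟨P⟩ : Nonempty (Sylow p T) := inferInstance
  have hP : IsPGroup p ((P : Subgroup T).map T.subtype) := P.2.map _
  have hidx : ¬ p ∣ ((P : Subgroup T).map T.subtype).index := by
    rw [Subgroup.index_map_subtype]
    intro hd
    rcases (Nat.Prime.dvd_mul Fact.out).mp hd with h | h
    · exact P.not_dvd_index h
    · exact hT h
  obtain ⟨a, ha⟩ := MulAction.exists_smul_eq A S (hP.toSylow hidx)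
  refine ⟨a, fun s hs => Subgroup.map_subtype_le (P : Subgroup T) ?_⟩
  have h2 : a * s * a⁻¹ ∈ (hP.toSylow hidx : Subgroup A) := by
    rw [← ha, Sylow.coe_subgroup_smul]
    exact Subgroup.smul_mem_pointwise_smul s (MulAut.conj a) _ hs
  exact h2

/-- Stable conjugate characters are conjugate in the normalizer of the Sylow subgroup. -/
theorem fusion (S : Sylow p G) {θ θ' : IrrCharacter K} (hθ : (S : Subgroup G) ≤ inertia K (θ : K → ℂ))
    (hθ' : (S : Subgroup G) ≤ inertia K (θ' : K → ℂ)) (h : ConjTo K θ θ') :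
    ∃ n ∈ Subgroup.normalizer ((S : Subgroup G) : Set G), conjNormFun K n (θ : K → ℂ) = θ' := by
  obtain ⟨g, hg⟩ := h
  set T := inertia K (θ : K → ℂ)
  -- `g S g⁻¹` and `S` lie in the stabiliser of `θ`
  have hgS : ∀ s ∈ (S : Subgroup G), g * s * g⁻¹ ∈ T := by
    intro s hs
    rw [mem_inertia, conjNormFun_mul, conjNormFun_mul, hg, (mem_inertia K).mp (hθ' hs), ← hg,
      ← conjNormFun_mul, mul_inv_cancel, conjNormFun_one]
  have hgT : ((g • S : Sylow p G) : Subgroup G) ≤ T := by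
    intro y hy
    rw [Sylow.coe_subgroup_smul, Subgroup.mem_pointwise_smul_iff_inv_smul_mem] at hy
    have := hgS _ hy
    simpa [MulAut.smul_def, mul_assoc] using this
  obtain ⟨t, ht⟩ := MulAction.exists_smul_eq T (Sylow.subtype (g • S) hgT) (S.subtype hθ)
  simp_rw [Sylow.smul_subtype, Subgroup.smul_def, smul_smul] at ht
  have ht' : ((t : G) * g) • S = S := Sylow.subtype_injective ht
  refine ⟨(t : G) * g, Sylow.smul_eq_iff_mem_normalizer.mp ht', ?_⟩
  rw [conjNormFun_mul, (mem_inertia K).mp t.2, hg]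

variable {H : Subgroup G}

/-- Splitting the characters of `p'`-degree of `H` along the classes of their stable constituents. -/
theorem decompose (S : Sylow p G) (hK : K ≤ H) (hS : (S : Subgroup G) ≤ H)
    (hN : Subgroup.normalizer ((S : Subgroup G) : Set G) ≤ H)
    (Q : IrrCharacter K → Prop) (hQ : ∀ θ θ', ConjTo K θ θ' → Q θ → Q θ')
    [Fintype (Orb K (S : Subgroup G) Q)] :
    Nat.card {χ : IrrCharacter H // ¬ p ∣ charDegree (χ : H → ℂ) ∧
        ∀ θ : IrrCharacter K, Lies (Subgroup.inclusion hK) (θ : K → ℂ) (χ : H → ℂ) → Q θ} =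
      ∑ c : Orb K (S : Subgroup G) Q,
        cnt (Subgroup.inclusion hK) ((c.out.1 : IrrCharacter K) : K → ℂ) (fun d => ¬ p ∣ d) := by
  classical
  haveI := Fintype.ofFinite H
  haveI := Fintype.ofFinite K
  haveI := Fintype.ofFinite (K.subgroupOf H)
  rw [show (∑ c : Orb K (S : Subgroup G) Q,
      cnt (Subgroup.inclusion hK) ((c.out.1 : IrrCharacter K) : K → ℂ) (fun d => ¬ p ∣ d)) = _ from
    Nat.card_sigma.symm]
  have hconj : ∀ (χ : IrrCharacter H) (θ θ' : IrrCharacter K),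
      Lies (Subgroup.inclusion hK) (θ : K → ℂ) (χ : H → ℂ) → Lies (Subgroup.inclusion hK) (θ' : K → ℂ) (χ : H → ℂ) →
      ∃ h ∈ H, conjNormFun K h (θ : K → ℂ) = θ' := by
    intro χ θ θ' h1 h2
    rw [lies_down hK, lies_iff] at h1 h2
    obtain ⟨h, hh⟩ := exists_conj_of_constituents (K.subgroupOf H) χ.2 (isIrr_down hK θ.2) (isIrr_down hK θ'.2) h1 h2
    exact ⟨h, h.2, funext fun x => congrFun hh ⟨⟨x, hK x.2⟩, Subgroup.mem_subgroupOf.mpr x.2⟩⟩
  have hlconj : ∀ (χ : IrrCharacter H) (θ : IrrCharacter K) (h : H),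
      Lies (Subgroup.inclusion hK) (θ : K → ℂ) (χ : H → ℂ) →
      Lies (Subgroup.inclusion hK) (conjNormFun K (h : G) (θ : K → ℂ)) (χ : H → ℂ) := by
    intro χ θ h h1
    rw [lies_down hK, lies_iff] at h1 ⊢
    show classInner (fun n : K.subgroupOf H => (χ : H → ℂ) n) (conjNormFun (K.subgroupOf H) h (down H θ)) ≠ 0
    rw [classInner_res_conjNormFun _ h (isClassFunction_irr χ.2)]
    exact h1
  let F : (Σ c : Orb K (S : Subgroup G) Q, {χ : IrrCharacter H // ¬ p ∣ charDegree (χ : H → ℂ) ∧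
        Lies (Subgroup.inclusion hK) ((c.out.1 : IrrCharacter K) : K → ℂ) (χ : H → ℂ)}) →
      {χ : IrrCharacter H // ¬ p ∣ charDegree (χ : H → ℂ) ∧
        ∀ θ : IrrCharacter K, Lies (Subgroup.inclusion hK) (θ : K → ℂ) (χ : H → ℂ) → Q θ} := fun x =>
    ⟨x.2.1, x.2.2.1, fun θ hθ => by
      obtain ⟨h, -, hh⟩ := hconj x.2.1 x.1.out.1 θ x.2.2.2 hθ
      exact hQ _ _ ⟨h, hh⟩ x.1.out.2.2⟩
  refine (Nat.card_eq_of_bijective F ⟨?_, ?_⟩).symm
  · rintro ⟨c, χ, hχ⟩ ⟨c', χ', hχ'⟩ he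
    obtain rfl : χ = χ' := congrArg Subtype.val he
    obtain ⟨h, -, hh⟩ := hconj χ c.out.1 c'.out.1 hχ.2 hχ'.2
    have : c = c' := by
      rw [← Quotient.out_eq c, ← Quotient.out_eq c']
      exact Quotient.sound ⟨h, hh⟩
    subst this
    rfl
  · rintro ⟨χ, hp, hQχ⟩
    obtain ⟨θ₀, hθ₀⟩ := exists_lies (Subgroup.inclusion hK) χ.2
    have hd := dvd_degree (K.subgroupOf H) (isIrr_down hK θ₀.2) χ.2 ((lies_down hK _ _).mp hθ₀)
    have hidx : ¬ p ∣ (inertia (K.subgroupOf H) (down H (θ₀ : K → ℂ))).index := fun h =>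
      hp ((h.mul_right _).trans hd)
    obtain ⟨a, ha⟩ := exists_conj_sylow_le (S.subtype hS) _ hidx
    let θ : IrrCharacter K := ⟨conjNormFun K (a : G) (θ₀ : K → ℂ), isIrr_conjNormFun K _ θ₀.2⟩
    have hθS : (S : Subgroup G) ≤ inertia K (θ : K → ℂ) := by
      intro s hs
      have h1 := (mem_inertia_down K hK _ _).mp (ha ⟨s, hS hs⟩ (by rw [Sylow.coe_subtype]; exact hs))
      have h2 : (a : G) * s * (a : G)⁻¹ ∈ inertia K (θ₀ : K → ℂ) := h1
      rw [mem_inertia] at h2 ⊢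
      show conjNormFun K s (conjNormFun K (a : G) (θ₀ : K → ℂ)) = conjNormFun K (a : G) (θ₀ : K → ℂ)
      conv_rhs => rw [← h2]
      rw [← conjNormFun_mul, ← conjNormFun_mul, inv_mul_cancel_right]
    have hθl : Lies (Subgroup.inclusion hK) (θ : K → ℂ) (χ : H → ℂ) := hlconj χ θ₀ a hθ₀
    let c : Orb K (S : Subgroup G) Q := ⟦⟨θ, hθS, hQχ θ hθl⟩⟧
    have hr : ConjTo K θ c.out.1 := (conjTo_equiv K).symm (Quotient.mk_out (s := stableSetoid K (S : Subgroup G) Q) ⟨θ, hθS, hQχ θ hθl⟩)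
    obtain ⟨n, hn, e⟩ := fusion K S hθS c.out.2.1 hr
    refine ⟨⟨c, χ, hp, ?_⟩, rfl⟩
    have := hlconj χ θ ⟨n, hN hn⟩ hθl
    rwa [show conjNormFun K n (θ : K → ℂ) = _ from e] at this

end CfsgLib.RelMcKay
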