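import Cfsg.Agent.Lib.RelMcKay.Glauberman
import Cfsg.Agent.Lib.RelMcKay.Decompose
import Cfsg.Agent.Lib.Coprime
import Cfsg.Agent.Lib.NoDivPair.Basic

/-!
Extendibility over two commuting operators is preserved by the Glauberman correspondence.
-/

set_option autoImplicit false
set_option linter.style.haveILetI false
set_option linter.unusedSectionVars false

namespace CfsgLib.RelMcKay

open Cfsg CfsgLib.CharTheory CfsgLib.Glauberman CfsgLib.Glauberman.NormalSylow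
open scoped ComplexConjugate

universe u

variable {Γ : Type u} [Group Γ]

section Pairs

variable {C : Subgroup Γ} {x y : Γ}

theorem pair_le_norm (hx : x ∈ Subgroup.normalizer (C : Set Γ)) (hy : y ∈ Subgroup.normalizer (C : Set Γ)) :
    C ⊔ Subgroup.closure {x, y} ≤ Subgroup.normalizer (C : Set Γ) :=
  sup_le Subgroup.le_normalizer ((Subgroup.closure_le _).2 (Set.insert_subset_iff.2
    ⟨hx, Set.singleton_subset_iff.2 hy⟩))

theorem mem_pair_left (C : Subgroup Γ) (x y : Γ) : x ∈ C ⊔ Subgroup.closure {x, y} :=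
  Subgroup.mem_sup_right (Subgroup.subset_closure (Or.inl rfl))

theorem mem_pair_right (C : Subgroup Γ) (x y : Γ) : y ∈ C ⊔ Subgroup.closure {x, y} :=
  Subgroup.mem_sup_right (Subgroup.subset_closure (Or.inr rfl))

/-- A unimodular change of two generators commuting modulo `C`. -/
theorem pair_change (hx : x ∈ Subgroup.normalizer (C : Set Γ)) (hy : y ∈ Subgroup.normalizer (C : Set Γ))
    (hcomm : x * y * x⁻¹ * y⁻¹ ∈ C) (a b c d : ℤ) (hdet : a * d - b * c = 1) :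
    C ⊔ Subgroup.closure {x ^ a * y ^ b, x ^ c * y ^ d} = C ⊔ Subgroup.closure {x, y} ∧
      (x ^ a * y ^ b) * (x ^ c * y ^ d) * (x ^ a * y ^ b)⁻¹ * (x ^ c * y ^ d)⁻¹ ∈ C := by
  set N := Subgroup.normalizer (C : Set Γ)
  let CN := C.subgroupOf N
  haveI : CN.Normal := (Subgroup.normal_subgroupOf_iff_le_normalizer Subgroup.le_normalizer).2 le_rfl
  let X : N := ⟨x, hx⟩
  let Y : N := ⟨y, hy⟩
  have hXY : Commute (QuotientGroup.mk' CN X) (QuotientGroup.mk' CN Y) := by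
    show _ * _ = _ * _
    have h1 : QuotientGroup.mk' CN (X * Y * X⁻¹ * Y⁻¹) = 1 :=
      (QuotientGroup.eq_one_iff _).2 (Subgroup.mem_subgroupOf.2 hcomm)
    simp only [map_mul, map_inv] at h1
    rwa [mul_inv_eq_one, mul_inv_eq_iff_eq_mul] at h1
  set X' := X ^ a * Y ^ b
  set Y' := X ^ c * Y ^ d
  have hX' : (X' : Γ) = x ^ a * y ^ b := by simp [X', X, Y]
  have hY' : (Y' : Γ) = x ^ c * y ^ d := by simp [Y', X, Y]
  have key : ∀ i j : ℤ, QuotientGroup.mk' CN (X' ^ i * Y' ^ j) =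
      QuotientGroup.mk' CN X ^ (a * i + c * j) * QuotientGroup.mk' CN Y ^ (b * i + d * j) := by
    intro i j
    simp only [X', Y', map_mul, map_zpow]
    rw [((hXY.zpow_zpow a b)).mul_zpow, ((hXY.zpow_zpow c d)).mul_zpow, ← zpow_mul, ← zpow_mul,
      ← zpow_mul, ← zpow_mul, zpow_add, zpow_add, mul_assoc, ← mul_assoc (_ ^ (b * i)),
      (hXY.zpow_zpow (c * j) (b * i)).symm.eq]
    group
  have hback : ∀ (i j : ℤ) (Z : N), QuotientGroup.mk' CN (X' ^ i * Y' ^ j) = QuotientGroup.mk' CN Z →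
      (Z : Γ) ∈ C ⊔ Subgroup.closure {x ^ a * y ^ b, x ^ c * y ^ d} := by
    intro i j Z e
    have h1 : (X' ^ i * Y' ^ j)⁻¹ * Z ∈ CN := QuotientGroup.eq.mp e
    rw [show (Z : Γ) = ((X' : Γ) ^ i * (Y' : Γ) ^ j) * (((X' ^ i * Y' ^ j)⁻¹ * Z : N) : Γ) by
      simp only [Subgroup.coe_mul, Subgroup.coe_inv, SubgroupClass.coe_zpow]
      exact (mul_inv_cancel_left _ _).symm, hX', hY']
    exact mul_mem (mul_mem (zpow_mem (mem_pair_left C _ _) i) (zpow_mem (mem_pair_right C _ _) j))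
      (Subgroup.mem_sup_left h1)
  refine ⟨le_antisymm ?_ ?_, ?_⟩
  · refine sup_le le_sup_left ((Subgroup.closure_le _).2 (Set.insert_subset_iff.2 ⟨?_, Set.singleton_subset_iff.2 ?_⟩))
    · exact mul_mem (zpow_mem (mem_pair_left C x y) a) (zpow_mem (mem_pair_right C x y) b)
    · exact mul_mem (zpow_mem (mem_pair_left C x y) c) (zpow_mem (mem_pair_right C x y) d)
  · refine sup_le le_sup_left ((Subgroup.closure_le _).2 (Set.insert_subset_iff.2 ⟨?_, Set.singleton_subset_iff.2 ?_⟩))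
    · refine hback d (-b) X ?_
      rw [key, show a * d + c * (-b) = 1 by linarith, show b * d + d * (-b) = 0 by ring, zpow_one, zpow_zero,
        mul_one]
    · refine hback (-c) a Y ?_
      rw [key, show a * (-c) + c * a = 0 by ring, show b * (-c) + d * a = 1 by linarith, zpow_one, zpow_zero,
        one_mul]
  · have hc : Commute (QuotientGroup.mk' CN X') (QuotientGroup.mk' CN Y') := by
      simp only [X', Y', map_mul, map_zpow]
      exact (((Commute.refl _).zpow_zpow a c).mul_left (hXY.symm.zpow_zpow b c)).mul_right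
        ((hXY.zpow_zpow a d).mul_left ((Commute.refl _).zpow_zpow b d))
    have h1 : QuotientGroup.mk' CN (X' * Y' * X'⁻¹ * Y'⁻¹) = 1 := by
      simp only [map_mul, map_inv]
      rw [hc.eq, mul_inv_cancel_right, mul_inv_cancel]
    have h2 := Subgroup.mem_subgroupOf.1 ((QuotientGroup.eq_one_iff _).1 h1)
    simpa [hX', hY'] using h2

end Pairs

section Cyclic

variable [Finite Γ] {K H : Subgroup Γ}

theorem normal_of_le (hKH : K ≤ H) (hn : H ≤ Subgroup.normalizer (K : Set Γ)) :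
    (K.subgroupOf H).Normal :=
  (Subgroup.normal_subgroupOf_iff_le_normalizer hKH).2 hn

theorem invariant_down (hKH : K ≤ H) (hn : H ≤ Subgroup.normalizer (K : Set Γ)) (θ : K → ℂ)
    (h : H ≤ stab K θ) : @Invariant H _ (K.subgroupOf H) (normal_of_le hKH hn) (down H θ) := by
  haveI := normal_of_le hKH hn
  rw [invariant_iff]
  intro g x
  exact (h g.2).2 ⟨((x : H) : Γ), Subgroup.mem_subgroupOf.1 x.2⟩
    ⟨(g : Γ) * ((x : H) : Γ) * (g : Γ)⁻¹, norm_conj (hn g.2) (Subgroup.mem_subgroupOf.1 x.2)⟩ rfl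

theorem isIrr_down' (hKH : K ≤ H) {θ : K → ℂ} (hθ : IsIrrCharacter K θ) :
    IsIrrCharacter (K.subgroupOf H) (down H θ) :=
  isIrrCharacter_comp_surjective hθ (Subgroup.subgroupOfEquivOfLe hKH).toMonoidHom
    (Subgroup.subgroupOfEquivOfLe hKH).surjective

/-- Over a cyclic factor every character over an invariant one extends it. -/
theorem ext_cyclic' (hKH : K ≤ H) {w : Γ} (hH : H = K ⊔ Subgroup.zpowers w) (θ : IrrCharacter K)
    (hw : w ∈ stab K (θ : K → ℂ)) {χ : H → ℂ} (hχ : IsIrrCharacter H χ)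
    (hl : Lies (Subgroup.inclusion hKH) (θ : K → ℂ) χ) : ∀ k : K, χ (Subgroup.inclusion hKH k) = (θ : K → ℂ) k := by
  have hst : H ≤ stab K (θ : K → ℂ) := hH ▸ sup_le (le_stab θ) (Subgroup.zpowers_le.2 hw)
  have hn : H ≤ Subgroup.normalizer (K : Set Γ) := fun g hg => (hst hg).1
  haveI := normal_of_le hKH hn
  have hwH : w ∈ H := hH ▸ Subgroup.mem_sup_right (Subgroup.mem_zpowers w)
  have hcyc : IsCyclic (H ⧸ K.subgroupOf H) := by
    refine ⟨⟨QuotientGroup.mk' _ ⟨w, hwH⟩, fun z => ?_⟩⟩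
    obtain ⟨⟨g, hg⟩, rfl⟩ := QuotientGroup.mk'_surjective _ z
    obtain ⟨k, hk, a, ha, e⟩ := mem_sup_of_le_normalizer
      (Subgroup.zpowers_le.2 hw.1) (show g ∈ K ⊔ Subgroup.zpowers w from hH ▸ hg)
    obtain ⟨i, rfl⟩ := Subgroup.mem_zpowers_iff.1 ha
    refine ⟨i, ?_⟩
    show (QuotientGroup.mk' (K.subgroupOf H) (⟨w, hwH⟩ : H)) ^ i = _
    rw [← map_zpow]
    refine QuotientGroup.eq.mpr (Subgroup.mem_subgroupOf.2 ?_)
    show (((⟨w, hwH⟩ : H) ^ i : H) : Γ)⁻¹ * g ∈ K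
    rw [SubgroupClass.coe_zpow, ← e, ← mul_assoc]
    exact norm_conj' (zpow_mem hw.1 i) hk
  have := ext_of_cyclic (K.subgroupOf H) (isIrr_down' hKH θ.2) (invariant_down hKH hn _ hst) hcyc hχ
    ((lies_down hKH _ _).1 hl)
  intro k
  exact this ⟨Subgroup.inclusion hKH k, Subgroup.mem_subgroupOf.2 k.2⟩

/-- A character with irreducible restriction is irreducible. -/
theorem irr_of_res (hKH : K ≤ H) (hn : H ≤ Subgroup.normalizer (K : Set Γ)) {θ : K → ℂ}
    (hθ : IsIrrCharacter K θ) {χ : H → ℂ} (hχ : IsCharacter H χ)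
    (h : ∀ k : K, χ (Subgroup.inclusion hKH k) = θ k) : IsIrrCharacter H χ := by
  haveI := normal_of_le hKH hn
  obtain ⟨n, ρ, rfl⟩ := hχ
  exact irr_of_extends (isIrr_down' hKH hθ) ρ fun x =>
    h ⟨((x : H) : Γ), Subgroup.mem_subgroupOf.1 x.2⟩

/-- Extensions differ by a linear character of the factor. -/
theorem exists_twist (hKH : K ≤ H) (hn : H ≤ Subgroup.normalizer (K : Set Γ))
    (hab : ∀ a b : H, (a : Γ) * b * (a : Γ)⁻¹ * (b : Γ)⁻¹ ∈ K) {θ : K → ℂ} (hθ : IsIrrCharacter K θ)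
    {χ χ' : H → ℂ} (hχ : IsIrrCharacter H χ) (h : ∀ k : K, χ (Subgroup.inclusion hKH k) = θ k)
    (hχ' : IsIrrCharacter H χ') (h' : ∀ k : K, χ' (Subgroup.inclusion hKH k) = θ k) :
    ∃ Λ : H →* ℂˣ, (∀ a : H, (a : Γ) ∈ K → Λ a = 1) ∧ ∀ a, χ' a = (Λ a : ℂ) * χ a := by
  haveI := normal_of_le hKH hn
  haveI := Fintype.ofFinite H
  haveI := Fintype.ofFinite (K.subgroupOf H)
  have e1 : (fun x : K.subgroupOf H => χ x) = down H θ := funext fun x =>
    h ⟨((x : H) : Γ), Subgroup.mem_subgroupOf.1 x.2⟩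
  have e2 : (fun x : K.subgroupOf H => χ' x) = down H θ := funext fun x =>
    h' ⟨((x : H) : Γ), Subgroup.mem_subgroupOf.1 x.2⟩
  have hres : IsIrrCharacter (K.subgroupOf H) (fun x : K.subgroupOf H => χ x) := e1 ▸ isIrr_down' hKH hθ
  obtain ⟨β, hβ, hk, e⟩ := (gallagher (K.subgroupOf H) (isCharacter_of_irr hχ) hres).2.2 χ' hχ' (by
    rw [e2, ← e1, classInner_irr_self hres]; exact one_ne_zero)
  have hβ1 : β 1 = 1 := irr_degree_one_of_kernel_commutator (K.subgroupOf H)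
    (fun a b => Subgroup.mem_subgroupOf.2 (hab a b)) hβ hk
  obtain ⟨Λ, rfl⟩ := exists_hom_of_degree_one (isCharacter_of_irr hβ) hβ1
  exact ⟨Λ, fun a ha => Units.ext (by simpa using hk a (Subgroup.mem_subgroupOf.2 ha)), fun a => congrFun e a⟩

/-- Such a twist fixing an extension is trivial. -/
theorem twist_eq_one (hKH : K ≤ H) (hn : H ≤ Subgroup.normalizer (K : Set Γ)) {θ : K → ℂ}
    (hθ : IsIrrCharacter K θ) {χ : H → ℂ} (hχ : IsIrrCharacter H χ)
    (h : ∀ k : K, χ (Subgroup.inclusion hKH k) = θ k) (Λ : H →* ℂˣ) (hΛ : ∀ a : H, (a : Γ) ∈ K → Λ a = 1)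
    (he : ∀ a, (Λ a : ℂ) * χ a = χ a) : Λ = 1 := by
  haveI := normal_of_le hKH hn
  haveI := Fintype.ofFinite H
  haveI := Fintype.ofFinite (K.subgroupOf H)
  have e1 : (fun x : K.subgroupOf H => χ x) = down H θ := funext fun x =>
    h ⟨((x : H) : Γ), Subgroup.mem_subgroupOf.1 x.2⟩
  have hres : IsIrrCharacter (K.subgroupOf H) (fun x : K.subgroupOf H => χ x) := e1 ▸ isIrr_down' hKH hθ
  have := (gallagher (K.subgroupOf H) (isCharacter_of_irr hχ) hres).2.1 (fun a => (Λ a : ℂ)) (fun _ => 1)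
    (isIrrCharacter_linear Λ) (fun n hn => by
      show (Λ n : ℂ) = (Λ 1 : ℂ)
      rw [hΛ n (Subgroup.mem_subgroupOf.1 hn), map_one]) isIrrCharacter_one (fun _ _ => rfl)
    (funext fun a => by rw [Pi.mul_apply, Pi.mul_apply, he, one_mul])
  exact MonoidHom.ext fun a => Units.ext (congrFun this a)

variable {x y : Γ}

/-- An operator normalising `K` and the generator modulo `K` normalises the extension. -/
theorem norm_sup_zpowers (hxK : x ∈ Subgroup.normalizer (K : Set Γ)) (hcomm : x * y * x⁻¹ * y⁻¹ ∈ K) :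
    x ∈ Subgroup.normalizer ((K ⊔ Subgroup.zpowers y : Subgroup Γ) : Set Γ) := by
  set L := K ⊔ Subgroup.zpowers y with hL
  have h1 : x * y * x⁻¹ ∈ L := by
    rw [show x * y * x⁻¹ = x * y * x⁻¹ * y⁻¹ * y by group]
    exact mul_mem (Subgroup.mem_sup_left hcomm) (Subgroup.mem_sup_right (Subgroup.mem_zpowers y))
  have h2 : L.map (MulAut.conj x).toMonoidHom ≤ L := by
    rw [hL, Subgroup.map_sup, MonoidHom.map_zpowers]
    refine sup_le ?_ (Subgroup.zpowers_le.2 h1)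
    rintro _ ⟨k, hk, rfl⟩
    exact Subgroup.mem_sup_left (norm_conj hxK hk)
  have h3 := Subgroup.eq_of_le_of_card_ge h2 (le_of_eq
    (Subgroup.card_map_of_injective (K := L) (MulAut.conj x).injective).symm)
  rw [Subgroup.mem_normalizer_iff]
  intro k
  refine ⟨fun hk => h2 ⟨k, hk, rfl⟩, fun hk => ?_⟩
  have hk' : x * k * x⁻¹ ∈ L.map (MulAut.conj x).toMonoidHom := h3.symm ▸ hk
  obtain ⟨k', hk', e⟩ := hk'
  exact (MulAut.conj x).injective e ▸ hk'

/-- Extending over two operators in two cyclic steps. -/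
theorem ext_pair_iff (θ : IrrCharacter K) (hx : x ∈ stab K (θ : K → ℂ)) (hy : y ∈ stab K (θ : K → ℂ))
    (hcomm : x * y * x⁻¹ * y⁻¹ ∈ K) :
    ExtTo (Subgroup.inclusion (le_sup_left : K ≤ K ⊔ Subgroup.closure {x, y})) (θ : K → ℂ) ↔
      ∃ η : IrrCharacter ↥(K ⊔ Subgroup.zpowers y),
        (∀ k : K, (η : ↥(K ⊔ Subgroup.zpowers y) → ℂ) (Subgroup.inclusion le_sup_left k) = (θ : K → ℂ) k) ∧
        Rel x (K ⊔ Subgroup.zpowers y) (η : ↥(K ⊔ Subgroup.zpowers y) → ℂ)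
          (η : ↥(K ⊔ Subgroup.zpowers y) → ℂ) := by
  set M := K ⊔ Subgroup.closure {x, y} with hM
  set L := K ⊔ Subgroup.zpowers y with hL
  have hKL : K ≤ L := le_sup_left
  have hLM : L ≤ M := sup_le le_sup_left (Subgroup.zpowers_le.2 (mem_pair_right K x y))
  have hxn : x ∈ Subgroup.normalizer (L : Set Γ) := norm_sup_zpowers hx.1 hcomm
  have hKn : M ≤ Subgroup.normalizer (K : Set Γ) := pair_le_norm hx.1 hy.1
  constructor
  · rintro ⟨χ, hχ, hr⟩
    let η : L → ℂ := fun l => χ (Subgroup.inclusion hLM l)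
    have hη : ∀ k : K, η (Subgroup.inclusion hKL k) = (θ : K → ℂ) k := fun k => hr k
    refine ⟨⟨η, irr_of_res hKL (hLM.trans hKn) θ.2 (isCharacter_comp (isCharacter_of_irr hχ) _) hη⟩,
      hη, fun k k' e => ?_⟩
    show χ _ = χ _
    rw [show Subgroup.inclusion hLM k' = ⟨x, mem_pair_left K x y⟩ * Subgroup.inclusion hLM k *
      ⟨x, mem_pair_left K x y⟩⁻¹ from Subtype.ext e]
    exact isClassFunction_irr hχ _ _
  · rintro ⟨η, hη, hxη⟩
    haveI := Fintype.ofFinite M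
    haveI := Fintype.ofFinite (L.subgroupOf M)
    obtain ⟨χ, hχ, hc⟩ := exists_irr_above (G := M) (N := L.subgroupOf M) (isIrr_down' hLM η.2)
    have hM' : M = L ⊔ Subgroup.zpowers x := by
      refine le_antisymm (sup_le (hKL.trans le_sup_left) ((Subgroup.closure_le _).2 (Set.insert_subset_iff.2
        ⟨Subgroup.mem_sup_right (Subgroup.mem_zpowers x), Set.singleton_subset_iff.2
          (Subgroup.mem_sup_left (Subgroup.mem_sup_right (Subgroup.mem_zpowers y)))⟩)))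
        (sup_le hLM (Subgroup.zpowers_le.2 (mem_pair_left K x y)))
    have hl : Lies (Subgroup.inclusion hLM) (η : L → ℂ) χ := by
      rw [lies_down hLM, lies_iff]
      exact hc
    have he := ext_cyclic' hLM hM' η ⟨hxn, hxη⟩ hχ hl
    exact ⟨χ, hχ, fun k => (he (Subgroup.inclusion hKL k)).trans (hη k)⟩

end Cyclic

section Main

variable [Finite Γ] {p : ℕ} [Fact p.Prime]

theorem not_dvd_of_le {A B : Subgroup Γ} (hAB : A ≤ B) (h : ¬ p ∣ Nat.card B) : ¬ p ∣ Nat.card A :=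
  fun hd => h (hd.trans (Subgroup.card_dvd_of_le hAB))

/-- Conjugating an extension by an operator centralising the complement. -/
theorem ext_invS {E K L : Subgroup Γ} {y : Γ} (θ : IrrCharacter K) (hE : IsPGroup p E)
    (hEK : E ≤ Subgroup.normalizer (K : Set Γ)) (hθ : InvS E K (θ : K → ℂ)) (hy : y ∈ stab K (θ : K → ℂ))
    (hEy : ∀ s ∈ E, s * y = y * s) (hL : L = K ⊔ Subgroup.zpowers y) (hKL : K ≤ L) (hp : ¬ p ∣ Nat.card L)
    (η : IrrCharacter L) (hη : ∀ k : K, (η : L → ℂ) (Subgroup.inclusion hKL k) = (θ : K → ℂ) k) :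
    InvS E L (η : L → ℂ) := by
  have hyn : Subgroup.zpowers y ≤ Subgroup.normalizer (K : Set Γ) := Subgroup.zpowers_le.2 hy.1
  have hn : L ≤ Subgroup.normalizer (K : Set Γ) := hL ▸ sup_le Subgroup.le_normalizer hyn
  haveI := normal_of_le hKL hn
  -- operators move elements inside their cosets
  have hmove : ∀ s ∈ E, ∀ l ∈ L, s * l * s⁻¹ * l⁻¹ ∈ K := by
    intro s hs l hl
    obtain ⟨k, hk, a, ha, rfl⟩ := mem_sup_of_le_normalizer hyn (hL ▸ hl)
    have hsa : s * a = a * s := by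
      obtain ⟨i, rfl⟩ := Subgroup.mem_zpowers_iff.1 ha
      exact (show Commute s y from hEy s hs).zpow_right i
    rw [show s * (k * a) * s⁻¹ = s * k * s⁻¹ * (s * a * s⁻¹) by group, hsa, mul_inv_cancel_right,
      show s * k * s⁻¹ * a * (k * a)⁻¹ = s * k * s⁻¹ * k⁻¹ by group]
    exact K.mul_mem (norm_conj (hEK hs) hk) (K.inv_mem hk)
  have hab : ∀ a b : L, (a : Γ) * b * (a : Γ)⁻¹ * (b : Γ)⁻¹ ∈ K := by
    let π := QuotientGroup.mk' (K.subgroupOf L)
    have hyL : y ∈ L := hL ▸ Subgroup.mem_sup_right (Subgroup.mem_zpowers y)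
    have hgen : ∀ a : L, ∃ i : ℤ, π a = π ⟨y, hyL⟩ ^ i := by
      rintro ⟨l, hl⟩
      obtain ⟨k, hk, a, ha, rfl⟩ := mem_sup_of_le_normalizer hyn (hL ▸ hl)
      obtain ⟨i, rfl⟩ := Subgroup.mem_zpowers_iff.1 ha
      refine ⟨i, ?_⟩
      rw [← map_zpow, ← one_mul (π (_ ^ i))]
      have : (⟨k * y ^ i, hl⟩ : L) = ⟨k, hKL hk⟩ * ⟨y, hyL⟩ ^ i := Subtype.ext (by simp)
      rw [this, map_mul]
      congr 1
      exact (QuotientGroup.eq_one_iff _).2 (Subgroup.mem_subgroupOf.2 hk)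
    intro a b
    have h1 : π (a * b * a⁻¹ * b⁻¹) = 1 := by
      obtain ⟨i, hi⟩ := hgen a
      obtain ⟨j, hj⟩ := hgen b
      simp only [map_mul, map_inv, hi, hj]
      group
    exact Subgroup.mem_subgroupOf.1 ((QuotientGroup.eq_one_iff _).1 h1)
  intro s hs l l' e
  have hsL : ∀ g ∈ E, ∀ l ∈ L, g * l * g⁻¹ ∈ L := fun g hg l hl => by
    have := L.mul_mem (hKL (hmove g hg l hl)) hl
    simpa using this
  have hEL : E ≤ Subgroup.normalizer (L : Set Γ) := le_norm_of hsL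
  let c : E →* MulAut L := act E L hEL
  have hc : ∀ (g : E) (a : L), ((c g a : L) : Γ) = g * a * (g : Γ)⁻¹ := fun g a => act_apply E L hEL g a
  have hext : ∀ g : E, IsIrrCharacter L (fun a => (η : L → ℂ) (c g a)) ∧
      ∀ k : K, (η : L → ℂ) (c g (Subgroup.inclusion hKL k)) = (θ : K → ℂ) k := fun g => by
    refine ⟨isIrrCharacter_comp_surjective η.2 (c g).toMonoidHom (c g).surjective, fun k => ?_⟩
    rw [show c g (Subgroup.inclusion hKL k) = Subgroup.inclusion hKL ⟨(g : Γ) * k * (g : Γ)⁻¹,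
      norm_conj (hEK g.2) k.2⟩ from Subtype.ext (hc g _), hη]
    exact hθ g g.2 k _ rfl
  obtain ⟨Λ, hΛ, hΛe⟩ := exists_twist hKL hn hab θ.2 η.2 hη (hext ⟨s, hs⟩).1 (hext ⟨s, hs⟩).2
  -- the twist is unchanged by the operator
  have hΛs : ∀ a : L, Λ (c ⟨s, hs⟩ a) = Λ a := fun a => by
    have h1 := hΛ (c ⟨s, hs⟩ a * a⁻¹) (by
      rw [Subgroup.coe_mul, Subgroup.coe_inv, hc]; exact hmove s hs a a.2)
    rwa [map_mul, map_inv, mul_inv_eq_one] at h1
  have hpow : ∀ (n : ℕ) (a : L), (η : L → ℂ) (c (⟨s, hs⟩ ^ n) a) = (Λ a : ℂ) ^ n * (η : L → ℂ) a := by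
    intro n
    induction n with
    | zero => intro a; rw [pow_zero, map_one, pow_zero, one_mul]; rfl
    | succ n ih =>
      intro a
      rw [pow_succ, map_mul, MulAut.mul_apply, ih, hΛs, hΛe a, pow_succ]
      ring
  obtain ⟨m, hm⟩ := hE ⟨s, hs⟩
  have hone : Λ ^ (p ^ m) = 1 := twist_eq_one hKL hn θ.2 η.2 hη _
    (fun a ha => by rw [MonoidHom.pow_apply, hΛ a ha, one_pow]) fun a => by
      have := hpow (p ^ m) a
      rw [hm, map_one] at this
      rw [MonoidHom.pow_apply, Units.val_pow_eq_pow_val]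
      exact this.symm
  have hΛ1 : ∀ a, Λ a = 1 := fun a => by
    have h1 : Λ a ^ (p ^ m) = 1 := DFunLike.congr_fun hone a
    have h2 : Λ a ^ Nat.card L = 1 := by rw [← map_pow, pow_card_eq_one', map_one]
    exact orderOf_eq_one_iff.1 (Nat.eq_one_of_dvd_coprimes
      (((Fact.out : p.Prime).coprime_iff_not_dvd.2 hp).symm.pow_right m)
      (orderOf_dvd_of_pow_eq_one h2) (orderOf_dvd_of_pow_eq_one h1))
  have h3 : (η : L → ℂ) (c ⟨s, hs⟩ l) = _ := hΛe l
  rw [hΛ1, Units.val_one, one_mul, show c ⟨s, hs⟩ l = l' from Subtype.ext (by rw [hc, e])] at h3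
  exact h3

/-- Restricting an extension does not change multiplicities below. -/
theorem mu_res {A B D : Subgroup Γ} (hAB : A ≤ B) (hBD : B ≤ D) (χ : IrrCharacter D) (θ : IrrCharacter B)
    (h : ∀ b : B, (χ : D → ℂ) (Subgroup.inclusion hBD b) = (θ : B → ℂ) b) (γ : IrrCharacter A) :
    mu (Subgroup.inclusion (hAB.trans hBD)) χ γ = mu (Subgroup.inclusion hAB) θ γ := by
  haveI := Fintype.ofFinite A
  rw [← mult_eq_mu, ← mult_eq_mu]
  apply mult_eq
  rw [← mult_spec (Subgroup.inclusion hAB) θ γ]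
  congr 1
  funext a
  exact h (Subgroup.inclusion hAB a)

theorem mu_self {A : Subgroup Γ} (θ : IrrCharacter A) (hA : A ≤ A) :
    mu (Subgroup.inclusion hA) θ θ = 1 := by
  haveI := Fintype.ofFinite A
  rw [← mult_eq_mu]
  apply mult_eq
  rw [Nat.cast_one]
  exact classInner_irr_self θ.2

theorem mu_self_ne {A : Subgroup Γ} {θ φ : IrrCharacter A} (h : θ ≠ φ) (hA : A ≤ A) :
    mu (Subgroup.inclusion hA) θ φ = 0 := by
  haveI := Fintype.ofFinite A
  rw [← mult_eq_mu]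
  apply mult_eq
  rw [Nat.cast_zero]
  exact classInner_irr_ne θ.2 φ.2 fun e => h (Subtype.ext e)

theorem mu_ext {A B : Subgroup Γ} (hAB : A ≤ B) (χ : IrrCharacter B) (θ : IrrCharacter A)
    (h : ∀ a : A, (χ : B → ℂ) (Subgroup.inclusion hAB a) = (θ : A → ℂ) a) :
    mu (Subgroup.inclusion hAB) χ θ = 1 := by
  rw [show mu (Subgroup.inclusion hAB) χ θ = mu (Subgroup.inclusion ((le_refl A).trans hAB)) χ θ from rfl,
    mu_res (le_refl A) hAB χ θ h, mu_self]

theorem le_norm_of_cent {E C : Subgroup Γ} (h : C ≤ Subgroup.centralizer (E : Set Γ)) :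
    E ≤ Subgroup.normalizer (C : Set Γ) := le_norm_of fun e he c hc => by
  rw [Subgroup.mem_centralizer_iff.1 (h hc) e he, mul_inv_cancel_right]
  exact hc

/-- The heart of the step: one of the two operators centralises the layer. -/
theorem ext_step {S K C E : Subgroup Γ} {x y : Γ} {θ : IrrCharacter K} {φ : IrrCharacter C}
    (h : Op p S K C) (hg : Gl p S K C θ φ) (hx : x ∈ stab K (θ : K → ℂ)) (hy : y ∈ stab K (θ : K → ℂ))
    (hxS : x ∈ Subgroup.normalizer (S : Set Γ)) (hyS : y ∈ Subgroup.normalizer (S : Set Γ))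
    (hcomm : x * y * x⁻¹ * y⁻¹ ∈ C) (hp : ¬ p ∣ Nat.card ↥(K ⊔ Subgroup.closure {x, y}))
    (hE : E ≤ S) (hES : S ≤ Subgroup.normalizer (E : Set Γ)) (hxE : x ∈ Subgroup.normalizer (E : Set Γ))
    (hyE : y ∈ Subgroup.normalizer (E : Set Γ)) (hEne : ¬ E ≤ Subgroup.centralizer (K : Set Γ))
    (hytriv : ∀ e ∈ E, y * e * y⁻¹ * e⁻¹ ∈ E ⊓ Subgroup.centralizer (K : Set Γ))
    (ih : ∀ {S' K' C' : Subgroup Γ} {θ' : IrrCharacter K'} {φ' : IrrCharacter C'},
      Nat.card ↥(S ⊓ Subgroup.centralizer (K : Set Γ)) < Nat.card ↥(S' ⊓ Subgroup.centralizer (K' : Set Γ)) →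
      Op p S' K' C' → Gl p S' K' C' θ' φ' → x ∈ stab K' (θ' : K' → ℂ) → y ∈ stab K' (θ' : K' → ℂ) →
      x ∈ Subgroup.normalizer (S' : Set Γ) → y ∈ Subgroup.normalizer (S' : Set Γ) →
      x * y * x⁻¹ * y⁻¹ ∈ C' → ¬ p ∣ Nat.card ↥(K' ⊔ Subgroup.closure {x, y}) →
      (ExtTo (Subgroup.inclusion (le_sup_left : K' ≤ K' ⊔ Subgroup.closure {x, y})) (θ' : K' → ℂ) ↔
        ExtTo (Subgroup.inclusion (le_sup_left : C' ≤ C' ⊔ Subgroup.closure {x, y})) (φ' : C' → ℂ))) :
    ExtTo (Subgroup.inclusion (le_sup_left : K ≤ K ⊔ Subgroup.closure {x, y})) (θ : K → ℂ) ↔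
      ExtTo (Subgroup.inclusion (le_sup_left : C ≤ C ⊔ Subgroup.closure {x, y})) (φ : C → ℂ) := by
  set E0 := E ⊓ Subgroup.centralizer (K : Set Γ) with hE0
  set E' := E ⊓ Subgroup.centralizer ({y} : Set Γ) with hE'
  set C1 := K ⊓ Subgroup.centralizer (E : Set Γ) with hC1
  have hEK : E ≤ Subgroup.normalizer (K : Set Γ) := hE.trans h.norm
  have hEp : IsPGroup p E := h.pgroup.to_le hE
  have hC1K : C1 ≤ K := inf_le_left
  have hCC1 : C ≤ C1 := le_inf h.le (h.cent.trans (Subgroup.centralizer_le hE))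
  -- `E'` covers the layer
  have hyE0 : y ∈ Subgroup.normalizer (E0 : Set Γ) := norm_inf hyE (norm_cent hy.1)
  have hcover : ∀ e ∈ E, ∃ c ∈ E', e⁻¹ * c ∈ E0 := by
    intro e he
    have hAE : Subgroup.zpowers y ≤ Subgroup.normalizer (E : Set Γ) := Subgroup.zpowers_le.2 hyE
    have hA0 : Subgroup.zpowers y ≤ Subgroup.normalizer (E0 : Set Γ) := Subgroup.zpowers_le.2 hyE0
    have hE0n : E ≤ Subgroup.normalizer (E0 : Set Γ) := fun g hg' =>
      norm_inf (Subgroup.le_normalizer hg') (norm_cent (hEK hg'))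
    obtain ⟨n, hn⟩ := IsPGroup.iff_card.1 hEp
    have hcop : (Nat.card (Subgroup.zpowers y)).Coprime (Nat.card E) := by
      rw [hn]
      refine (((Fact.out : p.Prime).coprime_iff_not_dvd.2 (not_dvd_of_le ?_ hp)).symm).pow_right n
      exact Subgroup.zpowers_le.2 (mem_pair_right K x y)
    have hfix : ∀ a ∈ Subgroup.zpowers y, a * e * a⁻¹ * e⁻¹ ∈ E0 := by
      let T : Subgroup Γ :=
        { carrier := {a | a ∈ Subgroup.normalizer (E : Set Γ) ∧ a ∈ Subgroup.normalizer (E0 : Set Γ) ∧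
            ∀ e ∈ E, a * e * a⁻¹ * e⁻¹ ∈ E0}
          one_mem' := ⟨one_mem _, one_mem _, fun e _ => by simp⟩
          mul_mem' := fun {a b} ha hb => ⟨mul_mem ha.1 hb.1, mul_mem ha.2.1 hb.2.1, fun e he => by
            rw [show a * b * e * (a * b)⁻¹ * e⁻¹ =
              a * (b * e * b⁻¹ * e⁻¹) * a⁻¹ * (a * e * a⁻¹ * e⁻¹) by group]
            exact mul_mem (norm_conj ha.2.1 (hb.2.2 e he)) (ha.2.2 e he)⟩
          inv_mem' := fun {a} ha => ⟨inv_mem ha.1, inv_mem ha.2.1, fun e he => by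
            rw [show a⁻¹ * e * a⁻¹⁻¹ * e⁻¹ = a⁻¹ * (a * e * a⁻¹ * e⁻¹)⁻¹ * a by group]
            exact norm_conj' ha.2.1 (inv_mem (ha.2.2 e he))⟩ }
      exact fun a ha => ((Subgroup.zpowers_le.2 (show y ∈ T from ⟨hyE, hyE0, hytriv⟩)) ha).2.2 e he
    haveI : IsMulCommutative (Subgroup.zpowers y) := inferInstance
    obtain ⟨c, hc, hcN⟩ := coprime_fixed_quotient hAE hcop
      (Or.inl (Group.isSolvable_of_comm fun a b => (IsMulCommutative.is_comm (M := Subgroup.zpowers y)).comm a b))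
      (inf_le_left : E0 ≤ E) hE0n hA0 he hfix
    refine ⟨c, ⟨hc.1, Subgroup.mem_centralizer_singleton_iff.2 ?_⟩, hcN⟩
    exact (Subgroup.mem_centralizer_iff.1 hc.2 y (Subgroup.mem_zpowers y)).symm
  have hcentE : ∀ k ∈ K, k ∈ Subgroup.centralizer (E' : Set Γ) → k ∈ Subgroup.centralizer (E : Set Γ) := by
    intro k hk hkE
    rw [Subgroup.mem_centralizer_iff] at hkE ⊢
    intro e he
    obtain ⟨c, hc, hcN⟩ := hcover e he
    have h1 : Commute c k := hkE c hc
    have h2 : Commute (e⁻¹ * c) k := (Subgroup.mem_centralizer_iff.1 hcN.2 k hk).symm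
    have h3 := h1.mul_left h2.inv_left
    rw [mul_inv_rev, inv_inv, mul_inv_cancel_left] at h3
    exact h3
  have hC1' : C1 = K ⊓ Subgroup.centralizer (E' : Set Γ) :=
    le_antisymm (inf_le_inf_left K (Subgroup.centralizer_le (show (E' : Set Γ) ⊆ E from fun _ hm => hm.1)))
      fun k hk => ⟨hk.1, hcentE k hk.1 hk.2⟩
  -- the correspondences
  have OE : Op p E K C1 := ⟨hEp, h.coprime, hEK, rfl⟩
  have OE' : Op p E' K C1 := ⟨hEp.to_le inf_le_left, h.coprime, inf_le_left.trans hEK, hC1'⟩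
  have hSC1 : S ≤ Subgroup.normalizer (C1 : Set Γ) := fun g hg' => OE.le_norm (h.norm hg') (hES hg')
  have OS : Op p S C1 C := ⟨h.pgroup, not_dvd_of_le hC1K h.coprime, hSC1, by
    rw [h.fixed]
    exact le_antisymm (le_inf (h.fixed ▸ hCC1) inf_le_right) (inf_le_inf_right _ hC1K)⟩
  obtain ⟨θ1, hg1⟩ := OE.exists_image (θ := θ) fun s hs => hg.2.1 s (hE hs)
  have hg1' : Gl p E' K C1 θ θ1 := ⟨hC1K, fun s hs => hg1.2.1 s hs.1, hg1.2.2⟩
  have hθ1S : InvS S C1 (θ1 : C1 → ℂ) := (invS_iff hSC1 _).2 fun s hs =>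
    (OE.stab_eq hg1 (h.norm hs) (hES hs)).1 ((invS_iff h.norm _).1 hg.2.1 hs)
  have hg2 : Gl p S C1 C θ1 φ := by
    refine ⟨hCC1, hθ1S, fun hd => hg.2.2 ?_⟩
    rw [← ZMod.natCast_eq_zero_iff] at hd ⊢
    rw [show mu (Subgroup.inclusion hg.1) θ φ = mu (Subgroup.inclusion (hCC1.trans hC1K)) θ φ from rfl,
      mu_mid hEp hCC1 hC1K (le_norm_of_cent (hCC1.trans inf_le_right)) (le_norm_of_cent inf_le_right)
        hg1.2.1 (invS_of_cent (hCC1.trans inf_le_right) _) θ1 (invS_of_cent inf_le_right _)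
        (fun β _ hne => Or.inl (OE.dvd_mu hg1 hne)), hd, mul_zero]
  have hxC1 := (OE.stab_eq hg1 hx.1 hxE).1 hx
  have hyC1 := (OE.stab_eq hg1 hy.1 hyE).1 hy
  rw [← ih ?_ OS hg2 hxC1 hyC1 hxS hyS hcomm (not_dvd_of_le (sup_le_sup_right hC1K _) hp)]
  swap
  · have hle : S ⊓ Subgroup.centralizer (K : Set Γ) ≤ S ⊓ Subgroup.centralizer (C1 : Set Γ) :=
      inf_le_inf_left S (Subgroup.centralizer_le hC1K)
    refine lt_of_le_of_ne (Subgroup.card_le_of_le hle) fun e => hEne ?_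
    have he := Subgroup.eq_of_le_of_card_ge hle e.ge
    intro g hg'
    have : g ∈ S ⊓ Subgroup.centralizer (C1 : Set Γ) := ⟨hE hg', Subgroup.mem_centralizer_iff.2 fun c hc =>
      ((Subgroup.mem_centralizer_iff.1 hc.2) g hg').symm⟩
    exact (he.symm ▸ this : g ∈ S ⊓ Subgroup.centralizer (K : Set Γ)).2
  rw [ext_pair_iff θ hx hy (h.le hcomm), ext_pair_iff θ1 hxC1 hyC1 (hCC1 hcomm)]
  -- one cyclic step
  set L := K ⊔ Subgroup.zpowers y with hL
  set L1 := C1 ⊔ Subgroup.zpowers y with hL1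
  have hKL : K ≤ L := le_sup_left
  have hC1L1 : C1 ≤ L1 := le_sup_left
  have hyz : Subgroup.zpowers y ≤ Subgroup.centralizer (E' : Set Γ) := by
    refine Subgroup.zpowers_le.2 (Subgroup.mem_centralizer_iff.2 fun s hs => ?_)
    exact Subgroup.mem_centralizer_singleton_iff.1 (Subgroup.mem_inf.1 hs).2
  have hLn : Subgroup.zpowers y ≤ Subgroup.normalizer (K : Set Γ) := Subgroup.zpowers_le.2 hy.1
  have hL1eq : L1 = L ⊓ Subgroup.centralizer (E' : Set Γ) := by
    refine le_antisymm (le_inf (sup_le_sup_right hC1K _) (sup_le (hC1' ▸ inf_le_right) hyz)) ?_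
    rintro g ⟨hgL, hgE⟩
    obtain ⟨k, hk, a, ha, rfl⟩ := mem_sup_of_le_normalizer hLn hgL
    have hk1 : k ∈ C1 := by
      rw [hC1']
      refine ⟨hk, ?_⟩
      have := (Subgroup.centralizer (E' : Set Γ)).mul_mem hgE ((Subgroup.centralizer (E' : Set Γ)).inv_mem (hyz ha))
      rwa [mul_inv_cancel_right] at this
    exact mul_mem (Subgroup.mem_sup_left hk1) (Subgroup.mem_sup_right ha)
  have hLp : ¬ p ∣ Nat.card L :=
    not_dvd_of_le (sup_le le_sup_left (Subgroup.zpowers_le.2 (mem_pair_right K x y))) hp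
  have hE'L : E' ≤ Subgroup.normalizer (L : Set Γ) := fun s hs => norm_sup_zpowers (hEK hs.1) (by
    rw [show s * y = y * s from Subgroup.mem_centralizer_singleton_iff.1 hs.2, mul_inv_cancel_right,
      mul_inv_cancel]
    exact K.one_mem)
  have OL : Op p E' L L1 := ⟨OE'.pgroup, hLp, hE'L, hL1eq⟩
  have hxE' : x ∈ Subgroup.normalizer (E' : Set Γ) := by
    have hyc : ∀ s ∈ E, (s * y = y * s ↔ s * (x * y * x⁻¹) = x * y * x⁻¹ * s) := fun s hs => by
      have hc : Commute s (x * y * x⁻¹ * y⁻¹) :=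
        Subgroup.mem_centralizer_iff.1 (h.cent hcomm) s (hE hs)
      constructor
      · intro e
        have := hc.mul_right (show Commute s y from e)
        rwa [inv_mul_cancel_right] at this
      · intro e
        have := hc.inv_right.mul_right (show Commute s (x * y * x⁻¹) from e)
        rw [show (x * y * x⁻¹ * y⁻¹)⁻¹ * (x * y * x⁻¹) = y by group] at this
        exact this
    rw [Subgroup.mem_normalizer_iff]
    intro s
    constructor
    · rintro ⟨hs, hc⟩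
      refine ⟨norm_conj hxE hs, Subgroup.mem_centralizer_singleton_iff.2 ((hyc _ (norm_conj hxE hs)).2 ?_)⟩
      have e := Subgroup.mem_centralizer_singleton_iff.1 hc
      rw [show x * s * x⁻¹ * (x * y * x⁻¹) = x * (s * y) * x⁻¹ by group, e]
      group
    · rintro ⟨hs, hc⟩
      have e := (hyc _ hs).1 (Subgroup.mem_centralizer_singleton_iff.1 hc)
      refine ⟨(Subgroup.mem_normalizer_iff.1 hxE s).2 hs, Subgroup.mem_centralizer_singleton_iff.2 ?_⟩
      rw [show x * s * x⁻¹ * (x * y * x⁻¹) = x * (s * y) * x⁻¹ by group,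
        show x * y * x⁻¹ * (x * s * x⁻¹) = x * (y * s) * x⁻¹ by group] at e
      exact mul_left_cancel (mul_right_cancel e)
  have hxL : x ∈ Subgroup.normalizer (L : Set Γ) := norm_sup_zpowers hx.1 (h.le hcomm)
  have hnC1 : E' ≤ Subgroup.normalizer (C1 : Set Γ) := le_norm_of_cent OE'.cent
  have hnL1 : E' ≤ Subgroup.normalizer (L1 : Set Γ) := le_norm_of_cent OL.cent
  constructor
  · rintro ⟨η, hη, hxη⟩
    have hi : InvS E' L (η : L → ℂ) := ext_invS θ OE'.pgroup (inf_le_left.trans hEK) hg1'.2.1 hy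
      (fun s hs => Subgroup.mem_centralizer_singleton_iff.1 (Subgroup.mem_inf.1 hs).2) rfl hKL hLp η hη
    obtain ⟨η1, hgL⟩ := OL.exists_image hi
    have hm := mu_mid OE'.pgroup hC1L1 OL.le hnC1 hnL1 hi (invS_of_cent OE'.cent (θ1 : C1 → ℂ)) η1
      (invS_of_cent OL.cent _) fun β _ hne => Or.inl (OL.dvd_mu hgL hne)
    rw [show mu (Subgroup.inclusion (hC1L1.trans OL.le)) η θ1 = mu (Subgroup.inclusion hC1K) θ θ1 from
      mu_res hC1K hKL η θ hη θ1] at hm
    have hl : Lies (Subgroup.inclusion hC1L1) (θ1 : C1 → ℂ) (η1 : L1 → ℂ) := by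
      rw [lies_iff_mu]
      intro e
      rw [e, Nat.cast_zero, mul_zero, ZMod.natCast_eq_zero_iff] at hm
      exact hg1.2.2 hm
    exact ⟨η1, ext_cyclic' hC1L1 rfl θ1 hyC1 η1.2 hl, (OL.rel_image hxL hxE' hgL).1 hxη⟩
  · rintro ⟨η1, hη1, hxη1⟩
    obtain ⟨η, hgL⟩ := OL.exists_source η1
    have hi : InvS E' L (η : L → ℂ) := hgL.2.1
    have hm := mu_mid OE'.pgroup hC1L1 OL.le hnC1 hnL1 hi (invS_of_cent OE'.cent (θ1 : C1 → ℂ)) η1
      (invS_of_cent OL.cent _) fun β _ hne => Or.inl (OL.dvd_mu hgL hne)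
    have hm' := mu_mid OE'.pgroup hC1K hKL hnC1 OE'.norm hi (invS_of_cent OE'.cent (θ1 : C1 → ℂ)) θ
      hg1'.2.1 fun β hβ hne => Or.inr (by
        by_contra hd
        exact hne (OE'.source_unique ⟨hC1K, hβ, hd⟩ hg1'))
    rw [show mu (Subgroup.inclusion (hC1L1.trans OL.le)) η θ1 = mu (Subgroup.inclusion (hC1K.trans hKL)) η θ1
      from rfl, hm', mu_ext hC1L1 η1 θ1 hη1, Nat.cast_one, mul_one] at hm
    have hl : Lies (Subgroup.inclusion hKL) (θ : K → ℂ) (η : L → ℂ) := by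
      rw [lies_iff_mu]
      intro e
      rw [e, Nat.cast_zero, zero_mul, eq_comm, ZMod.natCast_eq_zero_iff] at hm
      exact hgL.2.2 hm
    exact ⟨η, ext_cyclic' hKL rfl θ hy η.2 hl, (OL.rel_image hxL hxE' hgL).2 hxη1⟩

end Main

end CfsgLib.RelMcKay
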