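import Cfsg.Agent.Lib.RelMcKay.Ext

/-!
The induction on the layers of the operator group.
-/

set_option autoImplicit false
set_option linter.style.haveILetI false
set_option linter.unusedSectionVars false

namespace CfsgLib.RelMcKay

open Cfsg CfsgLib.CharTheory CfsgLib.Glauberman CfsgLib.Glauberman.NormalSylow

universe u

variable {Γ : Type u} [Group Γ] [Finite Γ] {p : ℕ} [Fact p.Prime]

/-- A normal subgroup of a `p`-group equal to its commutator with the group is trivial. -/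
theorem eq_bot_of_commutator_eq {S E : Subgroup Γ} (hS : IsPGroup p S) (hE : E ≤ S) (h : ⁅E, S⁆ = E) :
    E = ⊥ := by
  haveI : Group.IsNilpotent S := hS.isNilpotent
  have h' : ⁅E.subgroupOf S, (⊤ : Subgroup S)⁆ = E.subgroupOf S := by
    apply Subgroup.map_injective S.subtype_injective
    rw [Subgroup.map_commutator, Subgroup.map_subgroupOf_eq_of_le hE, ← MonoidHom.range_eq_map,
      Subgroup.range_subtype, h]
  obtain ⟨n, hn⟩ := Subgroup.nilpotent_iff_lowerCentralSeries.1 (inferInstance : Group.IsNilpotent S)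
  have hle : ∀ m, E.subgroupOf S ≤ (⊤ : Subgroup S).lowerCentralSeries m := by
    intro m
    induction m with
    | zero => rw [Subgroup.lowerCentralSeries_zero]; exact le_top
    | succ m ih =>
      rw [← h']
      exact Subgroup.commutator_mono ih le_rfl
  have := hle n
  rw [hn, le_bot_iff, Subgroup.subgroupOf_eq_bot] at this
  exact (inf_eq_left.2 hE).symm.trans (disjoint_iff.1 this)

/-- In a cyclic group a unimodular change of two elements kills the second. -/
theorem exists_unimodular (i j : ℤ) : ∃ a b c d : ℤ, a * d - b * c = 1 ∧ i * c + j * d = 0 := by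
  by_cases h : Int.gcd i j = 0
  · obtain ⟨rfl, rfl⟩ := Int.gcd_eq_zero_iff.1 h
    exact ⟨1, 0, 0, 1, by ring, by ring⟩
  · obtain ⟨i1, hi⟩ := Int.gcd_dvd_left i j
    obtain ⟨j1, hj⟩ := Int.gcd_dvd_right i j
    have hb := Int.gcd_eq_gcd_ab i j
    have hd : ((Int.gcd i j : ℕ) : ℤ) ≠ 0 := Int.natCast_ne_zero.2 h
    refine ⟨Int.gcdA i j, Int.gcdB i j, -j1, i1, ?_, ?_⟩
    · apply mul_left_cancel₀ hd
      rw [mul_one]
      linear_combination -hb - Int.gcdA i j * hi - Int.gcdB i j * hj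
    · linear_combination j1 * (-hi) + i1 * hj

/-- A change of the two operators making the second act trivially on a chief layer. -/
theorem exists_trivialising {K E : Subgroup Γ} {C : Subgroup Γ} {x y : Γ}
    (hx : x ∈ Subgroup.normalizer (E : Set Γ)) (hy : y ∈ Subgroup.normalizer (E : Set Γ))
    (hxK : x ∈ Subgroup.normalizer (K : Set Γ)) (hyK : y ∈ Subgroup.normalizer (K : Set Γ))
    (hEK : E ≤ Subgroup.normalizer (K : Set Γ)) (hC : C ≤ Subgroup.centralizer (E : Set Γ))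
    (hcomm : x * y * x⁻¹ * y⁻¹ ∈ C) (hEne : ¬ E ≤ Subgroup.centralizer (K : Set Γ))
    (hEE : ∀ a ∈ E, ∀ b ∈ E, a * b * a⁻¹ * b⁻¹ ∈ E ⊓ Subgroup.centralizer (K : Set Γ))
    (hmin : ∀ F : Subgroup Γ, E ⊓ Subgroup.centralizer (K : Set Γ) ≤ F → F ≤ E →
      x ∈ Subgroup.normalizer (F : Set Γ) → y ∈ Subgroup.normalizer (F : Set Γ) →
      ¬ F ≤ Subgroup.centralizer (K : Set Γ) → F = E) :
    ∃ a b c d : ℤ, a * d - b * c = 1 ∧ ∀ e ∈ E,
      (x ^ c * y ^ d) * e * (x ^ c * y ^ d)⁻¹ * e⁻¹ ∈ E ⊓ Subgroup.centralizer (K : Set Γ) := by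
  set E0 := E ⊓ Subgroup.centralizer (K : Set Γ) with hE0
  set M := Subgroup.closure {x, y} with hM
  have hME : M ≤ Subgroup.normalizer (E : Set Γ) :=
    (Subgroup.closure_le _).2 (Set.insert_subset_iff.2 ⟨hx, Set.singleton_subset_iff.2 hy⟩)
  have hMK : M ≤ Subgroup.normalizer (K : Set Γ) :=
    (Subgroup.closure_le _).2 (Set.insert_subset_iff.2 ⟨hxK, Set.singleton_subset_iff.2 hyK⟩)
  have hM0 : M ≤ Subgroup.normalizer (E0 : Set Γ) := fun g hg => norm_inf (hME hg) (norm_cent (hMK hg))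
  have hE0n : E ≤ Subgroup.normalizer (E0 : Set Γ) := fun g hg =>
    norm_inf (Subgroup.le_normalizer hg) (norm_cent (hEK hg))
  set N0 := E0.subgroupOf E with hN0
  haveI : N0.Normal := (Subgroup.normal_subgroupOf_iff_le_normalizer inf_le_left).2 hE0n
  letI : CommGroup (E ⧸ N0) :=
    { (inferInstance : Group (E ⧸ N0)) with
      mul_comm := fun a b => by
        obtain ⟨a, rfl⟩ := QuotientGroup.mk'_surjective N0 a
        obtain ⟨b, rfl⟩ := QuotientGroup.mk'_surjective N0 b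
        have h1 : QuotientGroup.mk' N0 (a * b * a⁻¹ * b⁻¹) = 1 :=
          (QuotientGroup.eq_one_iff _).2 (Subgroup.mem_subgroupOf.2 (hEE a a.2 b b.2))
        simp only [map_mul, map_inv] at h1
        rwa [mul_inv_eq_one, mul_inv_eq_iff_eq_mul] at h1 }
  let c : M →* MulAut E := act M E hME
  have hc : ∀ (g : M) (e : E), ((c g e : E) : Γ) = g * e * (g : Γ)⁻¹ := fun g e => act_apply M E hME g e
  have hcN : ∀ g : M, N0.map (c g).toMonoidHom = N0 := by
    intro g
    apply le_antisymm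
    · rintro _ ⟨e, he, rfl⟩
      refine Subgroup.mem_subgroupOf.2 ?_
      show ((c g e : E) : Γ) ∈ E0
      rw [hc]
      exact norm_conj (hM0 g.2) (Subgroup.mem_subgroupOf.1 he)
    · intro e he
      refine ⟨c g⁻¹ e, Subgroup.mem_subgroupOf.2 ?_, ?_⟩
      · rw [hc, Subgroup.coe_inv, inv_inv]
        exact norm_conj' (hM0 g.2) (Subgroup.mem_subgroupOf.1 he)
      · show c g (c g⁻¹ e) = e
        rw [← MulAut.mul_apply, ← map_mul, mul_inv_cancel, map_one]
        rfl
  let A : M →* MulAut (E ⧸ N0) :=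
    { toFun := fun g => QuotientGroup.congr N0 N0 (c g) (hcN g)
      map_one' := by
        ext z
        obtain ⟨e, rfl⟩ := QuotientGroup.mk'_surjective N0 z
        show QuotientGroup.mk' N0 (c 1 e) = QuotientGroup.mk' N0 e
        rw [map_one]; rfl
      map_mul' := fun g g' => by
        ext z
        obtain ⟨e, rfl⟩ := QuotientGroup.mk'_surjective N0 z
        show QuotientGroup.mk' N0 (c (g * g') e) = QuotientGroup.mk' N0 (c g (c g' e))
        rw [map_mul, MulAut.mul_apply] }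
  have hA : ∀ (g : M) (e : E), A g (QuotientGroup.mk' N0 e) = QuotientGroup.mk' N0 (c g e) := fun g e => rfl
  have hA1 : ∀ g : M, A g = 1 → ∀ e ∈ E, (g : Γ) * e * (g : Γ)⁻¹ * e⁻¹ ∈ E0 := by
    intro g hg e he
    have h1 : QuotientGroup.mk' N0 (c g ⟨e, he⟩ * (⟨e, he⟩ : E)⁻¹) = 1 := by
      rw [map_mul, map_inv, ← hA, hg]
      exact mul_inv_cancel _
    have h2 := Subgroup.mem_subgroupOf.1 ((QuotientGroup.eq_one_iff _).1 h1)
    rwa [Subgroup.coe_mul, Subgroup.coe_inv, hc] at h2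
  let X : M := ⟨x, Subgroup.subset_closure (Or.inl rfl)⟩
  let Y : M := ⟨y, Subgroup.subset_closure (Or.inr rfl)⟩
  have hXY : Commute (A X) (A Y) := by
    have h1 : A (X * Y * X⁻¹ * Y⁻¹) = 1 := by
      ext z
      obtain ⟨e, rfl⟩ := QuotientGroup.mk'_surjective N0 z
      rw [hA]
      show QuotientGroup.mk' N0 _ = QuotientGroup.mk' N0 e
      congr 1
      apply Subtype.ext
      rw [hc]
      show (x * y * x⁻¹ * y⁻¹) * (e : Γ) * (x * y * x⁻¹ * y⁻¹)⁻¹ = e
      rw [← Subgroup.mem_centralizer_iff.1 (hC hcomm) e e.2, mul_inv_cancel_right]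
    show A X * A Y = A Y * A X
    simp only [map_mul, map_inv] at h1
    rwa [mul_inv_eq_one, mul_inv_eq_iff_eq_mul] at h1
  have hgen : M = Subgroup.closure {x, y} := rfl
  have hMtop : Subgroup.closure ({X, Y} : Set M) = ⊤ := by
    apply Subgroup.map_injective M.subtype_injective
    rw [MonoidHom.map_closure, Set.image_pair, ← MonoidHom.range_eq_map, Subgroup.range_subtype]
    rfl
  have hrange : A.range = Subgroup.closure ({A X, A Y} : Set (MulAut (E ⧸ N0))) := by
    rw [MonoidHom.range_eq_map, ← hMtop, MonoidHom.map_closure, Set.image_pair]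
  haveI : IsMulCommutative A.range := by
    rw [hrange]
    refine Subgroup.isMulCommutative_closure fun a ha b hb => ?_
    rcases ha with rfl | rfl <;> rcases hb with rfl | rfl
    · rfl
    · exact hXY.eq
    · exact hXY.symm.eq
    · rfl
  haveI : Nontrivial (E ⧸ N0) := by
    obtain ⟨e, he, hne⟩ := SetLike.not_le_iff_exists.1 hEne
    refine ⟨⟨QuotientGroup.mk' N0 ⟨e, he⟩, 1, fun h1 => hne ?_⟩⟩
    exact (Subgroup.mem_subgroupOf.1 ((QuotientGroup.eq_one_iff _).1 h1)).2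
  haveI hcyc : IsCyclic A.range := CfsgLib.NoDivPair.isCyclic_of_semiregular A.range (by
    rintro _ ⟨g, rfl⟩ hne m hm
    by_contra hm1
    let Fq : Subgroup (E ⧸ N0) :=
      { carrier := {z | A g z = z}
        one_mem' := map_one (A g)
        mul_mem' := fun {a b} (ha : A g a = a) (hb : A g b = b) => by
          show A g (a * b) = a * b
          rw [map_mul, ha, hb]
        inv_mem' := fun {a} (ha : A g a = a) => by
          show A g a⁻¹ = a⁻¹
          rw [map_inv, ha] }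
    let F : Subgroup Γ := (Fq.comap (QuotientGroup.mk' N0)).map E.subtype
    have hmemF : ∀ e : E, (e : Γ) ∈ F ↔ A g (QuotientGroup.mk' N0 e) = QuotientGroup.mk' N0 e := fun e =>
      ⟨fun ⟨e', he', h⟩ => by
        obtain rfl : e' = e := Subtype.ext h
        exact he', fun h => ⟨e, h, rfl⟩⟩
    have hFn : ∀ g' : M, (g' : Γ) ∈ Subgroup.normalizer (F : Set Γ) := by
      intro g'
      refine le_norm_of (A := M) (fun a ha k hk => ?_) g'.2
      obtain ⟨e, he, rfl⟩ := hk
      have h1 : A g (QuotientGroup.mk' N0 e) = QuotientGroup.mk' N0 e := he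
      have hcm : A g * A ⟨a, ha⟩ = A ⟨a, ha⟩ * A g :=
        congrArg Subtype.val ((IsMulCommutative.is_comm (M := A.range)).comm ⟨A g, g, rfl⟩ ⟨A ⟨a, ha⟩, _, rfl⟩)
      have h2 : A g (QuotientGroup.mk' N0 (c ⟨a, ha⟩ e)) = QuotientGroup.mk' N0 (c ⟨a, ha⟩ e) := by
        rw [← hA, ← MulAut.mul_apply, hcm, MulAut.mul_apply, h1]
      have h3 := (hmemF _).2 h2
      rw [hc] at h3
      exact h3
    have hFE : F ≤ E := Subgroup.map_subtype_le _
    have h0F : E0 ≤ F := fun e he => (hmemF ⟨e, he.1⟩).2 (by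
      rw [show QuotientGroup.mk' N0 ⟨e, he.1⟩ = 1 from
        (QuotientGroup.eq_one_iff _).2 (Subgroup.mem_subgroupOf.2 he), map_one])
    obtain ⟨e, rfl⟩ := QuotientGroup.mk'_surjective N0 m
    have heF : (e : Γ) ∈ F := (hmemF e).2 hm
    have hFE' := hmin F h0F hFE (hFn X) (hFn Y) fun hle => hm1
      ((QuotientGroup.eq_one_iff _).2 (Subgroup.mem_subgroupOf.2 ⟨e.2, hle heF⟩))
    refine hne ?_
    ext z
    obtain ⟨z, rfl⟩ := QuotientGroup.mk'_surjective N0 z
    exact (hmemF z).1 (hFE'.symm ▸ z.2))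
  obtain ⟨g0, hg0⟩ := hcyc.exists_generator
  obtain ⟨i, hi⟩ := hg0 ⟨A X, X, rfl⟩
  obtain ⟨j, hj⟩ := hg0 ⟨A Y, Y, rfl⟩
  obtain ⟨a, b, c', d, hdet, h0⟩ := exists_unimodular i j
  refine ⟨a, b, c', d, hdet, fun e he => ?_⟩
  have h1 : A (X ^ c' * Y ^ d) = 1 := by
    rw [map_mul, map_zpow, map_zpow, show A X = ((g0 ^ i : A.range) : MulAut (E ⧸ N0)) from
      congrArg Subtype.val hi.symm, show A Y = ((g0 ^ j : A.range) : MulAut (E ⧸ N0)) from
      congrArg Subtype.val hj.symm, ← SubgroupClass.coe_zpow, ← SubgroupClass.coe_zpow, ← Subgroup.coe_mul,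
      ← zpow_mul, ← zpow_mul, ← zpow_add, h0, zpow_zero, Subgroup.coe_one]
  have h2 := hA1 _ h1 e he
  simpa [X, Y] using h2

theorem ext_iff_aux : ∀ (n : ℕ) {S K C : Subgroup Γ} {x y : Γ} {θ : IrrCharacter K} {φ : IrrCharacter C},
    Nat.card Γ - Nat.card ↥(S ⊓ Subgroup.centralizer (K : Set Γ)) = n → Op p S K C → Gl p S K C θ φ →
    x ∈ stab K (θ : K → ℂ) → y ∈ stab K (θ : K → ℂ) →
    x ∈ Subgroup.normalizer (S : Set Γ) → y ∈ Subgroup.normalizer (S : Set Γ) →
    x * y * x⁻¹ * y⁻¹ ∈ C → ¬ p ∣ Nat.card ↥(K ⊔ Subgroup.closure {x, y}) →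
    (ExtTo (Subgroup.inclusion (le_sup_left : K ≤ K ⊔ Subgroup.closure {x, y})) (θ : K → ℂ) ↔
      ExtTo (Subgroup.inclusion (le_sup_left : C ≤ C ⊔ Subgroup.closure {x, y})) (φ : C → ℂ)) := by
  intro n
  induction n using Nat.strong_induction_on with
  | _ n ih =>
  intro S K C x y θ φ hn h hg hx hy hxS hyS hcomm hp
  by_cases hSK : S ≤ Subgroup.centralizer (K : Set Γ)
  · obtain rfl : C = K := h.fixed.trans (inf_eq_left.2 fun k hk => Subgroup.mem_centralizer_iff.2
      fun s hs => ((Subgroup.mem_centralizer_iff.1 (hSK hs)) k hk).symm)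
    obtain rfl : θ = φ := by
      by_contra hne
      exact hg.2.2 (by rw [mu_self_ne hne]; exact dvd_zero p)
    exact Iff.rfl
  obtain ⟨E, ⟨hES, hEW, hEne⟩, hmin⟩ := wellFounded_lt.has_min
    {E : Subgroup Γ | E ≤ S ∧ S ⊔ Subgroup.closure {x, y} ≤ Subgroup.normalizer (E : Set Γ) ∧
      ¬ E ≤ Subgroup.centralizer (K : Set Γ)}
    ⟨S, le_rfl, sup_le Subgroup.le_normalizer ((Subgroup.closure_le _).2 (Set.insert_subset_iff.2
      ⟨hxS, Set.singleton_subset_iff.2 hyS⟩)), hSK⟩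
  have hSE : S ≤ Subgroup.normalizer (E : Set Γ) := le_sup_left.trans hEW
  have hxE : x ∈ Subgroup.normalizer (E : Set Γ) := hEW (mem_pair_left S x y)
  have hyE : y ∈ Subgroup.normalizer (E : Set Γ) := hEW (mem_pair_right S x y)
  have hEK : E ≤ Subgroup.normalizer (K : Set Γ) := hES.trans h.norm
  have hminEq : ∀ F, F ≤ S → S ⊔ Subgroup.closure {x, y} ≤ Subgroup.normalizer (F : Set Γ) →
      ¬ F ≤ Subgroup.centralizer (K : Set Γ) → F ≤ E → F = E := fun F h1 h2 h3 h4 => by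
    by_contra hne
    exact hmin F ⟨h1, h2, h3⟩ (lt_of_le_of_ne h4 hne)
  have hcle : ⁅E, S⁆ ≤ E := by
    rw [Subgroup.commutator_le]
    intro e he s hs
    rw [commutatorElement_def, show e * s * e⁻¹ * s⁻¹ = e * (s * e⁻¹ * s⁻¹) by group]
    exact mul_mem he (norm_conj (hSE hs) (inv_mem he))
  have hES0 : ⁅E, S⁆ ≤ Subgroup.centralizer (K : Set Γ) := by
    by_contra hne
    have hW : S ⊔ Subgroup.closure {x, y} ≤ Subgroup.normalizer ((⁅E, S⁆ : Subgroup Γ) : Set Γ) := by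
      refine le_norm_of fun g hg k hk => ?_
      have hgS : g ∈ Subgroup.normalizer (S : Set Γ) := (sup_le Subgroup.le_normalizer ((Subgroup.closure_le _).2
        (Set.insert_subset_iff.2 ⟨hxS, Set.singleton_subset_iff.2 hyS⟩))) hg
      have hgE := hEW hg
      have h1 : (⁅E, S⁆).map (MulAut.conj g).toMonoidHom ≤ ⁅E, S⁆ := by
        rw [Subgroup.map_commutator]
        exact Subgroup.commutator_mono (by rintro _ ⟨e, he, rfl⟩; exact norm_conj hgE he)
          (by rintro _ ⟨s, hs, rfl⟩; exact norm_conj hgS hs)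
      exact h1 ⟨k, hk, rfl⟩
    have := hminEq _ (hcle.trans hES) hW hne hcle
    exact hEne ((eq_bot_of_commutator_eq h.pgroup hES this).trans_le bot_le)
  have hEE : ∀ a ∈ E, ∀ b ∈ E, a * b * a⁻¹ * b⁻¹ ∈ E ⊓ Subgroup.centralizer (K : Set Γ) := fun a ha b hb =>
    ⟨E.mul_mem (E.mul_mem (E.mul_mem ha hb) (E.inv_mem ha)) (E.inv_mem hb),
      hES0 (commutatorElement_def a b ▸ Subgroup.commutator_mem_commutator ha (hES hb))⟩
  obtain ⟨a, b, c, d, hdet, htriv⟩ := exists_trivialising hxE hyE hx.1 hy.1 hEK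
    (h.cent.trans (Subgroup.centralizer_le hES)) hcomm hEne hEE (fun F h0 hFE hxF hyF hne => by
      refine hminEq F (hFE.trans hES) (sup_le ?_ ((Subgroup.closure_le _).2 (Set.insert_subset_iff.2
        ⟨hxF, Set.singleton_subset_iff.2 hyF⟩))) hne hFE
      refine le_norm_of fun s hs f hf => ?_
      rw [show s * f * s⁻¹ = (s * f * s⁻¹ * f⁻¹) * f by group]
      refine mul_mem (h0 (Subgroup.mem_inf.2 ⟨mul_mem (norm_conj (hSE hs) (hFE hf)) (inv_mem (hFE hf)), ?_⟩)) hf
      refine hES0 ?_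
      rw [Subgroup.commutator_comm]
      exact commutatorElement_def s f ▸ Subgroup.commutator_mem_commutator hs (hFE hf))
  set x' := x ^ a * y ^ b
  set y' := x ^ c * y ^ d
  have hC : x ∈ Subgroup.normalizer (C : Set Γ) ∧ y ∈ Subgroup.normalizer (C : Set Γ) :=
    ⟨h.le_norm hx.1 hxS, h.le_norm hy.1 hyS⟩
  obtain ⟨hCeq, hcomm'⟩ := pair_change hC.1 hC.2 hcomm a b c d hdet
  have hKeq : K ⊔ Subgroup.closure {x', y'} = K ⊔ Subgroup.closure {x, y} :=
    (pair_change hx.1 hy.1 (h.le hcomm) a b c d hdet).1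
  rw [← extTo_le hKeq le_sup_left, ← extTo_le hCeq le_sup_left]
  refine ext_step h hg (mul_mem (zpow_mem hx a) (zpow_mem hy b)) (mul_mem (zpow_mem hx c) (zpow_mem hy d))
    (mul_mem (zpow_mem hxS a) (zpow_mem hyS b)) (mul_mem (zpow_mem hxS c) (zpow_mem hyS d)) hcomm' (hKeq ▸ hp)
    hES hSE (mul_mem (zpow_mem hxE a) (zpow_mem hyE b)) (mul_mem (zpow_mem hxE c) (zpow_mem hyE d)) hEne htriv
    fun {S' K' C' θ' φ'} hlt => ih _ ?_ rfl
  have := Subgroup.card_le_card_group (S' ⊓ Subgroup.centralizer (K' : Set Γ))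
  omega

/-- Extendibility over two operators commuting modulo the fixed points. -/
theorem ext_iff {S K C : Subgroup Γ} (h : Op p S K C) {θ : IrrCharacter K} {φ : IrrCharacter C}
    (hg : Gl p S K C θ φ) {x y : Γ} (hx : x ∈ stab K (θ : K → ℂ)) (hy : y ∈ stab K (θ : K → ℂ))
    (hxS : x ∈ Subgroup.normalizer (S : Set Γ)) (hyS : y ∈ Subgroup.normalizer (S : Set Γ))
    (hcomm : x * y * x⁻¹ * y⁻¹ ∈ C) (hp : ¬ p ∣ Nat.card ↥(K ⊔ Subgroup.closure {x, y})) :
    ExtTo (Subgroup.inclusion (le_sup_left : K ≤ K ⊔ Subgroup.closure {x, y})) (θ : K → ℂ) ↔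
      ExtTo (Subgroup.inclusion (le_sup_left : C ≤ C ⊔ Subgroup.closure {x, y})) (φ : C → ℂ) :=
  ext_iff_aux _ rfl h hg hx hy hxS hyS hcomm hp

end CfsgLib.RelMcKay
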