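import Cfsg.Agent.Lib.RelMcKay.Basic
import Cfsg.Agent.Lib.Glauberman.NormalSylow
import Cfsg.Agent.S4444

/-!
The Glauberman correspondence of a `p`-group as a relation, with its equivariance.
-/

set_option autoImplicit false
set_option linter.style.haveILetI false
set_option linter.unusedSectionVars false

namespace CfsgLib.RelMcKay

open Cfsg CfsgLib.CharTheory CfsgLib.Glauberman CfsgLib.Glauberman.NormalSylow
open scoped ComplexConjugate

universe u v w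

/-- The multiplicity of `β` in `χ` along `ι`. -/
noncomputable def mu {H : Type u} {G : Type v} [Group H] [Group G] [Finite H] (ι : H →* G)
    (χ : IrrCharacter G) (β : IrrCharacter H) : ℕ :=
  @mult G _ H _ (Fintype.ofFinite H) ι χ β

theorem mult_eq_mu {H : Type u} {G : Type v} [Group H] [Group G] [Finite H] [Fintype H] (ι : H →* G)
    (χ : IrrCharacter G) (β : IrrCharacter H) : mult ι χ β = mu ι χ β := by
  unfold mu
  congr 1
  exact Subsingleton.elim _ _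

theorem lies_iff_mu {H : Type u} {G : Type v} [Group H] [Group G] [Finite H] (ι : H →* G)
    (χ : IrrCharacter G) (β : IrrCharacter H) : Lies ι (β : H → ℂ) (χ : G → ℂ) ↔ mu ι χ β ≠ 0 := by
  haveI := Fintype.ofFinite H
  rw [lies_iff, mult_spec ι χ β, mult_eq_mu, Nat.cast_ne_zero]

variable {Γ : Type u} [Group Γ]

theorem le_norm_of {A H : Subgroup Γ} (h : ∀ g ∈ A, ∀ k ∈ H, g * k * g⁻¹ ∈ H) :
    A ≤ Subgroup.normalizer (H : Set Γ) := fun g hg => by
  rw [Subgroup.mem_normalizer_iff]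
  refine fun k => ⟨h g hg k, fun hk => ?_⟩
  have := h g⁻¹ (A.inv_mem hg) _ hk
  simpa [mul_assoc] using this

theorem norm_conj {g : Γ} {H : Subgroup Γ} (hg : g ∈ Subgroup.normalizer (H : Set Γ)) {k : Γ}
    (hk : k ∈ H) : g * k * g⁻¹ ∈ H :=
  (Subgroup.mem_normalizer_iff.1 hg k).1 hk

theorem norm_conj' {g : Γ} {H : Subgroup Γ} (hg : g ∈ Subgroup.normalizer (H : Set Γ)) {k : Γ}
    (hk : k ∈ H) : g⁻¹ * k * g ∈ H := by
  have := norm_conj ((Subgroup.normalizer (H : Set Γ)).inv_mem hg) hk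
  simpa using this

theorem norm_cent {g : Γ} {K : Subgroup Γ} (hg : g ∈ Subgroup.normalizer (K : Set Γ)) :
    g ∈ Subgroup.normalizer ((Subgroup.centralizer (K : Set Γ) : Subgroup Γ) : Set Γ) := by
  refine le_norm_of (A := Subgroup.normalizer (K : Set Γ)) (fun a ha c hc => ?_) hg
  rw [Subgroup.mem_centralizer_iff] at hc ⊢
  intro k hk
  have h := hc _ (norm_conj' ha hk)
  calc k * (a * c * a⁻¹) = a * ((a⁻¹ * k * a) * c) * a⁻¹ := by group
    _ = a * (c * (a⁻¹ * k * a)) * a⁻¹ := by rw [h]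
    _ = a * c * a⁻¹ * k := by group

theorem norm_inf {g : Γ} {A B : Subgroup Γ} (hA : g ∈ Subgroup.normalizer (A : Set Γ))
    (hB : g ∈ Subgroup.normalizer (B : Set Γ)) :
    g ∈ Subgroup.normalizer ((A ⊓ B : Subgroup Γ) : Set Γ) :=
  le_norm_of (A := Subgroup.normalizer (A : Set Γ) ⊓ Subgroup.normalizer (B : Set Γ))
    (fun _ ha _ hk => Subgroup.mem_inf.2 ⟨norm_conj (Subgroup.mem_inf.1 ha).1 (Subgroup.mem_inf.1 hk).1,
      norm_conj (Subgroup.mem_inf.1 ha).2 (Subgroup.mem_inf.1 hk).2⟩) (Subgroup.mem_inf.2 ⟨hA, hB⟩)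

/-- The normalising elements fixing `θ`. -/
def stab (K : Subgroup Γ) (θ : K → ℂ) : Subgroup Γ where
  carrier := {g | g ∈ Subgroup.normalizer (K : Set Γ) ∧ Rel g K θ θ}
  one_mem' := ⟨one_mem _, fun k k' h => congrArg θ (Subtype.ext (by simpa using h))⟩
  mul_mem' := fun {a b} ha hb => ⟨mul_mem ha.1 hb.1, fun k k' h => by
    rw [ha.2 ⟨b * k * b⁻¹, norm_conj hb.1 k.2⟩ k' (by rw [h]; group), hb.2 k _ rfl]⟩
  inv_mem' := fun {a} ha => ⟨inv_mem ha.1, fun k k' h => (ha.2 k' k (by rw [h]; group)).symm⟩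

theorem mem_stab {K : Subgroup Γ} {θ : K → ℂ} {g : Γ} :
    g ∈ stab K θ ↔ g ∈ Subgroup.normalizer (K : Set Γ) ∧ Rel g K θ θ := Iff.rfl

theorem le_stab {K : Subgroup Γ} (θ : IrrCharacter K) : K ≤ stab K (θ : K → ℂ) := fun g hg =>
  ⟨Subgroup.le_normalizer hg, fun k k' h => by
    rw [show k' = ⟨g, hg⟩ * k * ⟨g, hg⟩⁻¹ from Subtype.ext h]
    exact isClassFunction_irr θ.2 _ _⟩

theorem invS_iff {S K : Subgroup Γ} (hn : S ≤ Subgroup.normalizer (K : Set Γ)) (θ : K → ℂ) :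
    InvS S K θ ↔ S ≤ stab K θ :=
  ⟨fun h s hs => ⟨hn hs, fun k k' e => h s hs k k' e⟩, fun h s hs k k' e => (h hs).2 k k' e⟩

theorem invS_of_cent {S K : Subgroup Γ} (h : K ≤ Subgroup.centralizer (S : Set Γ)) (θ : K → ℂ) :
    InvS S K θ := fun s hs k k' e => congrArg θ (Subtype.ext (by
      rw [e, Subgroup.mem_centralizer_iff.mp (h k.2) s hs, mul_inv_cancel_right]))

variable [Finite Γ] {p : ℕ}

/-- The Glauberman correspondence. -/
def Gl (p : ℕ) (S K C : Subgroup Γ) (θ : IrrCharacter K) (φ : IrrCharacter C) : Prop :=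
  ∃ h : C ≤ K, InvS S K (θ : K → ℂ) ∧ ¬ p ∣ mu (Subgroup.inclusion h) θ φ

/-- The data of a `p`-group of operators. -/
structure Op (p : ℕ) (S K C : Subgroup Γ) : Prop where
  pgroup : IsPGroup p S
  coprime : ¬ p ∣ Nat.card K
  norm : S ≤ Subgroup.normalizer (K : Set Γ)
  fixed : C = K ⊓ Subgroup.centralizer (S : Set Γ)

namespace Op

variable [Fact p.Prime] {S K C : Subgroup Γ} (h : Op p S K C)

include h

theorem le : C ≤ K := h.fixed ▸ inf_le_left

theorem cent : C ≤ Subgroup.centralizer (S : Set Γ) := h.fixed ▸ inf_le_right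

theorem le_norm {g : Γ} (hK : g ∈ Subgroup.normalizer (K : Set Γ))
    (hS : g ∈ Subgroup.normalizer (S : Set Γ)) : g ∈ Subgroup.normalizer (C : Set Γ) := by
  rw [h.fixed]
  exact norm_inf hK (norm_cent hS)

theorem cop : (Nat.card K).Coprime (Nat.card S) := by
  obtain ⟨n, hn⟩ := IsPGroup.iff_card.1 h.pgroup
  rw [hn]
  exact (((Fact.out : p.Prime).coprime_iff_not_dvd.2 h.coprime).symm).pow_right n

theorem conj_le : ∀ s ∈ S, ∀ k ∈ K, s * k * s⁻¹ ∈ K := fun _ hs _ hk => norm_conj (h.norm hs) hk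

theorem gl_iff [Fintype C] (θ : IrrCharacter K) (φ : IrrCharacter C) :
    Gl p S K C θ φ ↔ InvS S K (θ : K → ℂ) ∧
      ∃ m : ℕ, classInner (fun c : C => (θ : K → ℂ) ⟨c, h.le c.2⟩) (φ : C → ℂ) = (m : ℂ) ∧ ¬ p ∣ m := by
  have e := mult_spec (Subgroup.inclusion h.le) θ φ
  rw [mult_eq_mu] at e
  constructor
  · rintro ⟨_, hi, hd⟩
    exact ⟨hi, _, e, hd⟩
  · rintro ⟨hi, m, hm, hd⟩
    refine ⟨h.le, hi, ?_⟩
    rw [← mult_eq_mu, mult_eq (Subgroup.inclusion h.le) θ φ hm]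
    exact hd

theorem exists_image {θ : IrrCharacter K} (hθ : InvS S K (θ : K → ℂ)) :
    ∃ φ : IrrCharacter C, Gl p S K C θ φ := by
  haveI := Fintype.ofFinite Γ
  haveI := Fintype.ofFinite K
  haveI := Fintype.ofFinite C
  obtain ⟨φ, hφ, -⟩ := (Cfsg.Agent.S4444.result K S h.conj_le h.cop p Fact.out h.pgroup C h.fixed h.le).1 θ hθ
  exact ⟨φ, (h.gl_iff θ φ).2 ⟨hθ, hφ⟩⟩

theorem image_unique {θ : IrrCharacter K} {φ φ' : IrrCharacter C} (h1 : Gl p S K C θ φ)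
    (h2 : Gl p S K C θ φ') : φ = φ' := by
  haveI := Fintype.ofFinite Γ
  haveI := Fintype.ofFinite K
  haveI := Fintype.ofFinite C
  rw [h.gl_iff] at h1 h2
  exact ((Cfsg.Agent.S4444.result K S h.conj_le h.cop p Fact.out h.pgroup C h.fixed h.le).1 θ h1.1).unique
    h1.2 h2.2

theorem source_unique {θ θ' : IrrCharacter K} {φ : IrrCharacter C} (h1 : Gl p S K C θ φ)
    (h2 : Gl p S K C θ' φ) : θ = θ' := by
  haveI := Fintype.ofFinite Γ
  haveI := Fintype.ofFinite K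
  haveI := Fintype.ofFinite C
  obtain ⟨i1, m, hm, hd⟩ := (h.gl_iff θ φ).1 h1
  obtain ⟨i2, m', hm', hd'⟩ := (h.gl_iff θ' φ).1 h2
  exact (Cfsg.Agent.S4444.result K S h.conj_le h.cop p Fact.out h.pgroup C h.fixed h.le).2.2.1 θ θ' i1 i2
    φ m m' hm hd hm' hd'

theorem exists_source (φ : IrrCharacter C) : ∃ θ : IrrCharacter K, Gl p S K C θ φ := by
  haveI := Fintype.ofFinite Γ
  haveI := Fintype.ofFinite K
  haveI := Fintype.ofFinite C
  obtain ⟨θ, hθ, hm⟩ := (Cfsg.Agent.S4444.result K S h.conj_le h.cop p Fact.out h.pgroup C h.fixed h.le).2.2.2 φ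
  exact ⟨θ, (h.gl_iff θ φ).2 ⟨hθ, hm⟩⟩

theorem dvd_mu {θ : IrrCharacter K} {φ β : IrrCharacter C} (h1 : Gl p S K C θ φ) (hne : β ≠ φ) :
    p ∣ mu (Subgroup.inclusion h.le) θ β := by
  by_contra hd
  exact hne (h.image_unique ⟨h.le, h1.2.1, hd⟩ h1)

/-- Equivariance. -/
theorem gl_rel {g : Γ} (hK : g ∈ Subgroup.normalizer (K : Set Γ))
    (hS : g ∈ Subgroup.normalizer (S : Set Γ)) {θ θ' : IrrCharacter K} {φ φ' : IrrCharacter C}
    (hθ : Rel g K (θ : K → ℂ) (θ' : K → ℂ)) (hφ : Rel g C (φ : C → ℂ) (φ' : C → ℂ))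
    (h1 : Gl p S K C θ φ) : Gl p S K C θ' φ' := by
  haveI := Fintype.ofFinite C
  obtain ⟨hle, hi, hd⟩ := h1
  refine ⟨hle, fun s hs k k' e => ?_, ?_⟩
  · have h3 : g⁻¹ * s * g ∈ S := norm_conj' hS hs
    rw [hθ ⟨g⁻¹ * k' * g, norm_conj' hK k'.2⟩ k' (by simp [mul_assoc]),
      hθ ⟨g⁻¹ * k * g, norm_conj' hK k.2⟩ k (by simp [mul_assoc])]
    refine hi _ h3 _ _ ?_
    show g⁻¹ * (k' : Γ) * g = g⁻¹ * s * g * (g⁻¹ * k * g) * (g⁻¹ * s * g)⁻¹
    rw [e]; group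
  · rwa [← mult_eq_mu, mult_rel hle (h.le_norm hK hS) hθ hφ, mult_eq_mu]

theorem rel_image {g : Γ} (hK : g ∈ Subgroup.normalizer (K : Set Γ))
    (hS : g ∈ Subgroup.normalizer (S : Set Γ)) {θ : IrrCharacter K} {φ : IrrCharacter C}
    (h1 : Gl p S K C θ φ) : Rel g K (θ : K → ℂ) (θ : K → ℂ) ↔ Rel g C (φ : C → ℂ) (φ : C → ℂ) := by
  obtain ⟨θ', hθ'⟩ := exists_rel hK θ
  obtain ⟨φ', hφ'⟩ := exists_rel (h.le_norm hK hS) φ
  constructor
  · intro hθ
    have e := h.image_unique (h.gl_rel hK hS hθ hφ' h1) h1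
    rw [e] at hφ'
    exact hφ'
  · intro hφ
    have e := h.source_unique (h.gl_rel hK hS hθ' hφ h1) h1
    rw [e] at hθ'
    exact hθ'

theorem stab_eq {θ : IrrCharacter K} {φ : IrrCharacter C} (h1 : Gl p S K C θ φ) {g : Γ}
    (hK : g ∈ Subgroup.normalizer (K : Set Γ)) (hS : g ∈ Subgroup.normalizer (S : Set Γ)) :
    g ∈ stab K (θ : K → ℂ) ↔ g ∈ stab C (φ : C → ℂ) := by
  rw [mem_stab, mem_stab, h.rel_image hK hS h1]
  exact ⟨fun e => ⟨h.le_norm hK hS, e.2⟩, fun e => ⟨hK, e.2⟩⟩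

end Op

/-- Composition of multiplicities modulo `p` through invariant middle characters. -/
theorem mu_mid [Fact p.Prime] {E A B D : Subgroup Γ} (hE : IsPGroup p E) (hAB : A ≤ B) (hBD : B ≤ D)
    (hnA : E ≤ Subgroup.normalizer (A : Set Γ)) (hnB : E ≤ Subgroup.normalizer (B : Set Γ))
    {χ : IrrCharacter D} {γ : IrrCharacter A} (hχ : InvS E D (χ : D → ℂ)) (hγ : InvS E A (γ : A → ℂ))
    (β0 : IrrCharacter B) (h0 : InvS E B (β0 : B → ℂ))
    (hoth : ∀ β : IrrCharacter B, InvS E B (β : B → ℂ) → β ≠ β0 →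
      p ∣ mu (Subgroup.inclusion hBD) χ β ∨ p ∣ mu (Subgroup.inclusion hAB) β γ) :
    (mu (Subgroup.inclusion (hAB.trans hBD)) χ γ : ZMod p) =
      (mu (Subgroup.inclusion hBD) χ β0 : ZMod p) * (mu (Subgroup.inclusion hAB) β0 γ : ZMod p) := by
  classical
  haveI := Fintype.ofFinite A
  haveI := Fintype.ofFinite B
  rw [← mult_eq_mu, show Subgroup.inclusion (hAB.trans hBD) =
    (Subgroup.inclusion hBD).comp (Subgroup.inclusion hAB) from rfl, mult_comp, Nat.cast_sum,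
    sum_inv E B hE hnB _ (fun s hs β β' hr => by
      rw [mult_rel hBD (hnB hs) (fun k k' e => hχ s hs k k' e) hr,
        mult_rel hAB (hnA hs) hr (fun k k' e => hγ s hs k k' e)]),
    Finset.sum_eq_single β0]
  · rw [Nat.cast_mul, mult_eq_mu, mult_eq_mu]
  · intro β hβ hne
    rw [Nat.cast_mul, mult_eq_mu, mult_eq_mu, mul_eq_zero, ZMod.natCast_eq_zero_iff,
      ZMod.natCast_eq_zero_iff]
    exact hoth β (Finset.mem_filter.1 hβ).2 hne
  · exact fun h => absurd (Finset.mem_filter.2 ⟨Finset.mem_univ β0, h0⟩) h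

end CfsgLib.RelMcKay
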