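import Cfsg.Agent.Lib.RelMcKay.Glauberman

/-!
Series with `p`- or `p'`-factors above a given subgroup, and small facts on central subgroups.
-/

set_option autoImplicit false
set_option linter.style.haveILetI false
set_option linter.unusedSectionVars false

namespace CfsgLib.RelMcKay

universe u v

variable {G : Type u} [Group G] [Finite G] {p : ℕ}

/-- The allowed indices. -/
def GoodIdx (p d : ℕ) : Prop := (∃ m : ℕ, d = p ^ m) ∨ d.Coprime p

theorem GoodIdx.dvd [Fact p.Prime] {d e : ℕ} (h : GoodIdx p d) (he : e ∣ d) : GoodIdx p e := by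
  rcases h with ⟨m, rfl⟩ | h
  · obtain ⟨i, -, hi⟩ := (Nat.dvd_prime_pow Fact.out).1 he
    exact Or.inl ⟨i, hi⟩
  · exact Or.inr (h.coprime_dvd_left he)

/-- A series from inside `Z` to the whole group with factors of `p`-power order or order prime to `p`. -/
def SerOver (p : ℕ) (Z : Subgroup G) : Prop :=
  ∃ (n : ℕ) (H : Fin (n + 1) → Subgroup G), H 0 ≤ Z ∧ H (Fin.last n) = ⊤ ∧ Monotone H ∧
    (∀ i, (H i).Normal) ∧ ∀ i : Fin n, GoodIdx p ((H i.castSucc).relIndex (H i.succ))

theorem SerOver.mono {Z K : Subgroup G} (h : SerOver p Z) (hZK : Z ≤ K) : SerOver p K := by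
  obtain ⟨n, H, h0, h1, h2, h3, h4⟩ := h
  exact ⟨n, H, h0.trans hZK, h1, h2, h3, h4⟩

/-- The first step leaving `Z`. -/
theorem SerOver.exists_step {Z : Subgroup G} (h : SerOver p Z) (hZ : Z ≠ ⊤) :
    ∃ A B : Subgroup G, A ≤ Z ∧ ¬ B ≤ Z ∧ A ≤ B ∧ B.Normal ∧ GoodIdx p (A.relIndex B) := by
  obtain ⟨n, H, h0, h1, h2, h3, h4⟩ := h
  by_contra hcon
  refine hZ (top_le_iff.1 (h1 ▸ ?_))
  have key : ∀ i, H i ≤ Z := by
    intro i
    induction i using Fin.induction with
    | zero => exact h0
    | succ i ih =>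
      by_contra hne
      exact hcon ⟨_, _, ih, hne, h2 (Fin.castSucc_le_succ i), h3 _, h4 i⟩
  exact key _

theorem relIndex_subgroupOf_dvd {A B : Subgroup G} [A.Normal] (hAB : A ≤ B) (T : Subgroup G) :
    (A.subgroupOf T).relIndex (B.subgroupOf T) ∣ A.relIndex B := by
  rw [Subgroup.subgroupOf, Subgroup.subgroupOf, Subgroup.relIndex_comap, Subgroup.map_comap_eq,
    Subgroup.range_subtype, ← Subgroup.relIndex_subgroupOf (inf_le_right : T ⊓ B ≤ B)]
  exact Subgroup.relIndex_dvd_index_of_normal _ _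

theorem relIndex_map_dvd {G' : Type v} [Group G'] (f : G →* G') {A B : Subgroup G} [A.Normal] (hAB : A ≤ B) :
    (A.map f).relIndex (B.map f) ∣ A.relIndex B := by
  rw [Subgroup.relIndex_map_map,
    show B ⊔ f.ker = B ⊔ (A ⊔ f.ker) from le_antisymm (sup_le_sup_left le_sup_right _)
      (sup_le le_sup_left (sup_le (hAB.trans le_sup_left) le_sup_right))]
  haveI : (A ⊔ f.ker).Normal := inferInstance
  rw [Subgroup.relIndex_sup_right]
  exact Subgroup.relIndex_dvd_of_le_left B le_sup_left

/-- Transfer to a central replacement of a factor group of a subgroup. -/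
theorem SerOver.transfer [Fact p.Prime] {K T : Subgroup G} (hs : SerOver p K) [(K.subgroupOf T).Normal]
    {Δ : Type u} [Group Δ] [Finite Δ] (q : Δ →* T ⧸ K.subgroupOf T) (hq : Function.Surjective q) :
    SerOver p q.ker := by
  obtain ⟨n, H, h0, h1, h2, h3, h4⟩ := hs
  let π := QuotientGroup.mk' (K.subgroupOf T)
  refine ⟨n, fun i => (((H i).subgroupOf T).map π).comap q, ?_, ?_, ?_, ?_, ?_⟩
  · show (((H 0).subgroupOf T).map π).comap q ≤ q.ker
    rw [show ((H 0).subgroupOf T).map π = ⊥ from ?_]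
    · exact le_of_eq (MonoidHom.comap_bot q)
    · rw [Subgroup.map_eq_bot_iff, QuotientGroup.ker_mk']
      exact fun x hx => h0 hx
  · show (((H (Fin.last n)).subgroupOf T).map π).comap q = ⊤
    rw [h1, show (⊤ : Subgroup G).subgroupOf T = ⊤ from Subgroup.comap_top _,
      Subgroup.map_top_of_surjective _ (QuotientGroup.mk'_surjective _), Subgroup.comap_top]
  · intro i j hij
    exact Subgroup.comap_mono (Subgroup.map_mono (Subgroup.comap_mono (h2 hij)))
  · intro i
    haveI := h3 i
    haveI : ((H i).subgroupOf T).Normal := Subgroup.normal_subgroupOf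
    haveI := Subgroup.Normal.map (inferInstance : ((H i).subgroupOf T).Normal) π (QuotientGroup.mk'_surjective _)
    exact Subgroup.Normal.comap inferInstance q
  · intro i
    haveI := h3 i.castSucc
    haveI : ((H i.castSucc).subgroupOf T).Normal := Subgroup.normal_subgroupOf
    refine (h4 i).dvd ?_
    rw [Subgroup.relIndex_comap, Subgroup.map_comap_eq_self_of_surjective hq]
    exact (relIndex_map_dvd π (Subgroup.comap_mono (h2 (Fin.castSucc_le_succ i)))).trans
      (relIndex_subgroupOf_dvd (h2 (Fin.castSucc_le_succ i)) T)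

variable [Fact p.Prime]

/-- A Sylow subgroup is the only one above a central subgroup. -/
theorem normalizer_central_sup (S : Sylow p G) {A : Subgroup G} (hA : A ≤ Subgroup.center G) :
    Subgroup.normalizer ((A ⊔ (S : Subgroup G) : Subgroup G) : Set G) =
      Subgroup.normalizer ((S : Subgroup G) : Set G) := by
  have hAn : ∀ g : G, g ∈ Subgroup.normalizer (A : Set G) := fun g => by
    rw [Subgroup.mem_normalizer_iff]
    intro a
    refine ⟨fun ha => ?_, fun ha => ?_⟩
    · rw [Subgroup.mem_center_iff.1 (hA ha) g, mul_inv_cancel_right]; exact ha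
    · have := Subgroup.mem_center_iff.1 (hA ha) g⁻¹
      rw [show a = g⁻¹ * (g * a * g⁻¹) * g by group, this, inv_mul_cancel_right]; exact ha
  apply le_antisymm
  · refine le_norm_of fun g hg s hs => ?_
    have hSn : A ⊔ (S : Subgroup G) ≤ Subgroup.normalizer ((S : Subgroup G) : Set G) :=
      sup_le (le_norm_of fun a ha t ht => by
        rw [← Subgroup.mem_center_iff.1 (hA ha) t, mul_inv_cancel_right]; exact ht) Subgroup.le_normalizer
    let S' : Subgroup G := (S : Subgroup G).map (MulAut.conj g).toMonoidHom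
    have hS' : S' ≤ Subgroup.normalizer ((S : Subgroup G) : Set G) := by
      rintro _ ⟨t, ht, rfl⟩
      exact hSn (norm_conj hg (Subgroup.mem_sup_right ht))
    have hp : IsPGroup p ↥(S' ⊔ (S : Subgroup G)) :=
      IsPGroup.to_sup_of_normal_right' (S.2.map _) S.2 hS'
    have := S.3 hp le_sup_right
    exact this ▸ Subgroup.mem_sup_left ⟨s, hs, rfl⟩
  · refine le_norm_of fun g hg k hk => ?_
    have h1 : (A ⊔ (S : Subgroup G)).map (MulAut.conj g).toMonoidHom ≤ A ⊔ (S : Subgroup G) := by
      rw [Subgroup.map_sup]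
      exact sup_le_sup (by rintro _ ⟨x, hx, rfl⟩; exact norm_conj (hAn g) hx)
        (by rintro _ ⟨x, hx, rfl⟩; exact norm_conj hg hx)
    exact h1 ⟨k, hk, rfl⟩

end CfsgLib.RelMcKay
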