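import Cfsg.Agent.Lib.RelMcKay.Crit
import Cfsg.Agent.Lib.RelMcKay.Series

/-!
The relative count for `p`-solvable groups.
-/

set_option autoImplicit false
set_option linter.style.haveILetI false
set_option linter.unusedSectionVars false

namespace CfsgLib.RelMcKay

open Cfsg CfsgLib.CharTheory CfsgLib.Glauberman CfsgLib.Glauberman.NormalSylow

universe u

/-- The count for a central subgroup, as a statement on a group. -/
def CentralCount (p : ℕ) {Δ : Type u} [Group Δ] (Z : Subgroup Δ) : Prop :=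
  ∀ (S : Sylow p Δ) (hZN : Z ≤ Subgroup.normalizer ((S : Subgroup Δ) : Set Δ)) (lam : Z →* ℂˣ),
    cnt Z.subtype (fun z => (lam z : ℂ)) (fun d => ¬ p ∣ d) =
      cnt (Subgroup.inclusion hZN) (fun z => (lam z : ℂ)) (fun d => ¬ p ∣ d)

variable {G : Type u} [Group G] [Finite G] {p : ℕ} [Fact p.Prime]

/-- The reduction of a count over a stable character to a count over a central subgroup. -/
theorem cnt_reduce (K : Subgroup G) [K.Normal] (θ : IrrCharacter K) (S : Sylow p G)
    (hSst : (S : Subgroup G) ≤ stab K (θ : K → ℂ)) (hser : SerOver p K)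
    (hM : ∀ (Δ : Type u) [Group Δ] [Finite Δ] (Z : Subgroup Δ), Z ≤ Subgroup.center Δ → SerOver p Z →
      Z.index ≤ K.index → CentralCount p Z)
    (hKN : K ≤ Subgroup.normalizer ((K ⊔ (S : Subgroup G) : Subgroup G) : Set G)) :
    cnt K.subtype (θ : K → ℂ) (fun d => ¬ p ∣ d) =
      cnt (Subgroup.inclusion hKN) (θ : K → ℂ) (fun d => ¬ p ∣ d) := by
  set N1 := Subgroup.normalizer ((K ⊔ (S : Subgroup G) : Subgroup G) : Set G) with hN1
  have htopn : ∀ g : G, g ∈ Subgroup.normalizer (K : Set G) := fun g => by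
    rw [Subgroup.normalizer_eq_top]; trivial
  rw [← cnt_top, cnt_clifford' (le_top : K ≤ ⊤) (fun g _ => htopn g) θ,
    cnt_clifford' hKN (fun g _ => htopn g) θ]
  set T := ⊤ ⊓ stab K (θ : K → ℂ) with hT
  set T1 := N1 ⊓ stab K (θ : K → ℂ) with hT1
  have hST : (S : Subgroup G) ≤ T := le_inf le_top hSst
  have hSN1 : (S : Subgroup G) ≤ N1 := le_sup_right.trans Subgroup.le_normalizer
  have hi1 : ¬ p ∣ T.relIndex ⊤ := fun hd => S.not_dvd_index (hd.trans (by
    rw [Subgroup.relIndex_top_right]; exact Subgroup.index_dvd_of_le hST))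
  have hi2 : ¬ p ∣ T1.relIndex N1 := fun hd => S.not_dvd_index (hd.trans (by
    refine (Subgroup.relIndex_dvd_of_le_left N1 (le_inf hSN1 hSst : (S : Subgroup G) ≤ T1)).trans ?_
    rw [← Subgroup.relIndex_mul_index hSN1]
    exact Dvd.intro _ rfl))
  have hP : ∀ {i : ℕ}, ¬ p ∣ i → (fun d => ¬ p ∣ i * d) = fun d => ¬ p ∣ d := fun {i} hi => funext fun d => by
    rw [Nat.Prime.dvd_mul Fact.out, or_iff_right hi]
  rw [hP hi1, hP hi2]
  have hKT : K ≤ T := le_inf le_top (le_stab θ)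
  have hKT1 : K ≤ T1 := le_inf hKN (le_stab θ)
  have hT1T : T1 ≤ T := le_inf le_top inf_le_right
  have hTn : T ≤ Subgroup.normalizer (K : Set G) := fun g _ => htopn g
  haveI := normal_of_le hKT hTn
  set K' := K.subgroupOf T with hK'
  have hKTst : T ≤ stab K (θ : K → ℂ) := inf_le_right
  obtain ⟨Δ, iG, iF, q, lam, hq, hcen, hcnt⟩ :=
    exists_triple K' (isIrr_down' hKT θ.2) (invariant_down hKT hTn _ hKTst)
  have hdeg : charDegree (down T (θ : K → ℂ)) = charDegree (θ : K → ℂ) := charDegree_down _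
  haveI := Fintype.ofFinite T
  -- both sides in the replacement
  have side : ∀ (A : Subgroup G) (hKA : K ≤ A) (hAT : A ≤ T),
      cnt (Subgroup.inclusion hKA) (θ : K → ℂ) (fun d => ¬ p ∣ d) =
        cnt (Subgroup.inclusion (MonoidHom.ker_le_comap q ((A.subgroupOf T).map (QuotientGroup.mk' K'))))
          (fun z => (lam z : ℂ)) (fun d => ¬ p ∣ charDegree (θ : K → ℂ) * d) := by
    intro A hKA hAT
    have hKA' : K' ≤ A.subgroupOf T := Subgroup.comap_mono hKA
    have h := hcnt (A.subgroupOf T) _ (isIrr_subgroupOf K' hKA' (isIrr_down' hKT θ.2)) (fun k => rfl)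
      (fun d => ¬ p ∣ d)
    rw [hdeg] at h
    rw [← h]
    exact cnt_congr (ι := Subgroup.inclusion hKA) (ι' := (K'.subgroupOf (A.subgroupOf T)).subtype)
      (θ := (θ : K → ℂ))
      ((Subgroup.subgroupOfEquivOfLe hKT).symm.trans (Subgroup.subgroupOfEquivOfLe hKA').symm)
      (Subgroup.subgroupOfEquivOfLe hAT).symm (fun k => rfl) (fun k => rfl) _
  rw [side T hKT le_rfl, side T1 hKT1 hT1T]
  by_cases hpθ : p ∣ charDegree (θ : K → ℂ)
  · rw [cnt_eq_zero _ _ _ fun χ _ hd => hd (hpθ.mul_right _),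
      cnt_eq_zero _ _ _ fun χ _ hd => hd (hpθ.mul_right _)]
  rw [hP hpθ]
  -- the Sylow subgroup of the replacement
  obtain ⟨SΔ, hSΔ⟩ := Sylow.mapSurjective_surjective hq p
    ((S.subtype hST).mapSurjective (QuotientGroup.mk'_surjective K'))
  have hSq : (SΔ : Subgroup Δ).map q = ((S : Subgroup G).subgroupOf T).map (QuotientGroup.mk' K') := by
    have := congrArg (fun P : Sylow p (T ⧸ K') => (P : Subgroup (T ⧸ K'))) hSΔ
    simpa using this
  have hKS : K ⊔ (S : Subgroup G) ≤ T := sup_le hKT hST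
  have hN : ((T1.subgroupOf T).map (QuotientGroup.mk' K')).comap q =
      Subgroup.normalizer ((SΔ : Subgroup Δ) : Set Δ) := by
    have e1 : (Subgroup.normalizer ((((S : Subgroup G).subgroupOf T).map (QuotientGroup.mk' K') :
        Subgroup (T ⧸ K')) : Set (T ⧸ K'))).comap (QuotientGroup.mk' K') = T1.subgroupOf T := by
      rw [Subgroup.comap_normalizer_eq_of_surjective _ (QuotientGroup.mk'_surjective K'), Subgroup.comap_map_eq,
        QuotientGroup.ker_mk', hK', ← Subgroup.subgroupOf_sup hST hKT, sup_comm,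
        ← Subgroup.subgroupOf_normalizer_eq hKS]
      ext t
      rw [Subgroup.mem_subgroupOf, Subgroup.mem_subgroupOf]
      exact ⟨fun h => Subgroup.mem_inf.2 ⟨h, (Subgroup.mem_inf.1 t.2).2⟩, fun h => (Subgroup.mem_inf.1 h).1⟩
    rw [← e1, Subgroup.map_comap_eq_self_of_surjective (QuotientGroup.mk'_surjective K'), ← hSq,
      Subgroup.comap_normalizer_eq_of_surjective _ hq, Subgroup.comap_map_eq, sup_comm,
      normalizer_central_sup SΔ hcen]
  have htop : ((T.subgroupOf T).map (QuotientGroup.mk' K')).comap q = ⊤ := by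
    rw [Subgroup.subgroupOf_self, Subgroup.map_top_of_surjective _ (QuotientGroup.mk'_surjective K'),
      Subgroup.comap_top]
  have hidx : q.ker.index ≤ K.index := by
    rw [Subgroup.index_ker, MonoidHom.range_eq_top.2 hq, Subgroup.card_top, ← Subgroup.index_eq_card]
    exact Nat.le_of_dvd (Nat.pos_of_ne_zero Subgroup.index_ne_zero_of_finite)
      (Subgroup.relIndex_dvd_index_of_normal K T)
  have hM' := hM Δ q.ker hcen (hser.transfer q hq) hidx SΔ
    (hN ▸ MonoidHom.ker_le_comap q _) lam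
  rw [cnt_le htop, cnt_le hN, cnt_top]
  exact hM'

/-- Inside the normalizer: the case of a normal `p'`-subgroup. -/
theorem centralCount_crit {N1 : Subgroup G} {K0 : Subgroup G} (S : Sylow p G) (hK0 : K0.Normal)
    (hK0p : ¬ p ∣ Nat.card K0) (hJN : K0 ⊔ (S : Subgroup G) ≤ N1)
    (hN1 : N1 ≤ Subgroup.normalizer ((K0 ⊔ (S : Subgroup G) : Subgroup G) : Set G))
    (hN : Subgroup.normalizer ((S : Subgroup G) : Set G) ≤ N1) {Z : Subgroup G} (hc : Z ≤ Subgroup.center G)
    (hZJ : Z ≤ K0 ⊔ (S : Subgroup G)) (hZN : Z ≤ Subgroup.normalizer ((S : Subgroup G) : Set G))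
    (lam : Z →* ℂˣ) :
    cnt (Subgroup.inclusion (hZJ.trans hJN)) (fun z => (lam z : ℂ)) (fun d => ¬ p ∣ d) =
      cnt (Subgroup.inclusion hZN) (fun z => (lam z : ℂ)) (fun d => ¬ p ∣ d) := by
  have hSN : (S : Subgroup G) ≤ N1 := le_sup_right.trans hJN
  have hKN : K0 ≤ N1 := le_sup_left.trans hJN
  let S1 : Sylow p N1 := S.subtype hSN
  haveI hKn : (K0.subgroupOf N1).Normal := Subgroup.normal_subgroupOf
  haveI hJn : ((K0 ⊔ (S : Subgroup G)).subgroupOf N1).Normal := normal_of_le hJN hN1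
  have X : Crit p (S1 : Subgroup N1) (K0.subgroupOf N1)
      (K0.subgroupOf N1 ⊓ Subgroup.centralizer ((S1 : Subgroup N1) : Set N1))
      ((K0 ⊔ (S : Subgroup G)).subgroupOf N1)
      ((K0.subgroupOf N1 ⊓ Subgroup.centralizer ((S1 : Subgroup N1) : Set N1)) ⊔ (S1 : Subgroup N1)) :=
    ⟨⟨S1.2, by rwa [Nat.card_congr (Subgroup.subgroupOfEquivOfLe hKN).toEquiv],
      fun g _ => by rw [Subgroup.normalizer_eq_top]; trivial, rfl⟩,
      by rw [Sylow.coe_subtype, Subgroup.subgroupOf_sup hKN hSN], rfl⟩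
  have hc' : Z.subgroupOf N1 ≤ Subgroup.center N1 := fun x hx => Subgroup.mem_center_iff.2 fun y =>
    Subtype.ext (Subgroup.mem_center_iff.1 (hc (Subgroup.mem_subgroupOf.1 hx)) y)
  have hNS : Subgroup.normalizer ((S1 : Subgroup N1) : Set N1) =
      (Subgroup.normalizer ((S : Subgroup G) : Set G)).subgroupOf N1 := by
    rw [Sylow.coe_subtype, ← Subgroup.subgroupOf_normalizer_eq hSN]
  have hZN' : Z.subgroupOf N1 ≤ Subgroup.normalizer ((S1 : Subgroup N1) : Set N1) :=
    hNS ▸ Subgroup.comap_mono hZN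
  let eZ : Z ≃* Z.subgroupOf N1 := (Subgroup.subgroupOfEquivOfLe (hZJ.trans hJN)).symm
  let lam' : Z.subgroupOf N1 →* ℂˣ := lam.comp eZ.symm.toMonoidHom
  have hlam : ∀ z : Z, (lam z : ℂ) = (lam' (eZ z) : ℂ) := fun z => by
    show (lam z : ℂ) = (lam (eZ.symm (eZ z)) : ℂ)
    rw [MulEquiv.symm_apply_apply]
  have h := Crit.cnt_eq S1 X hc' (Subgroup.comap_mono hZJ) hZN' lam'
  rw [cnt_congr (ι := Subgroup.inclusion (hZJ.trans hJN)) (ι' := (Z.subgroupOf N1).subtype)
    (θ := fun z => (lam z : ℂ)) (θ' := fun z => (lam' z : ℂ)) eZ (MulEquiv.refl N1) (fun z => rfl) hlam _, h]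
  exact (cnt_congr (ι := Subgroup.inclusion hZN) (ι' := Subgroup.inclusion hZN') (θ := fun z => (lam z : ℂ))
    (θ' := fun z => (lam' z : ℂ)) eZ
    ((Subgroup.subgroupOfEquivOfLe hN).symm.trans (MulEquiv.subgroupCongr hNS.symm)) (fun z => rfl) hlam _).symm

theorem exists_central_complement (S : Sylow p G) {Z K : Subgroup G} [K.Normal] (hc : Z ≤ Subgroup.center G)
    (hZK : Z ≤ K) (hcop : (Z.relIndex K).Coprime p) :
    ∃ K0 : Subgroup G, K0.Normal ∧ ¬ p ∣ Nat.card K0 ∧ K ⊔ (S : Subgroup G) = K0 ⊔ (S : Subgroup G) := by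
  have hp : p.Prime := Fact.out
  set A := Z ⊓ (S : Subgroup G) with hA
  have hAK : A ≤ K := inf_le_left.trans hZK
  obtain ⟨P⟩ : Nonempty (Sylow p Z) := inferInstance
  have hPS : (P : Subgroup Z).map Z.subtype ≤ (S : Subgroup G) := by
    have hn : (P : Subgroup Z).map Z.subtype ≤ Subgroup.normalizer ((S : Subgroup G) : Set G) :=
      le_norm_of fun a ha s hs => by
        rw [← Subgroup.mem_center_iff.1 (hc (Subgroup.map_subtype_le _ ha)) s, mul_inv_cancel_right]
        exact hs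
    exact S.3 (IsPGroup.to_sup_of_normal_right' (P.2.map _) S.2 hn) le_sup_right ▸ le_sup_left
  have hAZ : ¬ p ∣ A.relIndex Z := fun hd => P.not_dvd_index (hd.trans (Subgroup.index_dvd_of_le fun x hx =>
    Subgroup.mem_subgroupOf.2 (Subgroup.mem_inf.2 ⟨x.2, hPS ⟨x, hx, rfl⟩⟩)))
  have hAK' : ¬ p ∣ (A.subgroupOf K).index := by
    show ¬ p ∣ A.relIndex K
    rw [← Subgroup.relIndex_mul_relIndex A Z K inf_le_left hZK]
    intro hd
    rcases (Nat.Prime.dvd_mul hp).1 hd with h | h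
    · exact hAZ h
    · exact hp.coprime_iff_not_dvd.1 hcop.symm h
  haveI hAn : (A.subgroupOf K).Normal := ⟨fun a ha g => Subgroup.mem_subgroupOf.2 (by
    show (g : G) * a * (g : G)⁻¹ ∈ A
    rw [Subgroup.mem_center_iff.1 (hc (Subgroup.mem_inf.1 (Subgroup.mem_subgroupOf.1 ha)).1) (g : G),
      mul_inv_cancel_right]
    exact Subgroup.mem_subgroupOf.1 ha)⟩
  have hAp : IsPGroup p A := S.2.to_le inf_le_right
  obtain ⟨n, hn⟩ := IsPGroup.iff_card.1 hAp
  obtain ⟨R, hR⟩ := Subgroup.exists_right_complement'_of_coprime (N := A.subgroupOf K) (by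
    rw [Nat.card_congr (Subgroup.subgroupOfEquivOfLe hAK).toEquiv, hn]
    exact (hp.coprime_iff_not_dvd.2 hAK').pow_left n)
  have hRp : ¬ p ∣ Nat.card (R.map K.subtype) := by
    rwa [Subgroup.card_map_of_injective K.subtype_injective, ← hR.symm.index_eq_card]
  have hdec : ∀ g ∈ K, ∃ a ∈ A, ∃ r ∈ R.map K.subtype, a * r = g := by
    intro g hg
    have h1 : (⟨g, hg⟩ : K) ∈ (Set.univ : Set K) := trivial
    rw [← hR.mul_eq] at h1
    obtain ⟨a, ha, r, hr, e⟩ := Set.mem_mul.1 h1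
    exact ⟨a, ha, r, ⟨r, hr, rfl⟩, congrArg Subtype.val e⟩
  have hcopA : (Nat.card A).Coprime (Nat.card (R.map K.subtype)) := by
    rw [hn]
    exact (hp.coprime_iff_not_dvd.2 hRp).pow_left n
  refine ⟨R.map K.subtype, ⟨fun r hr g => ?_⟩, hRp, ?_⟩
  · have hgK : g * r * g⁻¹ ∈ K := (inferInstance : K.Normal).conj_mem r (Subgroup.map_subtype_le _ hr) g
    obtain ⟨a, ha, r', hr', e⟩ := hdec _ hgK
    have hcomm : Commute a r' := (Subgroup.mem_center_iff.1 (hc (Subgroup.mem_inf.1 ha).1) r').symm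
    have h1 : (g * r * g⁻¹) ^ Nat.card (R.map K.subtype) = 1 := by
      rw [_root_.conj_pow]
      have : (⟨r, hr⟩ : R.map K.subtype) ^ Nat.card (R.map K.subtype) = 1 := pow_card_eq_one'
      have h2 := congrArg Subtype.val this
      rw [SubgroupClass.coe_pow, Subgroup.coe_one] at h2
      rw [h2, mul_one, mul_inv_cancel]
    rw [← e, hcomm.mul_pow] at h1
    have hr1 : r' ^ Nat.card (R.map K.subtype) = 1 := by
      have : (⟨r', hr'⟩ : R.map K.subtype) ^ Nat.card (R.map K.subtype) = 1 := pow_card_eq_one'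
      have h2 := congrArg Subtype.val this
      rwa [SubgroupClass.coe_pow, Subgroup.coe_one] at h2
    rw [hr1, mul_one] at h1
    have ha1 : a ^ Nat.card A = 1 := by
      have : (⟨a, ha⟩ : A) ^ Nat.card A = 1 := pow_card_eq_one'
      have h2 := congrArg Subtype.val this
      rwa [SubgroupClass.coe_pow, Subgroup.coe_one] at h2
    rw [← e, eq_one_of_pow ha1 h1 hcopA, one_mul]
    exact hr'
  · refine le_antisymm (sup_le (fun g hg => ?_) le_sup_right) (sup_le_sup_right (Subgroup.map_subtype_le _) _)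
    obtain ⟨a, ha, r, hr, rfl⟩ := hdec g hg
    exact mul_mem (Subgroup.mem_sup_right (Subgroup.mem_inf.1 ha).2) (Subgroup.mem_sup_left hr)

/-- The count over a central subgroup. -/
theorem central_count : ∀ (n : ℕ) (Δ : Type u) [Group Δ] [Finite Δ] (Z : Subgroup Δ),
    Z ≤ Subgroup.center Δ → SerOver p Z → Z.index = n → CentralCount p Z := by
  intro n
  induction n using Nat.strong_induction_on with
  | _ n ih =>
  intro Δ _ _ Z hc hser hn S hZN lam
  classical
  by_cases hZ : Z = ⊤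
  · have htop : Subgroup.normalizer ((S : Subgroup Δ) : Set Δ) = ⊤ := top_le_iff.1 (hZ ▸ hZN)
    rw [cnt_le htop, cnt_top]
  obtain ⟨A, B, hAZ, hBZ, hAB, hBn, hgood⟩ := hser.exists_step hZ
  haveI hZn : Z.Normal := ⟨fun z hz g => by rw [Subgroup.mem_center_iff.1 (hc hz) g, mul_inv_cancel_right]; exact hz⟩
  haveI := hBn
  set K := B ⊔ Z with hK
  have hZK : Z ≤ K := le_sup_right
  have hstep : GoodIdx p (Z.relIndex K) := by
    refine hgood.dvd ?_
    rw [hK, Subgroup.relIndex_sup_right]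
    exact Subgroup.relIndex_dvd_of_le_left B hAZ
  have hlt : K.index < Z.index := by
    have h1 := Subgroup.relIndex_mul_index hZK
    rw [← h1]
    refine lt_mul_of_one_lt_left (Nat.pos_of_ne_zero Subgroup.index_ne_zero_of_finite) ?_
    refine lt_of_le_of_ne (Nat.one_le_iff_ne_zero.2 Subgroup.index_ne_zero_of_finite) fun e => hBZ ?_
    exact (le_sup_left : B ≤ K).trans (Subgroup.relIndex_eq_one.1 e.symm)
  set N1 := Subgroup.normalizer ((K ⊔ (S : Subgroup Δ) : Subgroup Δ) : Set Δ) with hN1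
  have hKN : K ≤ N1 := le_sup_left.trans Subgroup.le_normalizer
  have hSN : (S : Subgroup Δ) ≤ N1 := le_sup_right.trans Subgroup.le_normalizer
  have hNN : Subgroup.normalizer ((S : Subgroup Δ) : Set Δ) ≤ N1 := by
    refine le_norm_of fun g hg k hk => ?_
    have h1 : (K ⊔ (S : Subgroup Δ)).map (MulAut.conj g).toMonoidHom ≤ K ⊔ (S : Subgroup Δ) := by
      rw [Subgroup.map_sup]
      exact sup_le_sup (by rintro _ ⟨x, hx, rfl⟩; exact (inferInstance : K.Normal).conj_mem x hx g)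
        (by rintro _ ⟨x, hx, rfl⟩; exact norm_conj hg hx)
    exact h1 ⟨k, hk, rfl⟩
  letI : Fintype (Orb K (S : Subgroup Δ) (Over p hZK lam)) := Fintype.ofFinite _
  have hfirst : cnt Z.subtype (fun z => (lam z : ℂ)) (fun d => ¬ p ∣ d) =
      cnt (Subgroup.inclusion (hZK.trans hKN)) (fun z => (lam z : ℂ)) (fun d => ¬ p ∣ d) := by
    rw [← cnt_top, show cnt (Subgroup.inclusion (le_top : Z ≤ ⊤)) (fun z => (lam z : ℂ)) (fun d => ¬ p ∣ d) = _ from
      cnt_eq_sum S hc hZK (le_top : K ≤ ⊤) le_top le_top lam, cnt_eq_sum S hc hZK hKN hSN hNN lam]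
    refine Finset.sum_congr rfl fun c _ => ?_
    rw [cnt_top]
    refine cnt_reduce K c.out.1 S ?_ (hser.mono hZK) (fun Δ' _ _ Z' hc' hs' hi' => ?_) hKN
    · rw [← inertia_eq_stab]
      exact c.out.2.1
    · exact ih Z'.index (hn ▸ hi'.trans_lt hlt) Δ' Z' hc' hs' rfl
  rw [hfirst]
  rcases hstep with ⟨m, hm⟩ | hcop
  · -- a `p`-factor
    have hKS : K ⊔ (S : Subgroup Δ) = Z ⊔ (S : Subgroup Δ) := by
      let π := QuotientGroup.mk' Z
      have hQ : IsPGroup p (K.map π) := IsPGroup.of_card (n := m) (by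
        rw [← Subgroup.relIndex_ker, QuotientGroup.ker_mk', hm])
      haveI : (K.map π).Normal := Subgroup.Normal.map inferInstance π (QuotientGroup.mk'_surjective Z)
      let Sb := S.mapSurjective (QuotientGroup.mk'_surjective Z) (f := π)
      have h1 : K.map π ⊔ (Sb : Subgroup (Δ ⧸ Z)) = Sb := Sb.3 (IsPGroup.to_sup_of_normal_left hQ Sb.2) le_sup_right
      have h2 : K.map π ≤ (S : Subgroup Δ).map π := by
        have h3 : K.map π ≤ (Sb : Subgroup (Δ ⧸ Z)) := h1 ▸ le_sup_left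
        exact h3
      rw [Subgroup.map_le_map_iff, QuotientGroup.ker_mk', sup_comm] at h2
      exact le_antisymm (sup_le h2 le_sup_right) (sup_le_sup_right hZK _)
    have he : N1 = Subgroup.normalizer ((S : Subgroup Δ) : Set Δ) := by
      rw [hN1, hKS, normalizer_central_sup S hc]
    exact cnt_le he _ _ _
  · -- a `p'`-factor
    obtain ⟨K0, hK0, hK0p, heq⟩ := exists_central_complement S hc hZK hcop
    exact centralCount_crit S hK0 hK0p (heq ▸ (Subgroup.le_normalizer : K ⊔ (S : Subgroup Δ) ≤ N1))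
      (le_of_eq (by rw [hN1, heq])) hNN hc (heq ▸ hZK.trans le_sup_left) hZN lam

end CfsgLib.RelMcKay
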