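import Cfsg.Agent.Lib.RelMcKay.Semi
import Cfsg.Agent.Lib.RelMcKay.Central

/-!
The correspondence between characters of degree prime to `p` of `K ⊔ S` and of `C ⊔ S`.
-/

set_option autoImplicit false
set_option linter.style.haveILetI false
set_option linter.unusedSectionVars false

namespace CfsgLib.RelMcKay

open Cfsg CfsgLib.CharTheory CfsgLib.Glauberman CfsgLib.Glauberman.NormalSylow
open scoped ComplexConjugate

universe u

variable {Γ : Type u} [Group Γ] [Finite Γ] {p : ℕ}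

/-- Roots in a character group of order prime to the exponent. -/
theorem exists_root {S : Subgroup Γ} {d : ℕ} (hcop : (Nat.card S).Coprime d) (m : S →* ℂˣ) :
    ∃ η : S →* ℂˣ, ∀ s, η s ^ d = m s := by
  have hb := Nat.gcd_eq_gcd_ab (Nat.card S) d
  rw [hcop.gcd_eq_one, Nat.cast_one] at hb
  refine ⟨(zpowGroupHom (Nat.gcdB (Nat.card S) d)).comp m, fun s => ?_⟩
  have h1 : m s ^ (Nat.card S : ℤ) = 1 := by rw [zpow_natCast, ← map_pow, pow_card_eq_one', map_one]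
  show (m s ^ Nat.gcdB (Nat.card S) d) ^ d = m s
  rw [← zpow_natCast, ← zpow_mul, mul_comm]
  conv_rhs => rw [← zpow_one (m s), hb, zpow_add, zpow_mul, h1, one_zpow, one_mul]

theorem eq_of_pow {M : Type*} [CommGroup M] {a b : M} {m n : ℕ} (hm : a ^ m = b ^ m) (hn : a ^ n = b ^ n)
    (h : m.Coprime n) : a = b :=
  div_eq_one.1 (eq_one_of_pow (by rw [div_pow, hm, div_self']) (by rw [div_pow, hn, div_self']) h)

theorem rel_eq_comp {g : Γ} {H : Subgroup Γ} (hg : g ∈ Subgroup.normalizer (H : Set Γ)) {θ θ' : H → ℂ}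
    (h : Rel g H θ θ') : ∃ c : H →* H, (∀ k : H, ((c k : H) : Γ) = g⁻¹ * k * g) ∧ θ' = fun k => θ (c k) := by
  refine ⟨{ toFun := fun k => ⟨g⁻¹ * k * g, norm_conj' hg k.2⟩
            map_one' := Subtype.ext (by simp)
            map_mul' := fun a b => Subtype.ext (by simp [mul_assoc]) }, fun k => rfl, funext fun k => ?_⟩
  exact h _ k (by show (k : Γ) = g * (g⁻¹ * k * g) * g⁻¹; group)

theorem rel_charDegree {g : Γ} {H : Subgroup Γ} (hg : g ∈ Subgroup.normalizer (H : Set Γ)) {θ θ' : H → ℂ}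
    (h : Rel g H θ θ') : charDegree θ' = charDegree θ := by
  obtain ⟨c, -, rfl⟩ := rel_eq_comp hg h
  unfold charDegree
  simp only [map_one]

/-- Scalar action of a central subgroup. -/
theorem exists_central' {Z H : Subgroup Γ} (hZH : Z ≤ H) (hc : Z ≤ Subgroup.center Γ) (χ : IrrCharacter H) :
    ∃ μ : Z →* ℂˣ, (∀ (z : Z) (g : H),
        (χ : H → ℂ) (Subgroup.inclusion hZH z * g) = (μ z : ℂ) * (χ : H → ℂ) g) ∧
      ∀ lam : Z →* ℂˣ, Lies (Subgroup.inclusion hZH) (fun z => (lam z : ℂ)) (χ : H → ℂ) ↔ μ = lam := by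
  have hcen : Z.subgroupOf H ≤ Subgroup.center H := fun x hx => Subgroup.mem_center_iff.2 fun y =>
    Subtype.ext (Subgroup.mem_center_iff.1 (hc (Subgroup.mem_subgroupOf.1 hx)) y)
  haveI : (Z.subgroupOf H).Normal := ⟨fun x hx g => by
    rw [Subgroup.mem_center_iff.1 (hcen hx) g, mul_inv_cancel_right]; exact hx⟩
  haveI := Fintype.ofFinite H
  obtain ⟨μ, hμ⟩ := exists_central_char (Z.subgroupOf H) hcen χ.2
  let e : Z ≃* Z.subgroupOf H := (Subgroup.subgroupOfEquivOfLe hZH).symm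
  refine ⟨μ.comp e.toMonoidHom, fun z g => hμ (e z) g, fun lam => ?_⟩
  have h1 := lies_congr (ι := Subgroup.inclusion hZH) (ι' := (Z.subgroupOf H).subtype) e (MulEquiv.refl H)
    (fun z => rfl) (fun z => ((lam.comp e.symm.toMonoidHom) z : ℂ)) (χ : H → ℂ)
  rw [show (fun z => (((lam.comp e.symm.toMonoidHom) (e z) : ℂˣ) : ℂ)) = fun z => (lam z : ℂ) from
    funext fun z => by show ((lam (e.symm (e z)) : ℂˣ) : ℂ) = _; rw [MulEquiv.symm_apply_apply]] at h1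
  refine (Iff.of_eq ?_).trans ((h1.trans (lies_central _ hcen _ χ.2)).trans ⟨fun h => ?_, fun h z => ?_⟩)
  · rfl
  · refine MonoidHom.ext fun z => Units.ext ?_
    have h2 := h (e z)
    have h3 := hμ (e z) 1
    rw [mul_one, h2] at h3
    show (μ (e z) : ℂ) = _
    have h4 : ((lam.comp e.symm.toMonoidHom) (e z) : ℂˣ) = lam z := by
      show lam (e.symm (e z)) = lam z
      rw [MulEquiv.symm_apply_apply]
    rw [h4] at h3
    exact mul_right_cancel₀ (irr_ne_zero χ.2) (h3.symm.trans (mul_comm _ _))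
  · subst h
    have h3 := hμ z 1
    rw [mul_one] at h3
    rw [h3, mul_comm]
    show (χ : H → ℂ) 1 * (μ z : ℂ) = (χ : H → ℂ) 1 * ((μ (e (e.symm z)) : ℂˣ) : ℂ)
    rw [MulEquiv.apply_symm_apply]

/-- Two scalars agreeing through a nonzero multiplicity. -/
theorem scalar_eq {A B : Subgroup Γ} (hAB : A ≤ B) {χ : B → ℂ} {φ : A → ℂ}
    (hl : Lies (Subgroup.inclusion hAB) φ χ) (z : A) (a b : ℂˣ) (hb : ∃ n, 0 < n ∧ b ^ n = 1)
    (hχ : ∀ g : B, χ (Subgroup.inclusion hAB z * g) = (a : ℂ) * χ g) (hφ : ∀ g : A, φ (z * g) = (b : ℂ) * φ g) :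
    a = b := by
  haveI := Fintype.ofFinite A
  unfold Lies at hl
  rw [finsum_eq_sum_of_fintype] at hl
  have h1 : ∑ k : A, χ (Subgroup.inclusion hAB k) * conj (φ k) =
      ((a : ℂ) * conj (b : ℂ)) * ∑ k : A, χ (Subgroup.inclusion hAB k) * conj (φ k) := by
    conv_lhs => rw [← Equiv.sum_comp (Equiv.mulLeft z)]
    rw [Finset.mul_sum]
    refine Finset.sum_congr rfl fun k _ => ?_
    rw [Equiv.coe_mulLeft, map_mul, hχ, hφ, map_mul]
    ring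
  have h2 : (a : ℂ) * conj (b : ℂ) = 1 := (mul_eq_right₀ hl).1 h1.symm
  obtain ⟨n, hn, hbn⟩ := hb
  have hnorm : ‖(b : ℂ)‖ = 1 :=
    Complex.norm_eq_one_of_pow_eq_one (by rw [← Units.val_pow_eq_pow_val, hbn, Units.val_one]) hn.ne'
  rw [← Complex.inv_eq_conj hnorm, mul_inv_eq_one₀ (Units.ne_zero b)] at h2
  exact Units.ext h2

/-- The data of the correspondence. -/
structure Crit (p : ℕ) (S K C J J' : Subgroup Γ) : Prop where
  op : Op p S K C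
  eq : J = K ⊔ S
  eq' : J' = C ⊔ S

namespace Crit

variable [Fact p.Prime] {S K C J J' : Subgroup Γ} (X : Crit p S K C J J')

include X

theorem semi : Semi p S K J := ⟨X.op.pgroup, X.op.coprime, X.op.norm, X.eq⟩

theorem semi' : Semi p S C J' :=
  ⟨X.op.pgroup, not_dvd_of_le X.op.le X.op.coprime, le_norm_of_cent X.op.cent, X.eq'⟩

theorem norms {g : Γ} (hK : g ∈ Subgroup.normalizer (K : Set Γ)) (hS : g ∈ Subgroup.normalizer (S : Set Γ)) :
    g ∈ Subgroup.normalizer (J : Set Γ) ∧ g ∈ Subgroup.normalizer (J' : Set Γ) := by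
  have key : ∀ A : Subgroup Γ, g ∈ Subgroup.normalizer (A : Set Γ) →
      g ∈ Subgroup.normalizer ((A ⊔ S : Subgroup Γ) : Set Γ) := by
    intro A hA
    refine le_norm_of (A := Subgroup.normalizer (A : Set Γ) ⊓ Subgroup.normalizer (S : Set Γ))
      (fun a ha k hk => ?_) (Subgroup.mem_inf.2 ⟨hA, hS⟩)
    have h1 : (A ⊔ S).map (MulAut.conj a).toMonoidHom ≤ A ⊔ S := by
      rw [Subgroup.map_sup]
      exact sup_le_sup (by rintro _ ⟨x, hx, rfl⟩; exact norm_conj (Subgroup.mem_inf.1 ha).1 hx)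
        (by rintro _ ⟨x, hx, rfl⟩; exact norm_conj (Subgroup.mem_inf.1 ha).2 hx)
    exact h1 ⟨k, hk, rfl⟩
  exact ⟨X.eq ▸ key K hK, X.eq' ▸ key C (X.op.le_norm hK hS)⟩

/-- The correspondence. -/
def Pr (ψ : IrrCharacter J) (ψ' : IrrCharacter J') : Prop :=
  ∃ (θ : IrrCharacter K) (φ : IrrCharacter C),
    (∀ k : K, (ψ : J → ℂ) (Subgroup.inclusion X.semi.leK k) = (θ : K → ℂ) k) ∧
    (∀ c : C, (ψ' : J' → ℂ) (Subgroup.inclusion X.semi'.leK c) = (φ : C → ℂ) c) ∧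
    Gl p S K C θ φ ∧ ∀ s : S, detChar (ψ : J → ℂ) (Subgroup.inclusion X.semi.leS s) ^ charDegree (φ : C → ℂ) =
      detChar (ψ' : J' → ℂ) (Subgroup.inclusion X.semi'.leS s) ^ charDegree (θ : K → ℂ)

theorem deg {ψ : IrrCharacter J} {ψ' : IrrCharacter J'} (h : X.Pr ψ ψ') :
    ¬ p ∣ charDegree (ψ : J → ℂ) ∧ ¬ p ∣ charDegree (ψ' : J' → ℂ) := by
  obtain ⟨θ, φ, h1, h2, -, -⟩ := h
  exact ⟨charDegree_of_res _ h1 ▸ X.semi.deg_not_dvd θ.2, charDegree_of_res _ h2 ▸ X.semi'.deg_not_dvd φ.2⟩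

theorem res_unique {A B : Subgroup Γ} (hAB : A ≤ B) (ψ : IrrCharacter B) {θ θ' : IrrCharacter A}
    (h : ∀ k : A, (ψ : B → ℂ) (Subgroup.inclusion hAB k) = (θ : A → ℂ) k)
    (h' : ∀ k : A, (ψ : B → ℂ) (Subgroup.inclusion hAB k) = (θ' : A → ℂ) k) : θ = θ' :=
  Subtype.ext (funext fun k => (h k).symm.trans (h' k))

theorem detPow (A : Subgroup Γ) (hA : S ≤ A) (ψ : IrrCharacter A) (s : S) :
    detChar (ψ : A → ℂ) (Subgroup.inclusion hA s) ^ Nat.card S = 1 := by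
  obtain ⟨D, hD⟩ := exists_detHom (isCharacter_of_irr ψ.2)
  rw [hD, ← Units.val_pow_eq_pow_val, ← map_pow, ← map_pow, pow_card_eq_one', map_one, map_one, Units.val_one]

theorem exists_right (ψ : IrrCharacter J) (hd : ¬ p ∣ charDegree (ψ : J → ℂ)) :
    ∃ ψ' : IrrCharacter J', X.Pr ψ ψ' := by
  obtain ⟨θ, hθ, hres⟩ := X.semi.exists_res ψ hd
  obtain ⟨φ, hg⟩ := X.op.exists_image hθ
  obtain ⟨D, hD⟩ := exists_detHom (isCharacter_of_irr ψ.2)
  obtain ⟨η, hη⟩ := exists_root (X.semi.deg_cop θ.2)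
    ((D.comp (Subgroup.inclusion X.semi.leS)) ^ charDegree (φ : C → ℂ))
  obtain ⟨ψ', hres', hdet⟩ := X.semi'.exists_ext φ (invS_of_cent X.op.cent _) η
  refine ⟨ψ', θ, φ, hres, hres', hg, fun s => ?_⟩
  rw [hdet, hD, ← Units.val_pow_eq_pow_val, ← Units.val_pow_eq_pow_val, hη]
  rfl

theorem exists_left (ψ' : IrrCharacter J') (hd : ¬ p ∣ charDegree (ψ' : J' → ℂ)) :
    ∃ ψ : IrrCharacter J, X.Pr ψ ψ' := by
  obtain ⟨φ, -, hres'⟩ := X.semi'.exists_res ψ' hd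
  obtain ⟨θ, hg⟩ := X.op.exists_source φ
  obtain ⟨D, hD⟩ := exists_detHom (isCharacter_of_irr ψ'.2)
  obtain ⟨η, hη⟩ := exists_root (X.semi'.deg_cop φ.2)
    ((D.comp (Subgroup.inclusion X.semi'.leS)) ^ charDegree (θ : K → ℂ))
  obtain ⟨ψ, hres, hdet⟩ := X.semi.exists_ext θ hg.2.1 η
  refine ⟨ψ, θ, φ, hres, hres', hg, fun s => ?_⟩
  rw [hdet, hD, ← Units.val_pow_eq_pow_val, ← Units.val_pow_eq_pow_val, hη]
  rfl

theorem right_unique {ψ : IrrCharacter J} {ψ₁ ψ₂ : IrrCharacter J'} (h1 : X.Pr ψ ψ₁) (h2 : X.Pr ψ ψ₂) :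
    ψ₁ = ψ₂ := by
  obtain ⟨θ, φ, a1, a2, a3, a4⟩ := h1
  obtain ⟨θ', φ', b1, b2, b3, b4⟩ := h2
  obtain rfl := res_unique X X.semi.leK ψ a1 b1
  obtain rfl := X.op.image_unique a3 b3
  refine X.semi'.ext_unique φ ψ₁ ψ₂ a2 b2 fun s => ?_
  obtain ⟨D₁, hD₁⟩ := exists_detHom (isCharacter_of_irr ψ₁.2)
  obtain ⟨D₂, hD₂⟩ := exists_detHom (isCharacter_of_irr ψ₂.2)
  have e := (a4 s).symm.trans (b4 s)
  have c1 := detPow X J' X.semi'.leS ψ₁ s
  have c2 := detPow X J' X.semi'.leS ψ₂ s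
  rw [hD₁, ← Units.val_pow_eq_pow_val, Units.val_eq_one] at c1
  rw [hD₂, ← Units.val_pow_eq_pow_val, Units.val_eq_one] at c2
  rw [hD₁, hD₂, ← Units.val_pow_eq_pow_val, ← Units.val_pow_eq_pow_val, Units.val_inj] at e
  rw [hD₁, hD₂, eq_of_pow (c1.trans c2.symm) e (X.semi.deg_cop θ.2)]

theorem left_unique {ψ₁ ψ₂ : IrrCharacter J} {ψ' : IrrCharacter J'} (h1 : X.Pr ψ₁ ψ') (h2 : X.Pr ψ₂ ψ') :
    ψ₁ = ψ₂ := by
  obtain ⟨θ, φ, a1, a2, a3, a4⟩ := h1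
  obtain ⟨θ', φ', b1, b2, b3, b4⟩ := h2
  obtain rfl := res_unique X X.semi'.leK ψ' a2 b2
  obtain rfl := X.op.source_unique a3 b3
  refine X.semi.ext_unique θ ψ₁ ψ₂ a1 b1 fun s => ?_
  obtain ⟨D₁, hD₁⟩ := exists_detHom (isCharacter_of_irr ψ₁.2)
  obtain ⟨D₂, hD₂⟩ := exists_detHom (isCharacter_of_irr ψ₂.2)
  have e := (a4 s).trans (b4 s).symm
  have c1 := detPow X J X.semi.leS ψ₁ s
  have c2 := detPow X J X.semi.leS ψ₂ s
  rw [hD₁, ← Units.val_pow_eq_pow_val, Units.val_eq_one] at c1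
  rw [hD₂, ← Units.val_pow_eq_pow_val, Units.val_eq_one] at c2
  rw [hD₁, hD₂, ← Units.val_pow_eq_pow_val, ← Units.val_pow_eq_pow_val, Units.val_inj] at e
  rw [hD₁, hD₂, eq_of_pow (c1.trans c2.symm) e (X.semi'.deg_cop φ.2)]

theorem pr_rel {g : Γ} (hK : g ∈ Subgroup.normalizer (K : Set Γ)) (hS : g ∈ Subgroup.normalizer (S : Set Γ))
    {ψ ψ₂ : IrrCharacter J} {ψ' ψ₂' : IrrCharacter J'} (r : Rel g J (ψ : J → ℂ) (ψ₂ : J → ℂ))
    (r' : Rel g J' (ψ' : J' → ℂ) (ψ₂' : J' → ℂ)) (h : X.Pr ψ ψ') : X.Pr ψ₂ ψ₂' := by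
  obtain ⟨θ, φ, a1, a2, a3, a4⟩ := h
  have hC := X.op.le_norm hK hS
  obtain ⟨θ₂, hθ₂⟩ := exists_rel hK θ
  obtain ⟨φ₂, hφ₂⟩ := exists_rel hC φ
  refine ⟨θ₂, φ₂, fun k => ?_, fun c => ?_, X.op.gl_rel hK hS hθ₂ hφ₂ a3, fun s => ?_⟩
  · have hk := norm_conj' hK k.2
    rw [r ⟨g⁻¹ * k * g, X.semi.leK hk⟩ (Subgroup.inclusion X.semi.leK k) (by
        show (k : Γ) = g * (g⁻¹ * k * g) * g⁻¹; group),
      hθ₂ ⟨g⁻¹ * k * g, hk⟩ k (by show (k : Γ) = g * (g⁻¹ * k * g) * g⁻¹; group)]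
    exact a1 ⟨_, hk⟩
  · have hk := norm_conj' hC c.2
    rw [r' ⟨g⁻¹ * c * g, X.semi'.leK hk⟩ (Subgroup.inclusion X.semi'.leK c) (by
        show (c : Γ) = g * (g⁻¹ * c * g) * g⁻¹; group),
      hφ₂ ⟨g⁻¹ * c * g, hk⟩ c (by show (c : Γ) = g * (g⁻¹ * c * g) * g⁻¹; group)]
    exact a2 ⟨_, hk⟩
  · obtain ⟨c, hc, e⟩ := rel_eq_comp (X.norms hK hS).1 r
    obtain ⟨c', hc', e'⟩ := rel_eq_comp (X.norms hK hS).2 r'
    rw [rel_charDegree hC hφ₂, rel_charDegree hK hθ₂, e, e', detChar_comp (isCharacter_of_irr ψ.2) c,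
      detChar_comp (isCharacter_of_irr ψ'.2) c']
    have hs := norm_conj' hS s.2
    rw [show c (Subgroup.inclusion X.semi.leS s) = Subgroup.inclusion X.semi.leS ⟨_, hs⟩ from Subtype.ext (hc _),
      show c' (Subgroup.inclusion X.semi'.leS s) = Subgroup.inclusion X.semi'.leS ⟨_, hs⟩ from Subtype.ext (hc' _)]
    exact a4 _

theorem stab_iff {g : Γ} (hK : g ∈ Subgroup.normalizer (K : Set Γ)) (hS : g ∈ Subgroup.normalizer (S : Set Γ))
    {ψ : IrrCharacter J} {ψ' : IrrCharacter J'} (h : X.Pr ψ ψ') :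
    g ∈ stab J (ψ : J → ℂ) ↔ g ∈ stab J' (ψ' : J' → ℂ) := by
  obtain ⟨n, n'⟩ := X.norms hK hS
  constructor
  · rintro ⟨-, r⟩
    obtain ⟨ψ₂, r'⟩ := exists_rel n' ψ'
    have e := X.right_unique (X.pr_rel hK hS r r' h) h
    rw [e] at r'
    exact ⟨n', r'⟩
  · rintro ⟨-, r'⟩
    obtain ⟨ψ₂, r⟩ := exists_rel n ψ
    have e := X.left_unique (X.pr_rel hK hS r r' h) h
    rw [e] at r
    exact ⟨n, r⟩

theorem lies_central_iff {Z : Subgroup Γ} (hc : Z ≤ Subgroup.center Γ) (hZJ : Z ≤ J) (hZJ' : Z ≤ J')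
    {ψ : IrrCharacter J} {ψ' : IrrCharacter J'} (h : X.Pr ψ ψ') (lam : Z →* ℂˣ) :
    Lies (Subgroup.inclusion hZJ) (fun z => (lam z : ℂ)) (ψ : J → ℂ) ↔
      Lies (Subgroup.inclusion hZJ') (fun z => (lam z : ℂ)) (ψ' : J' → ℂ) := by
  obtain ⟨μ, hμ, hl⟩ := exists_central' hZJ hc ψ
  obtain ⟨μ', hμ', hl'⟩ := exists_central' hZJ' hc ψ'
  rw [hl, hl']
  suffices μ = μ' by rw [this]
  obtain ⟨θ, φ, a1, a2, a3, a4⟩ := h
  obtain ⟨π, -, -, hπ⟩ := X.semi.exists_proj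
  refine MonoidHom.ext fun z => ?_
  set s := π (Subgroup.inclusion hZJ z)
  have hk : (z : Γ) * ((s : Γ))⁻¹ ∈ K := hπ (Subgroup.inclusion hZJ z)
  set k := (z : Γ) * ((s : Γ))⁻¹
  have hzks : (z : Γ) = k * s := (inv_mul_cancel_right _ _).symm
  have hcom : Commute k (s : Γ) := by
    show k * s = s * k
    rw [← hzks]
    show (z : Γ) = (s : Γ) * ((z : Γ) * (s : Γ)⁻¹)
    rw [← mul_assoc, Subgroup.mem_center_iff.1 (hc z.2) (s : Γ), mul_inv_cancel_right]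
  have hsZ : (s : Γ) ∈ Z := by
    obtain ⟨n, hn1, hn2⟩ := Nat.chineseRemainder X.semi.cop 0 1
    have hkn : k ^ n = 1 := orderOf_dvd_iff_pow_eq_one.1 (((Subgroup.orderOf_coe (⟨k, hk⟩ : K)).symm ▸
      orderOf_dvd_natCard (⟨k, hk⟩ : K)).trans (Nat.modEq_zero_iff_dvd.1 hn1))
    have hsn : (s : Γ) ^ n = s := by
      have : (s : Γ) ^ n = (s : Γ) ^ 1 := pow_eq_pow_iff_modEq.2 (hn2.of_dvd (Subgroup.orderOf_coe s ▸
        orderOf_dvd_natCard s))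
      rwa [pow_one] at this
    have h1 : ((z : Γ)) ^ n = s := by rw [hzks, hcom.mul_pow, hkn, hsn, one_mul]
    exact h1 ▸ Z.pow_mem z.2 n
  have hkZ : k ∈ Z := Z.mul_mem z.2 (Z.inv_mem hsZ)
  have hkC : k ∈ C := X.op.fixed ▸ ⟨hk, Subgroup.mem_centralizer_iff.2 fun t _ =>
    Subgroup.mem_center_iff.1 (hc hkZ) t⟩
  have hroot : ∀ (m : Z →* ℂˣ) (z : Z), ∃ n, 0 < n ∧ m z ^ n = 1 := fun m z =>
    ⟨Nat.card Z, Nat.card_pos, by rw [← map_pow, pow_card_eq_one', map_one]⟩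
  rw [show z = (⟨k, hkZ⟩ : Z) * ⟨s, hsZ⟩ from Subtype.ext hzks, map_mul, map_mul]
  congr 1
  · refine scalar_eq X.op.le ((lies_iff_mu (Subgroup.inclusion X.op.le) θ φ).2 fun e => ?_) ⟨k, hkC⟩ _ _ (hroot μ' _)
      (fun g => ?_) fun g => ?_
    · obtain ⟨_, _, hd⟩ := a3
      exact hd (e ▸ dvd_zero p)
    · rw [← a1, ← a1, map_mul, ← hμ]
      rfl
    · rw [← a2, ← a2, map_mul, ← hμ']
      rfl
  · have e1 : detChar (ψ : J → ℂ) (Subgroup.inclusion X.semi.leS s) =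
        (μ ⟨s, hsZ⟩ : ℂ) ^ charDegree (θ : K → ℂ) := by
      rw [← detChar_linearMul (χ := fun w : Z => (ψ : J → ℂ) (Subgroup.inclusion hZJ w)) μ (fun w => by
        show (ψ : J → ℂ) (Subgroup.inclusion hZJ w) = _
        have := hμ w 1
        rw [mul_one, apply_one ψ.2, charDegree_of_res _ a1] at this
        rw [this, mul_comm]) ⟨s, hsZ⟩, detChar_comp (isCharacter_of_irr ψ.2)]
      rfl
    have e2 : detChar (ψ' : J' → ℂ) (Subgroup.inclusion X.semi'.leS s) =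
        (μ' ⟨s, hsZ⟩ : ℂ) ^ charDegree (φ : C → ℂ) := by
      rw [← detChar_linearMul (χ := fun w : Z => (ψ' : J' → ℂ) (Subgroup.inclusion hZJ' w)) μ' (fun w => by
        show (ψ' : J' → ℂ) (Subgroup.inclusion hZJ' w) = _
        have := hμ' w 1
        rw [mul_one, apply_one ψ'.2, charDegree_of_res _ a2] at this
        rw [this, mul_comm]) ⟨s, hsZ⟩, detChar_comp (isCharacter_of_irr ψ'.2)]
      rfl
    have e := a4 s
    rw [e1, e2, ← pow_mul, ← pow_mul, ← Units.val_pow_eq_pow_val, ← Units.val_pow_eq_pow_val, Units.val_inj,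
      mul_comm (charDegree (φ : C → ℂ))] at e
    have hS1 : (⟨s, hsZ⟩ : Z) ^ Nat.card S = 1 := Subtype.ext (by
      have : s ^ Nat.card S = 1 := pow_card_eq_one'
      have h2 := congrArg Subtype.val this
      rw [SubgroupClass.coe_pow, Subgroup.coe_one] at h2 ⊢
      exact h2)
    refine eq_of_pow (m := Nat.card S) ?_ e ((X.semi.deg_cop θ.2).mul_right (X.semi'.deg_cop φ.2))
    rw [← map_pow, ← map_pow, hS1, map_one, map_one]

end Crit

end CfsgLib.RelMcKay
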