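import Cfsg.Agent.Lib.RelMcKay.Ext
import Cfsg.Agent.Lib.CharTheory.More

/-!
Characters of degree prime to `p` of a `p'`-group extended by a `p`-group, through determinants.
-/

set_option autoImplicit false
set_option linter.style.haveILetI false
set_option linter.unusedSectionVars false

namespace CfsgLib.RelMcKay

open Cfsg CfsgLib.CharTheory CfsgLib.Glauberman CfsgLib.Glauberman.NormalSylow

universe u v

/-- Roots of unity of coprime orders. -/
theorem eq_one_of_pow {M : Type u} [Monoid M] {a : M} {m n : ℕ} (hm : a ^ m = 1) (hn : a ^ n = 1)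
    (h : m.Coprime n) : a = 1 :=
  orderOf_eq_one_iff.1 (Nat.eq_one_of_dvd_coprimes h (orderOf_dvd_of_pow_eq_one hm) (orderOf_dvd_of_pow_eq_one hn))

/-- The determinant of the character of a composition. -/
theorem detChar_comp {A : Type u} {B : Type v} [Group A] [Finite A] [Group B] [Finite B] {χ : B → ℂ}
    (hχ : IsCharacter B χ) (f : A →* B) (a : A) : detChar (fun x => χ (f x)) a = detChar χ (f a) := by
  obtain ⟨m, ρ, rfl⟩ := hχ
  rw [show (fun x => ρ.character (f x)) =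
    Representation.character (ρ.comp f : Representation ℂ A (Fin m → ℂ)) from rfl, detChar_eq, detChar_eq]
  rfl

/-- The determinant as a homomorphism. -/
theorem exists_detHom {A : Type u} [Group A] [Finite A] {χ : A → ℂ} (hχ : IsCharacter A χ) :
    ∃ D : A →* ℂˣ, ∀ a, detChar χ a = (D a : ℂ) := by
  obtain ⟨m, ρ, rfl⟩ := hχ
  exact ⟨detHom ρ, congrFun (detChar_eq ρ)⟩

theorem detChar_pow {A : Type u} [Group A] [Finite A] {χ : A → ℂ} (hχ : IsCharacter A χ) (a : A) (n : ℕ) :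
    detChar χ (a ^ n) = detChar χ a ^ n := by
  obtain ⟨D, hD⟩ := exists_detHom hχ
  rw [hD, hD, map_pow, Units.val_pow_eq_pow_val]

theorem detChar_linearMul {A : Type u} [Group A] [Finite A] {χ : A → ℂ} (μ : A →* ℂˣ) {d : ℕ}
    (h : ∀ a, χ a = (d : ℂ) * (μ a : ℂ)) (a : A) : detChar χ a = (μ a : ℂ) ^ d := by
  let R : Representation ℂ A (Fin d → ℂ) :=
    { toFun := fun g => (μ g : ℂ) • LinearMap.id
      map_one' := by rw [map_one, Units.val_one, one_smul]; rfl
      map_mul' := fun a b => by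
        rw [map_mul, Units.val_mul, smul_mul_assoc, mul_smul_comm, smul_smul]
        rfl }
  have hR : R.character = χ := funext fun g => by
    rw [h]
    show LinearMap.trace ℂ _ ((μ g : ℂ) • (LinearMap.id : (Fin d → ℂ) →ₗ[ℂ] (Fin d → ℂ))) = _
    rw [map_smul, LinearMap.trace_id, Module.finrank_fin_fun, smul_eq_mul, mul_comm]
  rw [← hR, detChar_eq]
  show (detHom R a : ℂ) = _
  rw [coe_detHom, show R a = (μ a : ℂ) • (LinearMap.id : (Fin d → ℂ) →ₗ[ℂ] (Fin d → ℂ)) from rfl, LinearMap.det_smul,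
    LinearMap.det_id, mul_one, Module.finrank_fin_fun]

theorem charDegree_of_res {A : Type u} {B : Type v} [Group A] [Group B] (ι : A →* B) {χ : B → ℂ} {θ : A → ℂ}
    (h : ∀ a, χ (ι a) = θ a) : charDegree χ = charDegree θ := by
  have h1 := h 1
  rw [map_one] at h1
  unfold charDegree
  rw [h1]

variable {Γ : Type u} [Group Γ] [Finite Γ] {p : ℕ}

/-- `J` is the extension of the `p'`-group `K` by the `p`-group `S`. -/
structure Semi (p : ℕ) (S K J : Subgroup Γ) : Prop where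
  pgroup : IsPGroup p S
  coprime : ¬ p ∣ Nat.card K
  norm : S ≤ Subgroup.normalizer (K : Set Γ)
  eq : J = K ⊔ S

namespace Semi

variable [Fact p.Prime] {S K J : Subgroup Γ} (h : Semi p S K J)

include h

theorem leK : K ≤ J := h.eq ▸ le_sup_left

theorem leS : S ≤ J := h.eq ▸ le_sup_right

theorem norm' : J ≤ Subgroup.normalizer (K : Set Γ) := h.eq ▸ sup_le Subgroup.le_normalizer h.norm

theorem cop : (Nat.card K).Coprime (Nat.card S) := by
  obtain ⟨n, hn⟩ := IsPGroup.iff_card.1 h.pgroup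
  rw [hn]
  exact (((Fact.out : p.Prime).coprime_iff_not_dvd.2 h.coprime).symm).pow_right n

/-- The projection onto `S`. -/
theorem exists_proj : ∃ π : J →* S, (∀ s : S, π (Subgroup.inclusion h.leS s) = s) ∧
    (∀ k : K, π (Subgroup.inclusion h.leK k) = 1) ∧ ∀ g : J, (g : Γ) * ((π g : S) : Γ)⁻¹ ∈ K := by
  haveI := normal_of_le h.leK h.norm'
  let j : S →* J ⧸ K.subgroupOf J := (QuotientGroup.mk' _).comp (Subgroup.inclusion h.leS)
  have hj : Function.Bijective j := by
    refine ⟨(injective_iff_map_eq_one j).2 fun s hs => ?_, fun z => ?_⟩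
    · have h1 : (s : Γ) ∈ K := Subgroup.mem_subgroupOf.1 ((QuotientGroup.eq_one_iff (Subgroup.inclusion h.leS s)).1 hs)
      exact Subtype.ext (Subgroup.disjoint_def.1 (Subgroup.disjoint_of_coprime_natCard h.cop) h1 s.2)
    · obtain ⟨⟨g, hg⟩, rfl⟩ := QuotientGroup.mk'_surjective _ z
      obtain ⟨k, hk, s, hs, rfl⟩ := mem_sup_of_le_normalizer h.norm (h.eq ▸ hg : g ∈ K ⊔ S)
      refine ⟨⟨s, hs⟩, ?_⟩
      refine QuotientGroup.eq.mpr (Subgroup.mem_subgroupOf.2 ?_)
      show s⁻¹ * (k * s) ∈ K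
      rw [← mul_assoc]
      exact norm_conj' (h.norm hs) hk
  let e := MulEquiv.ofBijective j hj
  refine ⟨e.symm.toMonoidHom.comp (QuotientGroup.mk' _), fun s => e.symm_apply_apply s, fun k => ?_, fun g => ?_⟩
  · show e.symm (QuotientGroup.mk' _ (Subgroup.inclusion h.leK k)) = 1
    rw [show QuotientGroup.mk' (K.subgroupOf J) (Subgroup.inclusion h.leK k) = 1 from
      (QuotientGroup.eq_one_iff _).2 (Subgroup.mem_subgroupOf.2 k.2), map_one]
  · have h1 : j (e.symm (QuotientGroup.mk' _ g)) = QuotientGroup.mk' _ g := e.apply_symm_apply _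
    have h2 := Subgroup.mem_subgroupOf.1 (QuotientGroup.eq.1 h1)
    have h3 : ((e.symm (QuotientGroup.mk' (K.subgroupOf J) g) : S) : Γ)⁻¹ * (g : Γ) ∈ K := h2
    have h4 := norm_conj (h.norm (e.symm (QuotientGroup.mk' (K.subgroupOf J) g)).2) h3
    rw [← mul_assoc, mul_inv_cancel, one_mul] at h4
    exact h4

theorem index_dvd : (K.subgroupOf J).index ∣ Nat.card S := by
  obtain ⟨π, -, -, hk⟩ := h.exists_proj
  refine dvd_trans ?_ (Subgroup.card_subgroup_dvd_card π.range)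
  have hker : π.ker ≤ K.subgroupOf J := fun g hg => Subgroup.mem_subgroupOf.2 (by
    have := hk g
    rwa [MonoidHom.mem_ker.1 hg, Subgroup.coe_one, inv_one, mul_one] at this)
  rw [← Subgroup.index_ker]
  exact Subgroup.index_dvd_of_le hker

theorem deg_cop {θ : K → ℂ} (hθ : IsIrrCharacter K θ) : (Nat.card S).Coprime (charDegree θ) :=
  h.cop.symm.coprime_dvd_right ((charDegree_dvd_index_kernel hθ).trans (Subgroup.index_dvd_card _))

theorem deg_not_dvd {θ : K → ℂ} (hθ : IsIrrCharacter K θ) : ¬ p ∣ charDegree θ := fun hd =>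
  h.coprime (hd.trans ((charDegree_dvd_index_kernel hθ).trans (Subgroup.index_dvd_card _)))

theorem stab_le {θ : IrrCharacter K} (hθ : InvS S K (θ : K → ℂ)) : J ≤ stab K (θ : K → ℂ) :=
  h.eq ▸ sup_le (le_stab θ) ((invS_iff h.norm _).1 hθ)

/-- Restriction of a character of degree prime to `p`. -/
theorem exists_res (ψ : IrrCharacter J) (hd : ¬ p ∣ charDegree (ψ : J → ℂ)) :
    ∃ θ : IrrCharacter K, InvS S K (θ : K → ℂ) ∧
      ∀ k : K, (ψ : J → ℂ) (Subgroup.inclusion h.leK k) = (θ : K → ℂ) k := by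
  haveI := normal_of_le h.leK h.norm'
  obtain ⟨θ, hl⟩ := exists_lies (Subgroup.inclusion h.leK) ψ.2
  have hθ' := isIrr_down' h.leK θ.2
  have hl' := (lies_down h.leK _ _).1 hl
  have hpS : ∀ d, d ∣ Nat.card S → ¬ p ∣ d → d = 1 := fun d hd hnd => by
    obtain ⟨n, hn⟩ := IsPGroup.iff_card.1 h.pgroup
    rw [hn] at hd
    obtain ⟨i, -, rfl⟩ := (Nat.dvd_prime_pow Fact.out).1 hd
    rcases i with _ | i
    · exact pow_zero p
    · exact absurd (dvd_pow_self p (Nat.succ_ne_zero i)) hnd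
  have hI : inertia (K.subgroupOf J) (down J (θ : K → ℂ)) = ⊤ := by
    refine Subgroup.index_eq_one.1 (hpS _ ?_ fun hp => hd (hp.trans ((Dvd.intro _ rfl).trans
      (dvd_degree (K.subgroupOf J) hθ' ψ.2 hl'))))
    exact (Subgroup.index_dvd_of_le (le_inertia _ (isClassFunction_irr hθ'))).trans h.index_dvd
  have hinv : Invariant (K.subgroupOf J) (down J (θ : K → ℂ)) := fun g =>
    (mem_inertia _).1 (hI.symm ▸ Subgroup.mem_top g)
  obtain ⟨e, -, hde, hdvd, hres⟩ := res_eq (K.subgroupOf J) hθ' hinv ψ.2 hl'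
  have he : e = 1 := hpS e (hdvd.trans h.index_dvd) fun hp => hd (hde ▸ hp.mul_right _)
  have hres' : ∀ k : K, (ψ : J → ℂ) (Subgroup.inclusion h.leK k) = (θ : K → ℂ) k := fun k => by
    have h1 : (ψ : J → ℂ) (Subgroup.inclusion h.leK k) = (e : ℂ) * (θ : K → ℂ) k :=
      hres ⟨Subgroup.inclusion h.leK k, Subgroup.mem_subgroupOf.2 k.2⟩
    rwa [he, Nat.cast_one, one_mul] at h1
  refine ⟨θ, fun s hs k k' e' => ?_, hres'⟩
  rw [← hres' k', ← hres' k, show Subgroup.inclusion h.leK k' = ⟨s, h.leS hs⟩ * Subgroup.inclusion h.leK k *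
    ⟨s, h.leS hs⟩⁻¹ from Subtype.ext e']
  exact isClassFunction_irr ψ.2 _ _

/-- An extension with prescribed determinant on `S`. -/
theorem exists_ext (θ : IrrCharacter K) (hθ : InvS S K (θ : K → ℂ)) (η : S →* ℂˣ) :
    ∃ ψ : IrrCharacter J, (∀ k : K, (ψ : J → ℂ) (Subgroup.inclusion h.leK k) = (θ : K → ℂ) k) ∧
      ∀ s : S, detChar (ψ : J → ℂ) (Subgroup.inclusion h.leS s) = (η s : ℂ) := by
  haveI := normal_of_le h.leK h.norm'
  obtain ⟨π, hπS, hπK, hπ⟩ := h.exists_proj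
  obtain ⟨D, hD⟩ := exists_detHom (isCharacter_of_irr θ.2)
  have hDinv : ∀ g ∈ J, ∀ k k' : K, (k' : Γ) = g * k * g⁻¹ → D k' = D k := by
    intro g hg k k' e
    let c := act J K h.norm' ⟨g, hg⟩
    have hk' : k' = c k := Subtype.ext (e.trans (act_apply J K h.norm' ⟨g, hg⟩ k).symm)
    have hθc : (fun x => (θ : K → ℂ) (c.toMonoidHom x)) = (θ : K → ℂ) := funext fun x =>
      (h.stab_le hθ hg).2 x _ (act_apply J K h.norm' ⟨g, hg⟩ x)
    have h1 := detChar_comp (isCharacter_of_irr θ.2) c.toMonoidHom k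
    rw [hθc, hD, hD] at h1
    rw [hk']
    exact (Units.ext h1).symm
  let κ : J → K := fun g => ⟨_, hπ g⟩
  let μ : J →* ℂˣ :=
    { toFun := fun g => D (κ g) * η (π g)
      map_one' := by
        rw [map_one, map_one, mul_one, show κ 1 = 1 from Subtype.ext (by simp [κ]), map_one]
      map_mul' := fun a b => by
        have hk : κ (a * b) = κ a * ⟨((π a : S) : Γ) * (κ b : Γ) * ((π a : S) : Γ)⁻¹,
            norm_conj (h.norm (π a).2) (κ b).2⟩ := Subtype.ext (by simp [κ, mul_assoc])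
        rw [hk, map_mul, map_mul, map_mul, hDinv _ (h.leS (π a).2) (κ b) ⟨((π a : S) : Γ) * (κ b : Γ) * ((π a : S) : Γ)⁻¹,
            norm_conj (h.norm (π a).2) (κ b).2⟩ rfl]
        exact mul_mul_mul_comm _ _ _ _ }
  have hcop : (K.subgroupOf J).index.Coprime (charDegree (θ : K → ℂ)) :=
    (h.deg_cop θ.2).coprime_dvd_left h.index_dvd
  obtain ⟨ψ, hψ, hres, hdet⟩ := exists_extension_det (isIrr_down' h.leK θ.2)
    ((invariant_iff _ _).1 (invariant_down h.leK h.norm' _ (h.stab_le hθ)))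
    (show down J (θ : K → ℂ) 1 = (charDegree (θ : K → ℂ) : ℂ) from apply_one (H := K) (χ := (θ : K → ℂ)) θ.2) hcop μ fun x => by
      obtain ⟨k, rfl⟩ : ∃ k : K, x = (Subgroup.subgroupOfEquivOfLe h.leK).symm k :=
        ⟨_, (MulEquiv.symm_apply_apply _ x).symm⟩
      have h1 := detChar_comp (isCharacter_of_irr θ.2) (Subgroup.subgroupOfEquivOfLe h.leK).toMonoidHom
        ((Subgroup.subgroupOfEquivOfLe h.leK).symm k)
      have h2 : (Subgroup.subgroupOfEquivOfLe h.leK).toMonoidHom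
          ((Subgroup.subgroupOfEquivOfLe h.leK).symm k) = k := MulEquiv.apply_symm_apply _ k
      rw [h2, hD] at h1
      refine Eq.trans ?_ h1.symm
      show ((D (κ (Subgroup.inclusion h.leK k)) * η (π (Subgroup.inclusion h.leK k)) : ℂˣ) : ℂ) = _
      rw [hπK, map_one, mul_one]
      congr 2
      apply Subtype.ext
      simp [κ, hπK]
  refine ⟨⟨ψ, hψ⟩, fun k => hres ⟨Subgroup.inclusion h.leK k, Subgroup.mem_subgroupOf.2 k.2⟩, fun s => ?_⟩
  show detChar ψ _ = _
  rw [hdet]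
  show ((D (κ (Subgroup.inclusion h.leS s)) * η (π (Subgroup.inclusion h.leS s)) : ℂˣ) : ℂ) = _
  rw [hπS, show κ (Subgroup.inclusion h.leS s) = 1 from Subtype.ext (by simp [κ, hπS]), map_one, one_mul]

/-- Uniqueness of that extension. -/
theorem ext_unique (θ : IrrCharacter K) (ψ ψ' : IrrCharacter J)
    (h1 : ∀ k : K, (ψ : J → ℂ) (Subgroup.inclusion h.leK k) = (θ : K → ℂ) k)
    (h2 : ∀ k : K, (ψ' : J → ℂ) (Subgroup.inclusion h.leK k) = (θ : K → ℂ) k)
    (hS : ∀ s : S, detChar (ψ : J → ℂ) (Subgroup.inclusion h.leS s) =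
      detChar (ψ' : J → ℂ) (Subgroup.inclusion h.leS s)) : ψ = ψ' := by
  haveI := normal_of_le h.leK h.norm'
  obtain ⟨D, hD⟩ := exists_detHom (isCharacter_of_irr ψ.2)
  obtain ⟨D', hD'⟩ := exists_detHom (isCharacter_of_irr ψ'.2)
  have hdet : detChar (ψ' : J → ℂ) = detChar (ψ : J → ℂ) := by
    funext g
    obtain ⟨k, hk, s, hs, e⟩ := mem_sup_of_le_normalizer h.norm (h.eq ▸ g.2 : (g : Γ) ∈ K ⊔ S)
    have hg : g = Subgroup.inclusion h.leK ⟨k, hk⟩ * Subgroup.inclusion h.leS ⟨s, hs⟩ := Subtype.ext e.symm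
    have eK := (detChar_comp (isCharacter_of_irr ψ.2) (Subgroup.inclusion h.leK) ⟨k, hk⟩).symm
    have eK' := (detChar_comp (isCharacter_of_irr ψ'.2) (Subgroup.inclusion h.leK) ⟨k, hk⟩).symm
    rw [funext h1] at eK
    rw [funext h2] at eK'
    have eS := hS ⟨s, hs⟩
    rw [hD] at eK; rw [hD'] at eK'; rw [hD, hD'] at eS
    rw [hD, hD', hg, map_mul, map_mul, Units.val_mul, Units.val_mul, eK, eK', eS]
  refine (Subtype.ext (extension_det_unique (isIrr_down' h.leK θ.2)
    (show down J (θ : K → ℂ) 1 = (charDegree (θ : K → ℂ) : ℂ) from apply_one (H := K) (χ := (θ : K → ℂ)) θ.2)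
    ((h.deg_cop θ.2).coprime_dvd_left h.index_dvd) ψ.2
    (fun x => h1 ⟨((x : J) : Γ), Subgroup.mem_subgroupOf.1 x.2⟩) ψ'.2
    (fun x => h2 ⟨((x : J) : Γ), Subgroup.mem_subgroupOf.1 x.2⟩) hdet)).symm

end Semi

end CfsgLib.RelMcKay
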