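import Cfsg.Agent.Lib.RelMcKay.Basic

/-!
Replacing an invariant character of a normal subgroup by a linear character of a central subgroup.
-/

set_option autoImplicit false
set_option linter.style.haveILetI false

namespace CfsgLib.RelMcKay

open Cfsg CfsgLib.CharTheory

universe u

/-- Irreducible characters trivial on the kernel of a surjection factor through it. -/
theorem exists_factor {A B : Type u} [Group A] [Finite A] [Group B] (p : A →* B)
    (hp : Function.Surjective p) {χ : A → ℂ} (hχ : IsIrrCharacter A χ) (hk : ∀ a ∈ p.ker, χ a = χ 1) :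
    ∃ χ' : B → ℂ, IsIrrCharacter B χ' ∧ ∀ a, χ' (p a) = χ a := by
  obtain ⟨ψ, hψ, rfl⟩ := exists_quotient_irr p.ker hχ hk
  let e := QuotientGroup.quotientKerEquivOfSurjective p hp
  refine ⟨fun b => ψ (e.symm b), isIrrCharacter_comp_surjective hψ e.symm.toMonoidHom e.symm.surjective,
    fun a => ?_⟩
  show ψ (e.symm (p a)) = ψ _
  exact congrArg ψ (e.symm_apply_apply (a : A ⧸ p.ker))

variable {G : Type u} [Group G] [Finite G]

set_option maxHeartbeats 1000000 in
/-- The central replacement of `(G, N, θ)`. -/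
theorem exists_triple (N : Subgroup G) [N.Normal] {θ : N → ℂ} (hθ : IsIrrCharacter N θ)
    (hinv : Invariant N θ) :
    ∃ (Δ : Type u) (_ : Group Δ) (_ : Finite Δ) (q : Δ →* G ⧸ N) (lam : q.ker →* ℂˣ),
      Function.Surjective q ∧ q.ker ≤ Subgroup.center Δ ∧
      ∀ (H : Subgroup G) (θ' : N.subgroupOf H → ℂ), IsIrrCharacter (N.subgroupOf H) θ' →
        (∀ k : N.subgroupOf H, θ' k = θ ⟨((k : H) : G), Subgroup.mem_subgroupOf.mp k.2⟩) →
        ∀ P : ℕ → Prop, cnt (N.subgroupOf H).subtype θ' P =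
          cnt (Subgroup.inclusion (MonoidHom.ker_le_comap q (H.map (QuotientGroup.mk' N))))
            (fun z => (lam z : ℂ)) (fun d => P (charDegree θ * d)) := by
  classical
  have hdθ := apply_one hθ
  obtain ⟨m, ρ, hρ, rfl⟩ := id hθ
  have hinv' := invariant_of_rep rfl ((invariant_iff N _).mp hinv)
  have hμ : ∀ n : N, detHom ρ n ^ Nat.card N = (1 : G →* ℂˣ) n := fun n => by
    rw [MonoidHom.one_apply, ← map_pow, pow_card_eq_one', map_one]
  set k := Nat.card N with hk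
  have hk0 : k ≠ 0 := Nat.card_pos.ne'
  let π := extProj ρ (1 : G →* ℂˣ) k
  let i := extIncl ρ (1 : G →* ℂˣ) k hμ
  haveI : Finite (extGroup ρ (1 : G →* ℂˣ) k) := finite_extGroup hk0
  have hπ : Function.Surjective π := extProj_surjective hinv' hk0
  have hπi : ∀ n : N, π (i n) = n := fun n => rfl
  haveI : i.range.Normal := range_extIncl_normal hμ
  obtain ⟨f, hf⟩ := exists_scalar_hom (μ := (1 : G →* ℂˣ)) (k := k) (le_refl N) ρ (fun n => rfl)
  haveI : Nontrivial (Fin m → ℂ) := nontrivial_of_irr ρ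
  have hfi : ∀ n : N, f ⟨i n, by rw [Subgroup.mem_comap]; exact n.2⟩ = 1 := fun n => by
    apply scalarUnit_injective (V := Fin m → ℂ)
    have h := hf ⟨i n, by rw [Subgroup.mem_comap]; exact n.2⟩
    rw [map_one]
    exact mul_eq_right.mp h.symm
  have hlift : i.range ≤ ((QuotientGroup.mk' N).comp π).ker := by
    rintro _ ⟨n, rfl⟩
    rw [MonoidHom.mem_ker]
    exact (QuotientGroup.eq_one_iff _).mpr n.2
  let q : extGroup ρ (1 : G →* ℂˣ) k ⧸ i.range →* G ⧸ N :=
    QuotientGroup.lift i.range ((QuotientGroup.mk' N).comp π) hlift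
  have hq : ∀ γ, q (QuotientGroup.mk γ) = QuotientGroup.mk' N (π γ) := fun γ => rfl
  have hmem : ∀ γ, QuotientGroup.mk γ ∈ q.ker ↔ π γ ∈ N := fun γ => by
    rw [MonoidHom.mem_ker, hq]
    exact QuotientGroup.eq_one_iff _
  -- an element over `N` is a scalar element times an element of the copy of `N`
  have hdec : ∀ γ, π γ ∈ N → ∃ z, π z = 1 ∧ (QuotientGroup.mk γ : _ ⧸ i.range) = QuotientGroup.mk z := by
    intro γ hγ
    refine ⟨γ * (i ⟨π γ, hγ⟩)⁻¹, by rw [map_mul, map_inv, hπi, mul_inv_cancel], ?_⟩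
    rw [QuotientGroup.eq]
    exact ⟨(⟨π γ, hγ⟩ : N)⁻¹, by rw [map_inv]; group⟩
  let g : (N.comap π) →* q.ker :=
    ((QuotientGroup.mk' i.range).comp (N.comap π).subtype).codRestrict q.ker fun γ => (hmem _).mpr γ.2
  have hg : Function.Surjective g := by
    rintro ⟨d, hd⟩
    obtain ⟨γ, rfl⟩ := QuotientGroup.mk_surjective d
    exact ⟨⟨γ, (hmem γ).mp hd⟩, rfl⟩
  have hgk : g.ker ≤ f.ker := by
    intro γ hγ
    have h1 : (QuotientGroup.mk (γ : extGroup ρ (1 : G →* ℂˣ) k) : _ ⧸ i.range) = 1 :=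
      congrArg Subtype.val (MonoidHom.mem_ker.mp hγ)
    obtain ⟨n, hn⟩ := (QuotientGroup.eq_one_iff _).mp h1
    rw [MonoidHom.mem_ker, ← hfi n]
    exact congrArg f (Subtype.ext hn.symm)
  let lam : q.ker →* ℂˣ := (MonoidHom.liftOfSurjective g hg ⟨f, hgk⟩)⁻¹
  have hlam : ∀ γ : N.comap π, lam (g γ) = (f γ)⁻¹ := fun γ => by
    show (MonoidHom.liftOfSurjective g hg ⟨f, hgk⟩ (g γ))⁻¹ = _
    rw [show MonoidHom.liftOfSurjective g hg ⟨f, hgk⟩ (g γ) = f γ from
      MonoidHom.liftOfRightInverse_comp_apply _ _ _ ⟨f, hgk⟩ γ]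
  -- scalar elements
  have hscal : ∀ z, ∀ hz : π z = 1,
      z.1.2 = scalarUnit (Fin m → ℂ) (f ⟨z, by rw [Subgroup.mem_comap]; exact hz.symm ▸ N.one_mem⟩) := by
    intro z hz
    have h := hf ⟨z, by rw [Subgroup.mem_comap]; exact hz.symm ▸ N.one_mem⟩
    refine h.trans ?_
    rw [mul_eq_left]
    refine Eq.trans (congrArg (repUnits ρ) ?_) (map_one _)
    exact Subtype.ext hz
  refine ⟨_, inferInstance, inferInstance, q, lam, ?_, ?_, ?_⟩
  · intro x
    obtain ⟨y, rfl⟩ := QuotientGroup.mk_surjective x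
    obtain ⟨γ, rfl⟩ := hπ y
    exact ⟨QuotientGroup.mk γ, rfl⟩
  · intro d hd
    obtain ⟨γ, rfl⟩ := QuotientGroup.mk_surjective d
    obtain ⟨z, hz, e⟩ := hdec γ ((hmem γ).mp hd)
    rw [Subgroup.mem_center_iff, e]
    intro x
    obtain ⟨x, rfl⟩ := QuotientGroup.mk_surjective x
    rw [← QuotientGroup.mk_mul, ← QuotientGroup.mk_mul]
    congr 1
    apply Subtype.ext
    refine Prod.ext ?_ ?_
    · show x.1.1 * z.1.1 = z.1.1 * x.1.1
      rw [show z.1.1 = 1 from hz, mul_one, one_mul]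
    · show x.1.2 * z.1.2 = z.1.2 * x.1.2
      rw [hscal z hz, scalarUnit_comm]
  intro H θ' hθ' hθ'eq P
  set D := (H.map (QuotientGroup.mk' N)).comap q with hD
  set ΓH := H.comap π with hΓH
  let πH : ΓH →* H := (π.comp ΓH.subtype).codRestrict H fun γ => γ.2
  have hπH : Function.Surjective πH := by
    rintro ⟨h, hh⟩
    obtain ⟨γ, rfl⟩ := hπ h
    exact ⟨⟨γ, hh⟩, rfl⟩
  let p : ΓH →* D := ((QuotientGroup.mk' i.range).comp ΓH.subtype).codRestrict D fun γ =>
    ⟨π γ, γ.2, rfl⟩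
  have hp : Function.Surjective p := by
    rintro ⟨d, hd⟩
    obtain ⟨γ, rfl⟩ := QuotientGroup.mk_surjective d
    obtain ⟨h, hh, e⟩ := hd
    have hn : h⁻¹ * π γ ∈ N := QuotientGroup.eq.mp e
    refine ⟨⟨γ * (i ⟨_, hn⟩)⁻¹, ?_⟩, Subtype.ext ?_⟩
    · rw [Subgroup.mem_comap, map_mul, map_inv, hπi]
      simpa using hh
    · show (QuotientGroup.mk (γ * (i ⟨_, hn⟩)⁻¹) : _ ⧸ i.range) = QuotientGroup.mk γ
      rw [QuotientGroup.eq]
      exact ⟨⟨_, hn⟩, by group⟩
  let K := N.subgroupOf H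
  let jK : K →* ΓH := (i.comp ((H.subtype.comp K.subtype).codRestrict N
    fun k => Subgroup.mem_subgroupOf.mp k.2)).codRestrict ΓH fun k => (k : H).2
  have hjπ : ∀ k, πH (jK k) = (k : H) := fun k => rfl
  let Rc : ΓH → ℂ := fun γ => (extRep ρ (1 : G →* ℂˣ) k).character (γ : extGroup ρ (1 : G →* ℂˣ) k)
  have hRc : IsCharacter ΓH Rc := isCharacter_comp (isCharacter_character _) ΓH.subtype
  have hRcj : ∀ x, Rc (jK x) = θ' x := fun x => by
    rw [hθ'eq]
    rfl
  let Kh := jK.range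
  have hKh : Kh = i.range.subgroupOf ΓH := by
    ext γ
    constructor
    · rintro ⟨x, rfl⟩; exact ⟨_, rfl⟩
    · rintro ⟨n, hn⟩
      have hnH : (n : G) ∈ H := by
        rw [← hπi n, hn]
        exact γ.2
      exact ⟨⟨⟨n, hnH⟩, Subgroup.mem_subgroupOf.mpr n.2⟩, Subtype.ext hn⟩
  haveI hKn : Kh.Normal := hKh ▸ Subgroup.normal_subgroupOf
  have hpk : ∀ γ, p γ = 1 ↔ γ ∈ Kh := fun γ => by
    rw [hKh, Subgroup.mem_subgroupOf, ← QuotientGroup.eq_one_iff]
    exact ⟨congrArg Subtype.val, fun h => Subtype.ext h⟩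
  have hjinj : Function.Injective jK := fun a b h => by
    have := congrArg πH h
    rw [hjπ, hjπ] at this
    exact Subtype.ext this
  let eK : K ≃* Kh := MonoidHom.ofInjective hjinj
  haveI := Fintype.ofFinite ΓH
  haveI := Fintype.ofFinite D
  haveI := Fintype.ofFinite Kh
  haveI := Fintype.ofFinite K
  have hres : IsIrrCharacter Kh (fun x : Kh => Rc x) := by
    have e : (fun x : Kh => Rc x) = fun x => θ' (eK.symm x) := funext fun x => by
      obtain ⟨x, rfl⟩ := eK.surjective x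
      rw [MulEquiv.symm_apply_apply]
      exact hRcj x
    rw [e]
    exact isIrrCharacter_comp_surjective hθ' eK.symm.toMonoidHom eK.symm.surjective
  obtain ⟨hG1, hG2, hG3⟩ := gallagher Kh hRc hres
  have hθ1 : θ' 1 = (charDegree ρ.character : ℂ) := by
    rw [hθ'eq, ← hdθ]
    rfl
  have hRc1 : Rc 1 = (charDegree ρ.character : ℂ) := by
    rw [← hθ1, ← hRcj 1, map_one]
  -- values at scalar elements
  have hRcz : ∀ (z : ΓH) (hz : π z = 1) (γ : ΓH),
      Rc (z * γ) = (f ⟨z, by rw [Subgroup.mem_comap]; exact hz.symm ▸ N.one_mem⟩ : ℂ) * Rc γ := by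
    intro z hz γ
    show LinearMap.trace ℂ _ (((z : extGroup ρ (1 : G →* ℂˣ) k).1.2 *
      (γ : extGroup ρ (1 : G →* ℂˣ) k).1.2 : (Module.End ℂ (Fin m → ℂ))ˣ) :
        Module.End ℂ (Fin m → ℂ)) = _
    rw [hscal z hz, Units.val_mul, coe_scalarUnit, smul_mul_assoc, one_mul, map_smul, smul_eq_mul]
    rfl
  -- the preimage of the kernel
  let zq : (z : ΓH) → π z = 1 → q.ker := fun z hz =>
    g ⟨z, by rw [Subgroup.mem_comap]; exact hz.symm ▸ N.one_mem⟩
  have hpz : ∀ (z : ΓH) (hz : π z = 1),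
      p z = Subgroup.inclusion (MonoidHom.ker_le_comap q _) (zq z hz) := fun z hz => Subtype.ext rfl
  have hzsurj : ∀ d : q.ker, ∃ (z : ΓH) (hz : π z = 1), zq z hz = d := by
    rintro ⟨d, hd⟩
    obtain ⟨γ, rfl⟩ := QuotientGroup.mk_surjective d
    obtain ⟨z, hz, e⟩ := hdec γ ((hmem γ).mp hd)
    exact ⟨⟨z, by rw [Subgroup.mem_comap, hz]; exact H.one_mem⟩, hz, Subtype.ext e.symm⟩
  let ι := Subgroup.inclusion (MonoidHom.ker_le_comap q (H.map (QuotientGroup.mk' N)))
  have hιn : q.ker.subgroupOf D ≤ Subgroup.center D := fun x hx => Subgroup.mem_center_iff.mpr fun y => by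
    obtain ⟨γ, hγ⟩ := QuotientGroup.mk_surjective (x : _ ⧸ i.range)
    obtain ⟨z, hz, e⟩ := hdec γ ((hmem γ).mp (hγ ▸ Subgroup.mem_subgroupOf.mp hx))
    apply Subtype.ext
    show (y : _ ⧸ i.range) * x = x * y
    obtain ⟨w, hw⟩ := QuotientGroup.mk_surjective (y : _ ⧸ i.range)
    rw [← hw, ← hγ, e, ← QuotientGroup.mk_mul, ← QuotientGroup.mk_mul]
    congr 1
    apply Subtype.ext
    refine Prod.ext ?_ ?_
    · show w.1.1 * z.1.1 = z.1.1 * w.1.1
      rw [show z.1.1 = 1 from hz, mul_one, one_mul]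
    · show w.1.2 * z.1.2 = z.1.2 * w.1.2
      rw [hscal z hz, scalarUnit_comm]
  haveI hDn : (q.ker.subgroupOf D).Normal := Subgroup.normal_subgroupOf
  have hliesD : ∀ β : D → ℂ, IsIrrCharacter D β →
      (Lies ι (fun z => (lam z : ℂ)) β ↔ ∀ z : q.ker, β (ι z) = β 1 * (lam z : ℂ)) := by
    intro β hβ
    let e : q.ker ≃* q.ker.subgroupOf D :=
      (Subgroup.subgroupOfEquivOfLe (MonoidHom.ker_le_comap q _)).symm
    let lam' : q.ker.subgroupOf D →* ℂˣ := lam.comp e.symm.toMonoidHom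
    have h := lies_congr (ι := ι) (ι' := (q.ker.subgroupOf D).subtype) e (MulEquiv.refl D) (fun z => rfl)
      (fun z => (lam' z : ℂ)) β
    have e1 : (fun z => ((lam' (e z) : ℂˣ) : ℂ)) = fun z => (lam z : ℂ) := funext fun z => by
      show ((lam (e.symm (e z)) : ℂˣ) : ℂ) = _
      rw [MulEquiv.symm_apply_apply]
    rw [e1] at h
    rw [show Lies ι (fun z => (lam z : ℂ)) β ↔ _ from h, lies_central _ hιn lam' hβ]
    constructor
    · intro h z
      have := h (e z)
      rw [congrFun e1 z] at this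
      exact this
    · intro h z
      obtain ⟨z, rfl⟩ := e.surjective z
      rw [congrFun e1 z]
      exact h z
  have hKliesH : ∀ χ : H → ℂ, Lies K.subtype θ' χ ↔
      classInner (fun x : Kh => χ (πH x)) (fun x : Kh => Rc x) ≠ 0 := by
    intro χ
    rw [lies_iff]
    unfold classInner
    rw [Nat.card_congr eK.toEquiv, Fintype.sum_equiv eK.toEquiv (fun a : K => χ (K.subtype a) * (starRingEnd ℂ) (θ' a))
      (fun a : Kh => χ (πH a) * (starRingEnd ℂ) (Rc a)) fun a => by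
        show _ = χ (πH (jK a)) * (starRingEnd ℂ) (Rc (jK a))
        rw [hjπ, hRcj]
        rfl]
  -- from `D` to `H`
  have hfwd : ∀ β : D → ℂ, IsIrrCharacter D β → Lies ι (fun z => (lam z : ℂ)) β →
      ∃ χ : H → ℂ, IsIrrCharacter H χ ∧ Lies K.subtype θ' χ ∧
        (∀ γ, χ (πH γ) = β (p γ) * Rc γ) ∧ charDegree χ = charDegree ρ.character * charDegree β := by
    intro β hβ hl
    have hl' := (hliesD β hβ).mp hl
    have hβp : IsIrrCharacter ΓH (fun γ => β (p γ)) := isIrrCharacter_comp_surjective hβ p hp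
    have hker : ∀ x ∈ Kh, (fun γ => β (p γ)) x = (fun γ => β (p γ)) 1 := fun x hx => by
      show β (p x) = β (p 1)
      rw [(hpk x).mpr hx, map_one]
    have hprod := hG1 _ hβp hker
    obtain ⟨χ, hχ, e⟩ := exists_factor πH hπH hprod (fun z hz => by
      have hz1 : π z = 1 := congrArg Subtype.val (MonoidHom.mem_ker.mp hz)
      show β (p z) * Rc z = β (p 1) * Rc 1
      have h1 := hRcz z hz1 1
      rw [mul_one] at h1
      rw [h1, hpz z hz1, hl', hlam, map_one, ← mul_assoc, mul_assoc (β 1), ← Units.val_mul,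
        inv_mul_cancel, Units.val_one, mul_one])
    refine ⟨χ, hχ, ?_, fun γ => e γ, ?_⟩
    · rw [hKliesH, show (fun x : Kh => χ (πH x)) = β 1 • fun x : Kh => Rc x from funext fun x => by
        rw [e]
        show β (p x) * Rc x = β 1 * Rc x
        rw [(hpk x).mpr x.2], classInner_smul_left, classInner_irr_self hres, mul_one]
      exact irr_ne_zero hβ
    · have h1 := e 1
      rw [map_one, apply_one hχ] at h1
      rw [Pi.mul_apply, map_one, apply_one hβ, hRc1, ← Nat.cast_mul, Nat.cast_inj, mul_comm] at h1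
      exact h1
  let F : {β : IrrCharacter D // P (charDegree ρ.character * charDegree (β : D → ℂ)) ∧
        Lies ι (fun z => (lam z : ℂ)) (β : D → ℂ)} →
      {χ : IrrCharacter H // P (charDegree (χ : H → ℂ)) ∧ Lies K.subtype θ' (χ : H → ℂ)} := fun β =>
    ⟨⟨_, (hfwd _ β.1.2 β.2.2).choose_spec.1⟩, by
      rw [(hfwd _ β.1.2 β.2.2).choose_spec.2.2.2]; exact β.2.1,
      (hfwd _ β.1.2 β.2.2).choose_spec.2.1⟩
  have hF : ∀ β γ, ((F β).1 : H → ℂ) (πH γ) = (β.1 : D → ℂ) (p γ) * Rc γ := fun β =>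
    (hfwd _ β.1.2 β.2.2).choose_spec.2.2.1
  symm
  refine Nat.card_eq_of_bijective F ⟨fun a b hab => ?_, fun χ => ?_⟩
  · apply Subtype.ext; apply Subtype.ext
    funext d
    obtain ⟨γ, rfl⟩ := hp d
    refine congrFun (hG2 (fun γ => (a.1 : D → ℂ) (p γ)) (fun γ => (b.1 : D → ℂ) (p γ))
      (isIrrCharacter_comp_surjective a.1.2 p hp) (fun x hx => ?_)
      (isIrrCharacter_comp_surjective b.1.2 p hp) (fun x hx => ?_) ?_) γ
    · show (a.1 : D → ℂ) (p x) = (a.1 : D → ℂ) (p 1)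
      rw [(hpk x).mpr hx, map_one]
    · show (b.1 : D → ℂ) (p x) = (b.1 : D → ℂ) (p 1)
      rw [(hpk x).mpr hx, map_one]
    · funext γ
      show (a.1 : D → ℂ) (p γ) * Rc γ = (b.1 : D → ℂ) (p γ) * Rc γ
      rw [← hF, ← hF, hab]
  · obtain ⟨⟨χ, hχ⟩, hP, hl⟩ := χ
    have hχπ : IsIrrCharacter ΓH (fun γ => χ (πH γ)) := isIrrCharacter_comp_surjective hχ πH hπH
    obtain ⟨β', hβ', hk', e⟩ := hG3 _ hχπ ((hKliesH χ).mp hl)
    obtain ⟨β, hβ, eβ⟩ := exists_factor p hp hβ' fun x hx => hk' x ((hpk x).mp (MonoidHom.mem_ker.mp hx))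
    have e' : ∀ γ, χ (πH γ) = β (p γ) * Rc γ := fun γ => by rw [eβ]; exact congrFun e γ
    have hl2 : Lies ι (fun z => (lam z : ℂ)) β := by
      rw [hliesD β hβ]
      intro d
      obtain ⟨z, hz, rfl⟩ := hzsurj d
      have h1 := e' z
      rw [show πH z = 1 from Subtype.ext hz, show Rc z = Rc (z * 1) from by rw [mul_one], hRcz z hz,
        hpz z hz, ← map_one πH, e' 1, map_one] at h1
      have hne : Rc 1 ≠ 0 := by
        rw [hRc1]; exact Nat.cast_ne_zero.mpr (charDegree_pos hθ).ne'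
      show β (ι (zq z hz)) = _
      rw [hlam, Units.val_inv_eq_inv_val, eq_mul_inv_iff_mul_eq₀ (Units.ne_zero _)]
      apply mul_right_cancel₀ hne
      rw [h1, mul_assoc]
    have hd : charDegree χ = charDegree ρ.character * charDegree β := by
      have h1 := e' 1
      rw [map_one, apply_one hχ, map_one, apply_one hβ, hRc1, ← Nat.cast_mul, Nat.cast_inj, mul_comm] at h1
      exact h1
    refine ⟨⟨⟨β, hβ⟩, by show P _; rw [← hd]; exact hP, hl2⟩, ?_⟩
    apply Subtype.ext; apply Subtype.ext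
    funext h
    obtain ⟨γ, rfl⟩ := hπH h
    rw [hF]
    exact (e' γ).symm

end CfsgLib.RelMcKay
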