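import Cfsg.Agent.Lib.RelMcKay.Decompose
import Cfsg.Agent.Lib.RelMcKay.Triple
import Cfsg.Agent.Lib.RelMcKay.Pairing

/-!
Transfer lemmas for counts of characters.
-/

set_option autoImplicit false
set_option linter.style.haveILetI false
set_option linter.unusedSectionVars false

namespace CfsgLib.RelMcKay

open Cfsg CfsgLib.CharTheory CfsgLib.Glauberman CfsgLib.Glauberman.NormalSylow

universe u

variable {G : Type u} [Group G]

theorem conjNormFun_eq_iff (K : Subgroup G) [hK : K.Normal] (g : G) (θ θ' : K → ℂ) :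
    conjNormFun K g θ = θ' ↔ Rel g K θ' θ := by
  constructor
  · rintro rfl k k' e
    exact congrArg θ (Subtype.ext e)
  · intro h
    funext k
    exact h k ⟨g * k * g⁻¹, hK.conj_mem k k.2 g⟩ rfl

theorem inertia_eq_stab (K : Subgroup G) [K.Normal] (θ : K → ℂ) : inertia K θ = stab K θ := by
  ext g
  rw [mem_inertia, conjNormFun_eq_iff, mem_stab]
  exact ⟨fun h => ⟨by rw [Subgroup.normalizer_eq_top]; trivial, h⟩, fun h => h.2⟩

theorem cnt_top (K : Subgroup G) (θ : K → ℂ) (P : ℕ → Prop) :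
    cnt (Subgroup.inclusion (le_top : K ≤ ⊤)) θ P = cnt K.subtype θ P :=
  cnt_congr (ι := Subgroup.inclusion (le_top : K ≤ ⊤)) (ι' := K.subtype) (θ := θ) (θ' := θ)
    (MulEquiv.refl K) Subgroup.topEquiv (fun _ => rfl) (fun _ => rfl) P

theorem cnt_le {K H₁ H₂ : Subgroup G} (h : H₁ = H₂) (hK : K ≤ H₁) (θ : K → ℂ) (P : ℕ → Prop) :
    cnt (Subgroup.inclusion hK) θ P = cnt (Subgroup.inclusion (h ▸ hK : K ≤ H₂)) θ P := by
  subst h
  rfl

theorem cnt_conj (K : Subgroup G) [K.Normal] (g : G) (θ : K → ℂ) (P : ℕ → Prop) :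
    cnt K.subtype (conjNormFun K g θ) P = cnt K.subtype θ P :=
  cnt_congr (ι := K.subtype) (ι' := K.subtype) (θ := conjNormFun K g θ) (θ' := θ)
    (MulAut.conjNormal g) (MulAut.conj g) (fun k => (MulAut.conjNormal_apply g k).symm)
    (fun k => congrArg θ (Subtype.ext (MulAut.conjNormal_apply g k).symm)) P

theorem cnt_eq_zero {A : Type u} [Group A] (ι : A →* G) (θ : A → ℂ) (P : ℕ → Prop)
    (h : ∀ χ : IrrCharacter G, Lies ι θ (χ : G → ℂ) → ¬ P (charDegree (χ : G → ℂ))) : cnt ι θ P = 0 := by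
  haveI : IsEmpty {χ : IrrCharacter G // P (charDegree (χ : G → ℂ)) ∧ Lies ι θ (χ : G → ℂ)} :=
    ⟨fun χ => h χ.1 χ.2.2 χ.2.1⟩
  exact Nat.card_of_isEmpty

variable [Finite G]

/-- Clifford's correspondence below a normalising subgroup. -/
theorem cnt_clifford' {K H : Subgroup G} (hKH : K ≤ H) (hn : H ≤ Subgroup.normalizer (K : Set G))
    (θ : IrrCharacter K) (P : ℕ → Prop) :
    cnt (Subgroup.inclusion hKH) (θ : K → ℂ) P =
      cnt (Subgroup.inclusion (le_inf hKH (le_stab θ))) (θ : K → ℂ)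
        (fun d => P ((H ⊓ stab K (θ : K → ℂ)).relIndex H * d)) := by
  haveI := normal_of_le hKH hn
  have hKT : K ≤ H ⊓ stab K (θ : K → ℂ) := le_inf hKH (le_stab θ)
  let eK : K ≃* K.subgroupOf H := (Subgroup.subgroupOfEquivOfLe hKH).symm
  let eT : ↥(H ⊓ stab K (θ : K → ℂ)) ≃* (H ⊓ stab K (θ : K → ℂ)).subgroupOf H :=
    (Subgroup.subgroupOfEquivOfLe inf_le_left).symm
  have hKT' : K.subgroupOf H ≤ (H ⊓ stab K (θ : K → ℂ)).subgroupOf H := fun x hx =>
    Subgroup.mem_subgroupOf.mpr (hKT (Subgroup.mem_subgroupOf.mp hx))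
  have hT : (H ⊓ stab K (θ : K → ℂ)).subgroupOf H = inertia (K.subgroupOf H) (down H (θ : K → ℂ)) := by
    ext g
    rw [Subgroup.mem_subgroupOf, mem_inertia]
    constructor
    · intro hg
      funext x
      exact (hg.2).2 ⟨((x : H) : G), Subgroup.mem_subgroupOf.1 x.2⟩
        ⟨(g : G) * ((x : H) : G) * (g : G)⁻¹, norm_conj (hn g.2) (Subgroup.mem_subgroupOf.1 x.2)⟩ rfl
    · intro hg
      refine ⟨g.2, hn g.2, fun k k' e => ?_⟩
      have h1 := congrFun hg ⟨⟨k, hKH k.2⟩, Subgroup.mem_subgroupOf.2 k.2⟩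
      rw [show (θ : K → ℂ) k' = _ from congrArg (θ : K → ℂ) (Subtype.ext e : k' = ⟨_, norm_conj (hn g.2) k.2⟩)]
      exact h1
  haveI := Fintype.ofFinite H
  haveI := Fintype.ofFinite (K.subgroupOf H)
  haveI := Fintype.ofFinite ((H ⊓ stab K (θ : K → ℂ)).subgroupOf H)
  have h := cnt_clifford_aux (K.subgroupOf H) ((H ⊓ stab K (θ : K → ℂ)).subgroupOf H) hKT' (isIrr_down' hKH θ.2)
    hT P
  rw [cnt_congr (ι := Subgroup.inclusion hKH) (ι' := (K.subgroupOf H).subtype) (θ := (θ : K → ℂ))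
    (θ' := down H (θ : K → ℂ)) eK (MulEquiv.refl H) (fun k => rfl) (fun k => rfl) P, ← h]
  exact (cnt_congr (ι := Subgroup.inclusion hKT) (ι' := Subgroup.inclusion hKT') (θ := (θ : K → ℂ))
    (θ' := down H (θ : K → ℂ)) eK eT (fun k => rfl) (fun k => rfl) _).symm

theorem cnt_ker_congr {A B : Type u} [Group A] [Group B] (q : A →* B) {E₁ E₂ : Subgroup B} (h : E₁ = E₂)
    (θ : q.ker → ℂ) (P : ℕ → Prop) :
    cnt (Subgroup.inclusion (MonoidHom.ker_le_comap q E₁)) θ P =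
      cnt (Subgroup.inclusion (MonoidHom.ker_le_comap q E₂)) θ P := by
  subst h
  rfl

/-- Passing from `(T, J, ψ)` to a subgroup supplementing `J` on which `ψ` stays irreducible. -/
theorem cnt_triple {J T H K : Subgroup G} (hJT : J ≤ T) (hKJ : K ≤ J) (hKH : K ≤ H) (hHT : H ≤ T)
    (ψ : IrrCharacter J) (hTst : T ≤ stab J (ψ : J → ℂ)) (θ : IrrCharacter K)
    (hres : ∀ k : K, (ψ : J → ℂ) (Subgroup.inclusion hKJ k) = (θ : K → ℂ) k) (hint : H ⊓ J ≤ K)
    (hgen : T ≤ J ⊔ H) (P : ℕ → Prop) :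
    cnt (Subgroup.inclusion hJT) (ψ : J → ℂ) P = cnt (Subgroup.inclusion hKH) (θ : K → ℂ) P := by
  have hn : T ≤ Subgroup.normalizer (J : Set G) := fun t ht => (hTst ht).1
  haveI := normal_of_le hJT hn
  set N := J.subgroupOf T with hN
  obtain ⟨Δ, iG, iF, q, lam, -, -, hcnt⟩ :=
    exists_triple N (isIrr_down' hJT ψ.2) (invariant_down hJT hn _ hTst)
  set H' := H.subgroupOf T with hH'
  -- the character on the intersection
  let fK : K →* N.subgroupOf H' :=
    { toFun := fun k => ⟨⟨⟨k, hHT (hKH k.2)⟩, Subgroup.mem_subgroupOf.2 (hKH k.2)⟩,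
        Subgroup.mem_subgroupOf.2 (Subgroup.mem_subgroupOf.2 (hKJ k.2))⟩
      map_one' := rfl
      map_mul' := fun a b => rfl }
  have hfK : Function.Bijective fK := by
    refine ⟨fun a b e => Subtype.ext (congrArg (fun x : N.subgroupOf H' => (((x : H') : T) : G)) e), fun x => ?_⟩
    exact ⟨⟨(((x : H') : T) : G), hint (Subgroup.mem_inf.2 ⟨Subgroup.mem_subgroupOf.1 (x : H').2,
      Subgroup.mem_subgroupOf.1 (Subgroup.mem_subgroupOf.1 x.2)⟩)⟩, rfl⟩
  let eK : K ≃* N.subgroupOf H' := MulEquiv.ofBijective fK hfK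
  let θ' : N.subgroupOf H' → ℂ := fun k => down T (ψ : J → ℂ) ⟨((k : H') : T), Subgroup.mem_subgroupOf.mp k.2⟩
  have hθe : ∀ k : K, (θ : K → ℂ) k = θ' (eK k) := fun k => (hres k).symm
  have hθ' : IsIrrCharacter (N.subgroupOf H') θ' := by
    have e : θ' = fun x => (θ : K → ℂ) (eK.symm x) := funext fun x => by
      rw [hθe, MulEquiv.apply_symm_apply]
    rw [e]
    exact isIrrCharacter_comp_surjective θ.2 eK.symm.toMonoidHom eK.symm.surjective
  have hR := hcnt H' θ' hθ' (fun k => rfl) P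
  haveI := Fintype.ofFinite T
  let θt : N.subgroupOf (⊤ : Subgroup T) → ℂ := fun k =>
    down T (ψ : J → ℂ) ⟨((k : (⊤ : Subgroup T)) : T), Subgroup.mem_subgroupOf.mp k.2⟩
  have hL := hcnt ⊤ θt (isIrr_subgroupOf N le_top (isIrr_down' hJT ψ.2)) (fun k => rfl) P
  have hmap : (⊤ : Subgroup T).map (QuotientGroup.mk' N) = H'.map (QuotientGroup.mk' N) := by
    refine le_antisymm ?_ (Subgroup.map_mono le_top)
    rintro _ ⟨t, -, rfl⟩
    have ht : (t : G) ∈ J ⊔ H := hgen t.2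
    obtain ⟨j, hj, h, hh, e⟩ := mem_sup_of_le_normalizer (hHT.trans hn) ht
    refine ⟨⟨h, hHT hh⟩, Subgroup.mem_subgroupOf.2 hh, ?_⟩
    refine QuotientGroup.eq.mpr (Subgroup.mem_subgroupOf.2 ?_)
    show h⁻¹ * (t : G) ∈ J
    rw [← e, ← mul_assoc]
    exact norm_conj' (hn (hHT hh)) hj
  rw [cnt_ker_congr q hmap, ← hR] at hL
  refine Eq.trans ?_ (hL.trans ?_)
  · exact cnt_congr (ι := Subgroup.inclusion hJT) (ι' := (N.subgroupOf (⊤ : Subgroup T)).subtype)
      (θ := (ψ : J → ℂ)) (θ' := θt)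
      ((Subgroup.subgroupOfEquivOfLe hJT).symm.trans (Subgroup.subgroupOfEquivOfLe le_top).symm)
      Subgroup.topEquiv.symm (fun k => rfl) (fun k => rfl) P
  · exact (cnt_congr (ι := Subgroup.inclusion hKH) (ι' := (N.subgroupOf H').subtype) (θ := (θ : K → ℂ))
      (θ' := θ') eK (Subgroup.subgroupOfEquivOfLe hHT).symm (fun k => rfl) hθe P).symm

/-- Transitivity of lying over a character of a central subgroup. -/
theorem lies_trans_central {Z A B : Subgroup G} (hZA : Z ≤ A) (hAB : A ≤ B) (hc : Z ≤ Subgroup.center G)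
    (ψ : IrrCharacter A) (χ : IrrCharacter B) (hl : Lies (Subgroup.inclusion hAB) (ψ : A → ℂ) (χ : B → ℂ))
    (lam : Z →* ℂˣ) :
    Lies (Subgroup.inclusion (hZA.trans hAB)) (fun z => (lam z : ℂ)) (χ : B → ℂ) ↔
      Lies (Subgroup.inclusion hZA) (fun z => (lam z : ℂ)) (ψ : A → ℂ) := by
  obtain ⟨μ, hμ, hlμ⟩ := exists_central' (hZA.trans hAB) hc χ
  obtain ⟨μ', hμ', hlμ'⟩ := exists_central' hZA hc ψ
  rw [hlμ, hlμ']
  suffices μ = μ' by rw [this]
  refine MonoidHom.ext fun z => ?_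
  exact scalar_eq hAB hl (Subgroup.inclusion hZA z) (μ z) (μ' z)
    ⟨Nat.card Z, Nat.card_pos, by rw [← map_pow, pow_card_eq_one', map_one]⟩ (fun g => hμ z g) (fun g => hμ' z g)

variable {p : ℕ} [Fact p.Prime]

/-- The characters with property `deg` prime to `p` and over `lam`. -/
def Over (p : ℕ) {Z K : Subgroup G} (hZK : Z ≤ K) (lam : Z →* ℂˣ) (θ : IrrCharacter K) : Prop :=
  ¬ p ∣ charDegree (θ : K → ℂ) ∧ Lies (Subgroup.inclusion hZK) (fun z => (lam z : ℂ)) (θ : K → ℂ)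

theorem over_conj {Z K : Subgroup G} [hK : K.Normal] (hZK : Z ≤ K) (hc : Z ≤ Subgroup.center G)
    (lam : Z →* ℂˣ) {θ θ' : IrrCharacter K} (h : ConjTo K θ θ') (ho : Over p hZK lam θ) : Over p hZK lam θ' := by
  obtain ⟨g, hg⟩ := h
  unfold Over at ho ⊢
  rw [← hg]
  refine ⟨?_, ?_⟩
  · rw [rel_charDegree (g := g⁻¹) (H := K) (θ := (θ : K → ℂ)) (θ' := conjNormFun K g (θ : K → ℂ))
      (by rw [Subgroup.normalizer_eq_top]; trivial)
      (fun k k' e => congrArg (θ : K → ℂ) (Subtype.ext (by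
        show g * (k' : G) * g⁻¹ = k
        rw [e]; group)))]
    exact ho.1
  · have e : ∀ z : Z, conjNormFun K g (θ : K → ℂ) (Subgroup.inclusion hZK z) =
        (θ : K → ℂ) (Subgroup.inclusion hZK z) := fun z => congrArg (θ : K → ℂ) (Subtype.ext (by
      show g * (z : G) * g⁻¹ = z
      rw [Subgroup.mem_center_iff.1 (hc z.2) g, mul_inv_cancel_right]))
    have h2 := ho.2
    unfold Lies at h2 ⊢
    simp only [e]
    exact h2

/-- Splitting a count over the classes at `K`. -/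
theorem cnt_eq_sum (S : Sylow p G) {Z K H : Subgroup G} [K.Normal] (hc : Z ≤ Subgroup.center G) (hZK : Z ≤ K)
    (hKH : K ≤ H) (hSH : (S : Subgroup G) ≤ H) (hN : Subgroup.normalizer ((S : Subgroup G) : Set G) ≤ H)
    (lam : Z →* ℂˣ) [Fintype (Orb K (S : Subgroup G) (Over p hZK lam))] :
    cnt (Subgroup.inclusion (hZK.trans hKH)) (fun z => (lam z : ℂ)) (fun d => ¬ p ∣ d) =
      ∑ c : Orb K (S : Subgroup G) (Over p hZK lam),
        cnt (Subgroup.inclusion hKH) ((c.out.1 : IrrCharacter K) : K → ℂ) (fun d => ¬ p ∣ d) := by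
  rw [← decompose K S hKH hSH hN (Over p hZK lam) fun θ θ' h ho => over_conj hZK hc lam h ho]
  refine Nat.card_congr (Equiv.subtypeEquivRight fun χ => and_congr_right fun hd => ⟨fun hl θ hθ => ?_, fun hall => ?_⟩)
  · refine ⟨fun hp => hd (hp.trans ?_), (lies_trans_central hZK hKH hc θ χ hθ lam).1 hl⟩
    haveI := normal_of_le hKH (fun x _ => by rw [Subgroup.normalizer_eq_top]; trivial)
    exact (Dvd.intro_left _ rfl).trans
      (dvd_degree (K.subgroupOf H) (isIrr_down' hKH θ.2) χ.2 ((lies_down hKH _ _).1 hθ))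
  · obtain ⟨θ, hθ⟩ := exists_lies (Subgroup.inclusion hKH) χ.2
    exact (lies_trans_central hZK hKH hc θ χ hθ lam).2 (hall θ hθ).2

end CfsgLib.RelMcKay
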